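import Cfsg.Agent.TwoLength.Piece
import Cfsg.Agent.PLength.FrattiniModule
import Cfsg.Agent.Coprime.Basic
import Cfsg.Agent.Core.Solvable

/-!
Bryukhanova's theorem: a finite 2-solvable group has 2-length at most the derived length of its Sylow
2-subgroups.
-/

set_option autoImplicit false

open scoped TensorProduct

namespace Cfsg.Agent.TwoLength

open Subgroup
open scoped commutatorElement Pointwise
open Cfsg.Agent.HallHigman

universe u v w

section transport

variable {R : Type*} [Ring R] {R' : Type*} [Ring R'] {X : Type*} [Group X] {V : Type*} [AddCommGroup V]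
  [Module R V] {V' : Type*} [AddCommGroup V'] [Module R' V'] {ρ : X →* Module.End R V}
  {σ : X →* Module.End R' V'}

theorem lands_map_add (f : V →+ V') (hf : ∀ g v, f (ρ g v) = σ g (f v)) :
    ∀ {n : ℕ} {T : Subgroup X} {v : V}, Lands ρ ⊥ n T v → Lands σ ⊥ n T (f v)
  | 0, _, v, h => by
    rw [lands_zero_iff, Submodule.mem_bot] at h ⊢
    rw [h, map_zero]
  | n + 1, T, v, h => fun g hg => by
    rw [← hf, ← map_sub]
    exact lands_map_add f hf (h g hg)

variable {Y : Type*} [Group Y] (f : X →* Y) (φ : X → V) {τ : Y →* Module.End R V}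

/-- Differences of images are images of commutators. -/
theorem lands_of_comm {S : Submodule R V} {K : Subgroup X}
    (hadd : ∀ r ∈ K, ∀ s ∈ K, φ (r * s) = φ r + φ s) :
    ∀ (n : ℕ) (T : Subgroup X), (∀ g ∈ T, ∀ r ∈ K, g * r * g⁻¹ ∈ K ∧ τ (f g) (φ r) = φ (g * r * g⁻¹)) →
      ∀ r ∈ K ⊓ T, (∀ r' ∈ K ⊓ dser n T, ∀ g ∈ dser n T, φ ⁅g, r'⁆ ∈ S) → Lands τ S (n + 1) (T.map f) (φ r) := by
  intro n
  induction n with
  | zero =>
    rintro T hT r hr h _ ⟨g, hg, rfl⟩
    obtain ⟨hc, he⟩ := hT g hg r hr.1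
    have hcom : ⁅g, r⁆ ∈ K := by rw [commutatorElement_def]; exact K.mul_mem hc (K.inv_mem hr.1)
    rw [lands_zero_iff, he, show g * r * g⁻¹ = ⁅g, r⁆ * r by rw [commutatorElement_def, inv_mul_cancel_right],
      hadd _ hcom r hr.1, add_sub_cancel_right]
    exact h r hr g hg
  | succ n ih =>
    rintro T hT r hr h _ ⟨g, hg, rfl⟩
    obtain ⟨hc, he⟩ := hT g hg r hr.1
    have hcom : ⁅g, r⁆ ∈ K := by rw [commutatorElement_def]; exact K.mul_mem hc (K.inv_mem hr.1)
    rw [he, show g * r * g⁻¹ = ⁅g, r⁆ * r by rw [commutatorElement_def, inv_mul_cancel_right],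
      hadd _ hcom r hr.1, add_sub_cancel_right, ← map_commutator]
    exact ih ⁅T, T⁆ (fun g hg => hT g (commutator_le_of_self T hg)) _
      ⟨hcom, commutator_mem_commutator hg hr.2⟩ h

end transport

/-- Elements of order two in normalised subgroups. -/
theorem exists_central_involution {X : Type*} [Group X] [Finite X] {P K : Subgroup X} (hP : IsPGroup 2 P)
    (hKP : K ≤ P) (hPK : P ≤ normalizer (K : Set X)) (hne : K ≠ ⊥) :
    ∃ c ∈ K, c * c = 1 ∧ c ≠ 1 ∧ ∀ t ∈ P, Commute t c := by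
  haveI : Fact (Nat.Prime 2) := ⟨Nat.prime_two⟩
  haveI := hP.isNilpotent
  haveI : (K.subgroupOf P).Normal := (normal_subgroupOf_iff_le_normalizer hKP).2 hPK
  have hne' : K.subgroupOf P ≠ ⊥ := fun h => hne (by rw [← map_subgroupOf_eq_of_le hKP, h, Subgroup.map_bot])
  set Z := K.subgroupOf P ⊓ center P
  have hZ : Z ≠ ⊥ := Core.inf_center_ne_bot hne'
  obtain ⟨⟨y, hyZ⟩, hy⟩ := exists_prime_orderOf_dvd_card' (G := Z) 2 (by
    obtain ⟨j, hj⟩ := IsPGroup.iff_card.1 (hP.to_subgroup Z)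
    rcases Nat.eq_zero_or_pos j with rfl | hj0
    · exact absurd (card_eq_one.1 (by rw [hj, pow_zero])) hZ
    · exact hj ▸ dvd_pow_self 2 hj0.ne')
  rw [orderOf_mk, orderOf_eq_prime_iff] at hy
  refine ⟨y, hyZ.1, ?_, fun h => hy.2 (Subtype.ext h), fun t ht => ?_⟩
  · rw [← pow_two, ← SubgroupClass.coe_pow, hy.1]; rfl
  · exact congrArg Subtype.val (mem_center_iff.1 hyZ.2 ⟨t, ht⟩)

section core

variable {k : Type w} [Field k] [CharP k 2] [IsAlgClosed k] {V : Type v} [AddCommGroup V] [Module k V]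
  [FiniteDimensional k V] {X : Type u} [Group X] [Finite X] {σ : X →* Module.End k V}

/-- The conclusions of the piece, for a given central involution of the last derived term. -/
theorem exists_key (hinj : Function.Injective σ) {P R₀ N : Subgroup X} [N.Normal] (hP : IsPGroup 2 P)
    (hN : (Nat.card N).Coprime 2) (hNC : centralizer (N : Set X) ≤ N) (hR : R₀ ≤ P)
    (hPR : P ≤ normalizer (R₀ : Set X)) {m : ℕ} (hL : ∀ v, Lands σ ⊥ (m + 2) P v) {c : X}
    (hc : c ∈ dser (m + 1) P) (hc2 : c * c = 1) (hc1 : c ≠ 1) (hcent : ∀ t ∈ P, Commute t c) :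
    ∃ (S : Subgroup X) (E : Submodule k V), dser m P ≤ S ∧ S ≤ P ∧ (∀ g ∈ S, ∀ v ∈ E, σ g v ∈ E) ∧
      (∃ v ∈ E, σ c v ≠ v) ∧
      (∀ t ∈ dser m P, (∀ v ∈ E, σ t (σ t v) = v) → (∀ v ∈ E, σ t v = v) ∨ ∀ v ∈ E, σ t v = σ c v) ∧
      (∀ t ∈ dser (m + 1) P, ∀ v ∈ E, σ t (σ t v) = v) ∧
      ∀ y ∈ normalizer (R₀ : Set X), ∀ a ∈ dser (m + 1) P, a ∈ R₀ → y * a * y⁻¹ ∈ S := by
  haveI : Fact (Nat.Prime 2) := ⟨Nat.prime_two⟩
  have hcP : c ∈ P := dser_le_self _ P hc
  have hPN : (Nat.card P).Coprime (Nat.card N) := by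
    obtain ⟨j, hj⟩ := IsPGroup.iff_card.1 hP
    rw [hj]
    exact Nat.Coprime.pow_left j hN.symm
  have hcN : ¬ N ≤ centralizer ({c} : Set X) := fun hle => hc1 (by
    have h1 : c ∈ N ⊓ P :=
      ⟨hNC (mem_centralizer_iff.2 fun d hd => mem_centralizer_singleton_iff.1 (hle hd)), hcP⟩
    rwa [inf_eq_bot_of_coprime hPN.symm, mem_bot] at h1)
  obtain ⟨q, hq, Q, hQP, hQc⟩ : ∃ (q : ℕ) (_ : Fact q.Prime) (Q : Sylow q N),
      P ≤ normalizer ((Q : Subgroup N).map N.subtype : Set X) ∧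
      ¬ (Q : Subgroup N).map N.subtype ≤ centralizer ({c} : Set X) := by
    by_contra hall
    push Not at hall
    refine hcN (subgroupOf_eq_top.1 (index_eq_one.1 ?_))
    by_contra hne'
    obtain ⟨q, hq, hqd⟩ := Nat.exists_prime_and_dvd hne'
    haveI := Fact.mk hq
    obtain ⟨Q, hQ⟩ := Coprime.exists_invariant_sylow (A := P) (K := N) le_normalizer_of_normal hPN
      (Or.inl (haveI := hP.isNilpotent; inferInstance)) q
    exact Q.not_dvd_index (hqd.trans (index_dvd_of_le fun w hw =>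
      hall q ⟨hq⟩ Q hQ (mem_map_of_mem N.subtype hw)))
  haveI := hq
  set Q' := (Q : Subgroup N).map N.subtype with hQ'
  have hQq : IsPGroup q Q' := Q.2.map _
  have hq2 : q ≠ 2 := by
    rintro rfl
    obtain ⟨j, hj⟩ := IsPGroup.iff_card.1 hQq
    have h1 : (Nat.card Q').Coprime 2 := hN.coprime_dvd_left (card_dvd_of_le (map_subtype_le _))
    rcases Nat.eq_zero_or_pos j with rfl | hj0
    · exact hQc (by rw [card_eq_one.1 (by rw [hj, pow_zero] : Nat.card Q' = 1)]; exact bot_le)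
    · rw [hj] at h1
      exact absurd ((Nat.coprime_pow_left_iff hj0 2 2).1 h1) (by simp)
  set X₃ := normalizer (Q' : Set X) ⊓ normalizer (R₀ : Set X) with hX₃
  have hPX₃ : P ≤ X₃ := le_inf hQP hPR
  -- a minimal invariant subgroup moved by the conjugates of `c`
  let P' : Subgroup X → Prop := fun C =>
    C ≤ Q' ∧ X₃ ≤ normalizer (C : Set X) ∧ ∃ y ∈ X₃, ∃ u ∈ C, ¬ Commute (y * c * y⁻¹) u
  obtain ⟨C, ⟨⟨hCQ, hXC, y₀, hy₀, u₀, hu₀, hmove⟩, hmin⟩⟩ : ∃ C, Minimal P' C := by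
    refine exists_minimal_of_wellFoundedLT P' ⟨Q', le_rfl, inf_le_left, ?_⟩
    obtain ⟨u, hu, hne⟩ := SetLike.not_le_iff_exists.1 hQc
    exact ⟨1, one_mem _, u, hu, fun h => hne (mem_centralizer_singleton_iff.2 (by simpa using h.symm.eq))⟩
  have hCq : IsPGroup q C := hQq.to_le hCQ
  set D := ⁅C, C⁆ with hD
  have hDC : D ≤ C := commutator_le_of_self C
  have hXD : X₃ ≤ normalizer (D : Set X) := fun y hy => by
    rw [mem_normalizer_iff_map_conj_eq, hD, map_commutator, mem_normalizer_iff_map_conj_eq.1 (hXC hy)]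
  have hDlt : D ≠ C := fun h => by
    have hne : C ≠ ⊥ := fun h0 => hmove (by
      rw [h0, mem_bot] at hu₀
      rw [hu₀]; exact Commute.one_right _)
    exact (Coprime.commutator_lt_of_isPGroup hCq hCq le_normalizer hne).ne h
  have hfixD : ∀ y ∈ X₃, ∀ d ∈ D, Commute (y * c * y⁻¹) d := fun y hy d hd => by
    by_contra hne
    exact hDlt (le_antisymm hDC (hmin ⟨hDC.trans hCQ, hXD, y, hy, d, hd, hne⟩ hDC))
  set C₀ := C ⊓ centralizer (D : Set X) with hC₀
  have hC₀eq : C ≤ C₀ := by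
    by_contra hne
    have hXC₀ : X₃ ≤ normalizer (C₀ : Set X) :=
      Coprime.le_normalizer_inf hXC (Coprime.le_normalizer_centralizer hXD)
    have hfix : ∀ y ∈ X₃, ∀ u ∈ C₀, Commute (y * c * y⁻¹) u := fun y hy u hu => by
      by_contra hne'
      exact hne (hmin ⟨inf_le_left.trans hCQ, hXC₀, y, hy, u, hu, hne'⟩ inf_le_left)
    refine hmove ?_
    set c' := y₀ * c * y₀⁻¹ with hc'
    have hc'X : c' ∈ X₃ := mul_mem (mul_mem hy₀ (hPX₃ hcP)) (inv_mem hy₀)
    have hc'2 : c' * c' = 1 := by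
      rw [hc', show y₀ * c * y₀⁻¹ * (y₀ * c * y₀⁻¹) = y₀ * (c * c) * y₀⁻¹ by group, hc2, mul_one, mul_inv_cancel]
    set z := u₀⁻¹ * (c' * u₀ * c'⁻¹) with hz
    have hzC : z ∈ C := C.mul_mem (C.inv_mem hu₀) ((mem_normalizer_iff.1 (hXC hc'X) u₀).1 hu₀)
    have hzD : z ∈ C₀ := ⟨hzC, mem_centralizer_iff.2 fun d hd => by
      have hu : u₀ * d * u₀⁻¹ ∈ D := (mem_normalizer_iff.1 (le_normalizer_dser 1 C hu₀) d).1 hd
      have e1 : c' * d * c'⁻¹ = d := by rw [(hfixD y₀ hy₀ d hd).eq, mul_inv_cancel_right]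
      have e2 : c' * (u₀ * d * u₀⁻¹) * c'⁻¹ = u₀ * d * u₀⁻¹ := by
        rw [(hfixD y₀ hy₀ _ hu).eq, mul_inv_cancel_right]
      have e3 : z * d * z⁻¹ = d := by
        calc z * d * z⁻¹ = u₀⁻¹ * (c' * (u₀ * (c'⁻¹ * d * c') * u₀⁻¹) * c'⁻¹) * u₀ := by rw [hz]; group
          _ = u₀⁻¹ * (c' * (u₀ * d * u₀⁻¹) * c'⁻¹) * u₀ := by
            rw [show c'⁻¹ * d * c' = d by rw [inv_eq_of_mul_eq_one_right hc'2]; rwa [inv_eq_of_mul_eq_one_right hc'2] at e1]
          _ = d := by rw [e2]; group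
      exact (mul_inv_eq_iff_eq_mul.1 e3).symm⟩
    have hcz := hfix y₀ hy₀ z hzD
    have h1 : c' * u₀ * c'⁻¹ = u₀ * z := by rw [hz, mul_inv_cancel_left]
    have h2 : u₀ = u₀ * (z * z) := by
      calc u₀ = (c' * c') * u₀ * (c' * c')⁻¹ := by rw [hc'2]; group
        _ = c' * (c' * u₀ * c'⁻¹) * c'⁻¹ := by group
        _ = (c' * u₀ * c'⁻¹) * (c' * z * c'⁻¹) := by
          conv_lhs => rw [h1]
          group
        _ = u₀ * (z * z) := by rw [h1, hcz.eq, mul_inv_cancel_right, mul_assoc]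
    have hz1 : z = 1 := eq_one_of_sq hq2 hCq hzC (left_eq_mul.1 h2)
    rw [hz1, mul_one] at h1
    exact mul_inv_eq_iff_eq_mul.1 h1
  have hC2 : ∀ u ∈ C, ∀ v ∈ C, ∀ x ∈ C, Commute ⁅u, v⁆ x := fun u hu v hv x hx =>
    mem_centralizer_iff.1 (hC₀eq hx).2 _ (commutator_mem_commutator hu hv)
  obtain ⟨S, E, hBS, hfixS, hSP, hES, hEc, hinv, hsq⟩ := exists_piece hq2 hinj hP hCq (hPX₃.trans hXC) hC2 hL hc
    hc2 hcent ⟨y₀⁻¹ * u₀ * y₀, (mem_normalizer_iff''.1 (hXC hy₀) u₀).1 hu₀, fun h => hmove (by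
      have := (Commute.conj_iff y₀).2 h
      rwa [show y₀ * (y₀⁻¹ * u₀ * y₀) * y₀⁻¹ = u₀ by group] at this)⟩
  refine ⟨S, E, hBS, hSP, hES, hEc, hinv, hsq, fun y hy a ha haR => ?_⟩
  -- move to an element normalising `Q'`
  set α := (MulAut.conjNormal y : MulAut N) with hα
  have hR₀N : R₀ ≤ normalizer (((α • Q : Sylow q N) : Subgroup N).map N.subtype : Set X) := by
    intro r hr
    have hr' : y⁻¹ * r * y ∈ normalizer (Q' : Set X) :=
      hQP (hR ((mem_normalizer_iff''.1 hy r).1 hr))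
    rw [show ((α • Q : Sylow q N) : Subgroup N).map N.subtype = MulAut.conj y • Q' from ?_]
    · rw [mem_normalizer_iff_map_conj_eq]
      show MulAut.conj r • (MulAut.conj y • Q') = MulAut.conj y • Q'
      have h' : MulAut.conj (y⁻¹ * r * y) • Q' = Q' := mem_normalizer_iff_map_conj_eq.1 hr'
      conv_rhs => rw [← h', smul_smul, ← map_mul, show y * (y⁻¹ * r * y) = r * y by group, map_mul, ← smul_smul]
    · rw [Sylow.pointwise_smul_def]
      show ((Q : Subgroup N).map α.toMonoidHom).map N.subtype =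
        ((Q : Subgroup N).map N.subtype).map (MulAut.conj y).toMonoidHom
      rw [Subgroup.map_map, Subgroup.map_map]
      rfl
  obtain ⟨n, hnR, hnQ⟩ := Coprime.exists_centralizer_conj_sylow (A := R₀) (K := N) le_normalizer_of_normal
    (hPN.coprime_dvd_left (card_dvd_of_le hR)) (Or.inl (haveI := (hP.to_le hR).isNilpotent; inferInstance))
    Q (α • Q) (hR.trans hQP) hR₀N
  set y₃ := (n : X)⁻¹ * y with hy₃
  have hnc : ∀ r ∈ R₀, Commute (n : X) r := fun r hr => (mem_centralizer_iff.1 hnR r hr).symm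
  have hy₃Q : y₃ ∈ normalizer (Q' : Set X) := by
    have h2 : MulAut.conj (n : X) • Q' = MulAut.conj y • Q' := by
      have h := congrArg (fun Q₁ : Sylow q N => (Q₁ : Subgroup N).map N.subtype) hnQ
      show Q'.map (MulAut.conj (n : X)).toMonoidHom = Q'.map (MulAut.conj y).toMonoidHom
      rw [hQ', Subgroup.map_map, Subgroup.map_map]
      simp only [Sylow.pointwise_smul_def] at h
      change ((Q : Subgroup N).map (MulAut.conj n).toMonoidHom).map N.subtype =
        ((Q : Subgroup N).map α.toMonoidHom).map N.subtype at h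
      rw [Subgroup.map_map, Subgroup.map_map] at h
      exact h
    rw [mem_normalizer_iff_map_conj_eq]
    show MulAut.conj y₃ • Q' = Q'
    rw [hy₃, map_mul, ← smul_smul, ← h2, smul_smul, ← map_mul, inv_mul_cancel, map_one, one_smul]
  have hnN : (n : X) ∈ normalizer (R₀ : Set X) := centralizer_le_normalizer _ hnR
  have hy₃X : y₃ ∈ X₃ := ⟨hy₃Q, (normalizer (R₀ : Set X)).mul_mem ((normalizer (R₀ : Set X)).inv_mem hnN) hy⟩
  have hzR : y₃ * a * y₃⁻¹ ∈ R₀ := (mem_normalizer_iff.1 hy₃X.2 a).1 haR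
  rw [show y * a * y⁻¹ = n * (y₃ * a * y₃⁻¹) * (n : X)⁻¹ by rw [hy₃]; group, (hnc _ hzR).eq, mul_inv_cancel_right]
  refine hfixS _ (hR hzR) fun W hW => ?_
  -- conjugates of the last derived term fix every class
  refine fix_class (n := m + 2) (P := P.map (MulAut.conj y₃).toMonoidHom) (hP.map _) ?_ ?_ hW ?_
  · rintro _ ⟨t, ht, rfl⟩
    exact hXC (mul_mem (mul_mem hy₃X (hPX₃ ht)) (inv_mem hy₃X))
  · intro v
    rw [show v = σ y₃ (σ y₃⁻¹ v) by rw [apply_inv_apply]]
    exact (hL _).conj fun s hs => by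
      rw [Submodule.mem_bot] at hs ⊢
      rw [hs, map_zero]
  · rw [show m + 2 - 1 = m + 1 by omega, ← map_dser]
    exact ⟨a, ha, rfl⟩

/-- The last derived term is elementary abelian, centralised by the involutions before it, and commutes
with its conjugates in `R₀`. -/
theorem core (hinj : Function.Injective σ) {P R₀ N : Subgroup X} [N.Normal] (hP : IsPGroup 2 P)
    (hN : (Nat.card N).Coprime 2) (hNC : centralizer (N : Set X) ≤ N) (hR : R₀ ≤ P)
    (hPR : P ≤ normalizer (R₀ : Set X)) {m : ℕ} (hL : ∀ v, Lands σ ⊥ (m + 2) P v) :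
    (∀ a ∈ dser (m + 1) P, a * a = 1) ∧ (∀ t ∈ dser m P, t * t = 1 → ∀ u ∈ dser m P, Commute t u) ∧
      ∀ a ∈ dser (m + 1) P, a ∈ R₀ → ∀ a' ∈ dser (m + 1) P, a' ∈ R₀ → ∀ y ∈ normalizer (R₀ : Set X),
        Commute a (y * a' * y⁻¹) := by
  set A := dser (m + 1) P with hA
  set B := dser m P with hB
  have hAP : A ≤ P := dser_le_self _ P
  have hBP : B ≤ P := dser_le_self _ P
  have hAB : A ≤ B := dser_antitone (Nat.le_succ m) P
  have hconjA : ∀ t ∈ P, ∀ x ∈ A, t * x * t⁻¹ ∈ A := fun t ht x hx =>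
    (mem_normalizer_iff.1 (le_normalizer_dser _ P ht) x).1 hx
  have hconjB : ∀ t ∈ P, ∀ x ∈ B, t * x * t⁻¹ ∈ B := fun t ht x hx =>
    (mem_normalizer_iff.1 (le_normalizer_dser _ P ht) x).1 hx
  -- elements trivial on every piece are trivial
  have hgen : ∀ s : Set X, s ⊆ A → (∀ t ∈ P, ∀ x ∈ s, t * x * t⁻¹ ∈ s) →
      (∀ (c : X) (S : Subgroup X) (E : Submodule k V), (∀ t ∈ P, Commute t c) → B ≤ S → S ≤ P →
        (∀ g ∈ S, ∀ v ∈ E, σ g v ∈ E) →
        (∀ t ∈ B, (∀ v ∈ E, σ t (σ t v) = v) → ∀ g ∈ S, ∀ v ∈ E, σ t (σ g v) = σ g (σ t v)) →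
        (∀ t ∈ A, ∀ v ∈ E, σ t (σ t v) = v) →
        (∀ y ∈ normalizer (R₀ : Set X), ∀ a ∈ A, a ∈ R₀ → y * a * y⁻¹ ∈ S) →
        ∀ x ∈ s, ∀ v ∈ E, σ x v = v) →
      ∀ x ∈ s, x = 1 := by
    intro s hsA hsP hs x hx
    by_contra hne
    have hKA : closure s ≤ A := (closure_le A).2 hsA
    obtain ⟨c, hcK, hc2, hc1, hcc⟩ := exists_central_involution hP (hKA.trans hAP) (fun t ht => by
        refine mem_normalizer_iff_map_conj_eq.2 (Subgroup.eq_of_le_of_card_ge ?_
          (card_map_of_injective (MulAut.conj t).injective).ge)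
        rw [MonoidHom.map_closure, closure_le]
        rintro _ ⟨z, hz, rfl⟩
        exact subset_closure (hsP t ht z hz)) fun h => hne (by
          have := subset_closure (k := s) hx
          rwa [h, SetLike.mem_coe, mem_bot] at this)
    obtain ⟨S, E, hBS, hSP, hES, ⟨v, hv, hvc⟩, hinv, hsq, hy⟩ :=
      exists_key hinj hP hN hNC hR hPR hL (hKA hcK) hc2 hc1 hcc
    have hcS : c ∈ S := hBS (hAB (hKA hcK))
    have hcom : ∀ t ∈ B, (∀ v ∈ E, σ t (σ t v) = v) → ∀ g ∈ S, ∀ v ∈ E, σ t (σ g v) = σ g (σ t v) := by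
      intro t ht ht2 g hg v hv
      rcases hinv t ht ht2 with h | h
      · rw [h _ (hES g hg v hv), h v hv]
      · rw [h _ (hES g hg v hv), h v hv, ← Module.End.mul_apply (σ c) (σ g), ← map_mul, ← (hcc g (hSP hg)).eq,
          map_mul, Module.End.mul_apply]
    let Z : Subgroup X :=
      { carrier := {g | g ∈ S ∧ ∀ v ∈ E, σ g v = v}
        mul_mem' := fun {g g'} hg hg' => ⟨S.mul_mem hg.1 hg'.1, fun v hv => by
          rw [map_mul, Module.End.mul_apply, hg'.2 v hv, hg.2 v hv]⟩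
        one_mem' := ⟨S.one_mem, fun v _ => by rw [map_one, Module.End.one_apply]⟩
        inv_mem' := fun {g} hg => ⟨S.inv_mem hg.1, fun v hv => by
          conv_lhs => rw [← hg.2 v hv]
          rw [inv_apply_apply]⟩ }
    have hKZ : closure s ≤ Z := (closure_le Z).2 fun z hz =>
      ⟨hBS (hAB (hsA hz)), hs c S E hcc hBS hSP hES hcom hsq hy z hz⟩
    exact hvc ((hKZ hcK).2 v hv)
  have hcomm_fix : ∀ (S : Subgroup X) (E : Submodule k V), (∀ g ∈ S, ∀ v ∈ E, σ g v ∈ E) → ∀ t ∈ S, ∀ g ∈ S,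
      (∀ v ∈ E, σ t (σ g v) = σ g (σ t v)) → ∀ v ∈ E, σ ⁅t, g⁆ v = v := by
    intro S E hES t ht g hg h v hv
    rw [commutatorElement_def, map_mul, map_mul, map_mul, Module.End.mul_apply, Module.End.mul_apply,
      Module.End.mul_apply, h _ (hES _ (S.inv_mem ht) _ (hES _ (S.inv_mem hg) v hv)), apply_inv_apply,
      apply_inv_apply]
  have h1 : ∀ a ∈ A, a * a = 1 := fun a ha =>
    hgen {x | ∃ a ∈ A, x = a * a} (by rintro _ ⟨a, ha, rfl⟩; exact A.mul_mem ha ha)
      (by rintro t ht _ ⟨a, ha, rfl⟩; exact ⟨_, hconjA t ht a ha, by group⟩)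
      (by
        rintro c S E - - - - - hsq - _ ⟨a, ha, rfl⟩ v hv
        rw [map_mul, Module.End.mul_apply]
        exact hsq a ha v hv) _ ⟨a, ha, rfl⟩
  refine ⟨h1, fun t ht ht2 u hu => commutatorElement_eq_one_iff_commute.1 ?_,
    fun a ha haR a' ha' haR' y hy => commutatorElement_eq_one_iff_commute.1 ?_⟩
  · refine hgen {x | ∃ t ∈ B, t * t = 1 ∧ ∃ u ∈ B, x = ⁅t, u⁆} ?_ ?_ ?_ _ ⟨t, ht, ht2, u, hu, rfl⟩
    · rintro _ ⟨t, ht, -, u, hu, rfl⟩
      rw [hA, dser_succ']
      exact commutator_mem_commutator ht hu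
    · rintro g hg _ ⟨t, ht, ht2, u, hu, rfl⟩
      refine ⟨_, hconjB g hg t ht, ?_, _, hconjB g hg u hu, ?_⟩
      · rw [show g * t * g⁻¹ * (g * t * g⁻¹) = g * (t * t) * g⁻¹ by group, ht2, mul_one, mul_inv_cancel]
      · rw [commutatorElement_def, commutatorElement_def]; group
    · rintro c S E - hBS - hES hcom - - _ ⟨t, ht, ht2, u, hu, rfl⟩ v hv
      exact hcomm_fix S E hES t (hBS ht) u (hBS hu) (hcom t ht (fun v _ => by
        rw [← Module.End.mul_apply, ← map_mul, ht2, map_one, Module.End.one_apply]) u (hBS hu)) v hv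
  · refine hgen {x | ∃ a ∈ A, a ∈ R₀ ∧ ∃ a' ∈ A, a' ∈ R₀ ∧ ∃ y ∈ normalizer (R₀ : Set X),
      x = ⁅a, y * a' * y⁻¹⁆} ?_ ?_ ?_ _ ⟨a, ha, haR, a', ha', haR', y, hy, rfl⟩
    · rintro _ ⟨a, ha, -, a', -, haR', y, hy, rfl⟩
      rw [commutatorElement_def, show a * (y * a' * y⁻¹) * a⁻¹ * (y * a' * y⁻¹)⁻¹ =
        a * ((y * a' * y⁻¹) * a⁻¹ * (y * a' * y⁻¹)⁻¹) by group]
      exact A.mul_mem ha (hconjA _ (hR ((mem_normalizer_iff.1 hy a').1 haR')) _ (A.inv_mem ha))
    · rintro g hg _ ⟨a, ha, haR, a', ha', haR', y, hy, rfl⟩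
      refine ⟨_, hconjA g hg a ha, (mem_normalizer_iff.1 (hPR hg) a).1 haR, a', ha', haR', g * y,
        mul_mem (hPR hg) hy, ?_⟩
      rw [commutatorElement_def, commutatorElement_def]; group
    · rintro c S E - hBS - hES hcom hsq hyS _ ⟨a, ha, -, a', ha', haR', y, hy, rfl⟩ v hv
      exact hcomm_fix S E hES a (hBS (hAB ha)) _ (hyS y hy a' ha' haR')
        (hcom a (hAB ha) (hsq a ha) _ (hyS y hy a' ha' haR')) v hv

end core

variable {X : Type u} [Group X] [Finite X]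

theorem pLengthLE_zero_of_sylow_bot (P : Sylow 2 X) (h : (P : Subgroup X) = ⊥) : Cfsg.PLengthLE 2 0 X := by
  haveI : Fact (Nat.Prime 2) := ⟨Nat.prime_two⟩
  refine PLength.pLengthLE_zero_of_coprime
    (Nat.Coprime.symm (Nat.prime_two.coprime_iff_not_dvd.2 fun hdv => ?_))
  exact P.ne_bot_of_dvd_card hdv h

/-- The induction: short differences bound the 2-length. -/
theorem pLengthLE_of_lands : ∀ (d : ℕ) (X : Type u) [Group X] [Finite X] (W : Type u) [AddCommGroup W]
    [Module (ZMod 2) W] [Finite W] (ρ : X →* Module.End (ZMod 2) W), Function.Injective ρ →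
    Cfsg.IsPSolvable 2 X → Cfsg.pCore 2 X = ⊥ → ∀ P : Sylow 2 X, (∀ v, Lands ρ ⊥ d (P : Subgroup X) v) →
    Cfsg.PLengthLE 2 (d - 1) X := by
  haveI : Fact (Nat.Prime 2) := ⟨Nat.prime_two⟩
  intro d
  induction d with
  | zero =>
    intro X _ _ W _ _ _ ρ hinj _ _ P hL
    refine pLengthLE_zero_of_sylow_bot P ((eq_bot_iff_forall _).2 fun g _ => hinj ?_)
    refine LinearMap.ext fun v => ?_
    rw [show v = 0 from hL v, map_zero, map_zero]
  | succ d ih =>
    intro X _ _ W _ _ _ ρ hinj hX hO P hL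
    rcases d with _ | m
    · refine pLengthLE_zero_of_sylow_bot P ((eq_bot_iff_forall _).2 fun g hg => hinj ?_)
      refine LinearMap.ext fun v => ?_
      rw [map_one, Module.End.one_apply]
      exact sub_eq_zero.1 ((Submodule.mem_bot _).1 (hL v g hg))
    -- extend the field
    let k := AlgebraicClosure (ZMod 2)
    haveI : CharP k 2 := charP_of_injective_algebraMap (algebraMap (ZMod 2) k).injective 2
    haveI : Module.Finite (ZMod 2) W := Module.Finite.of_finite
    let σ : X →* Module.End k (k ⊗[ZMod 2] W) :=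
      { toFun := fun g => (ρ g).baseChange k
        map_one' := by rw [map_one, Module.End.one_eq_id, LinearMap.baseChange_id]; rfl
        map_mul' := fun g h => by rw [map_mul]; exact LinearMap.baseChange_comp (ρ h) (ρ g) }
    let emb : W →+ k ⊗[ZMod 2] W := (TensorProduct.mk (ZMod 2) k W 1).toAddMonoidHom
    have hemb : ∀ g w, emb (ρ g w) = σ g (emb w) := fun g w => rfl
    have hσinj : Function.Injective σ := fun g h e => hinj (LinearMap.ext fun w => by
      refine Module.Flat.tensorProduct_mk_injective (R := ZMod 2) (S := k) W ?_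
      show emb (ρ g w) = emb (ρ h w)
      rw [hemb, hemb, e])
    have hσL : ∀ v, Lands σ ⊥ (m + 2) (P : Subgroup X) v := by
      intro v
      induction v using TensorProduct.induction_on with
      | zero => exact lands_zero_vec
      | add x y hx hy => exact hx.add hy
      | tmul c w =>
        rw [show c ⊗ₜ[ZMod 2] w = c • emb w from (by simp [emb, TensorProduct.smul_tmul'])]
        exact (lands_map_add emb hemb (hL w)).smul c
    set N := Cfsg.pPrimeCore 2 X with hN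
    have hNcop : (Nat.card N).Coprime 2 := Core.coprime_card_pPrimeCore
    set π := QuotientGroup.mk' N with hπ
    have hπs : Function.Surjective π := QuotientGroup.mk'_surjective N
    set O := Cfsg.pCore 2 (X ⧸ N) with hOdef
    set R₀ := (P : Subgroup X) ⊓ O.comap π with hR₀
    have hR₀P : R₀ ≤ (P : Subgroup X) := inf_le_left
    have hPR : (P : Subgroup X) ≤ normalizer (R₀ : Set X) :=
      Coprime.le_normalizer_inf le_normalizer le_normalizer_of_normal
    obtain ⟨hA2, hBinv, hAc⟩ := core hσinj P.2 hNcop (Core.centralizer_pPrimeCore_le hX hO) hR₀P hPR hσL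
    set A := dser (m + 1) (P : Subgroup X) with hA
    have hlift : ∀ r ∈ O, ∃ x ∈ R₀, π x = r := fun r hr => by
      obtain ⟨x, hx, rfl⟩ : r ∈ (P : Subgroup X).map π := Core.pCore_le_sylow (P.mapSurjective hπs) hr
      exact ⟨x, ⟨hx, hr⟩, rfl⟩
    have hcover : ∀ g : X, ∃ y ∈ normalizer (R₀ : Set X), π y = π g := by
      intro g
      have hB : R₀.map (MulAut.conj g).toMonoidHom ≤ N ⊔ R₀ := by
        rintro _ ⟨r, hr, rfl⟩
        obtain ⟨x, hx, e⟩ := hlift (π (g * r * g⁻¹)) (by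
          rw [map_mul, map_mul, map_inv]
          exact Core.pCore_normal.conj_mem _ hr.2 _)
        show g * r * g⁻¹ ∈ N ⊔ R₀
        rw [show g * r * g⁻¹ = g * r * g⁻¹ * x⁻¹ * x by group]
        exact mul_mem (mem_sup_left ((QuotientGroup.eq_one_iff _).1 (by
          show π (g * r * g⁻¹ * x⁻¹) = 1
          rw [map_mul, map_inv, e, mul_inv_cancel]))) (mem_sup_right hx)
      obtain ⟨n, hn, he⟩ := Coprime.exists_conj_eq (A := R₀) (K := N) le_normalizer_of_normal (by
          obtain ⟨j, hj⟩ := IsPGroup.iff_card.1 (P.2.to_le hR₀P)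
          rw [hj]
          exact Nat.Coprime.pow_left j hNcop.symm)
        (Or.inl (haveI := (P.2.to_le hR₀P).isNilpotent; inferInstance)) hB
        (card_map_of_injective (MulAut.conj g).injective)
      refine ⟨n * g, ?_, ?_⟩
      · rw [mem_normalizer_iff_map_conj_eq]
        show MulAut.conj (n * g) • R₀ = R₀
        rw [map_mul, ← smul_smul]
        exact he
      · rw [map_mul, show π n = 1 from (QuotientGroup.eq_one_iff n).2 hn, one_mul]
    -- the module of `X / N`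
    have hY := Layer.isPSolvable_of_surjective hX hπs
    obtain ⟨V, i1, i2, i3, ψ, ρY, ρ', hψ, hψs, hρY, hρ', hinj'⟩ :=
      PLength.exists_frattini_module hY (Core.pPrimeCore_quotient_eq_bot (G := X) (p := 2))
    classical
    let φ : X → V := fun x => if h : π x ∈ O then ψ ⟨π x, h⟩ else 0
    have hφ : ∀ x (h : π x ∈ O), φ x = ψ ⟨π x, h⟩ := fun x h => dif_pos h
    have hadd : ∀ r ∈ R₀, ∀ s ∈ R₀, φ (r * s) = φ r + φ s := fun r hr s hs => by
      have hrs : π (r * s) ∈ O := by rw [map_mul]; exact mul_mem hr.2 hs.2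
      rw [hφ r hr.2, hφ s hs.2, hφ _ hrs, ← hψ]
      congr 1
    have hφ1 : φ 1 = 0 := by
      have h := hadd 1 R₀.one_mem 1 R₀.one_mem
      rwa [mul_one, left_eq_add] at h
    have hequ : ∀ y ∈ normalizer (R₀ : Set X), ∀ r ∈ R₀,
        y * r * y⁻¹ ∈ R₀ ∧ ρY (π y) (φ r) = φ (y * r * y⁻¹) := fun y hy r hr => by
      have h1 := (mem_normalizer_iff.1 hy r).1 hr
      refine ⟨h1, ?_⟩
      rw [hφ r hr.2, hφ _ h1.2, hρY]
      congr 1
    have hφsurj : ∀ v, ∃ r ∈ R₀, φ r = v := fun v => by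
      obtain ⟨⟨r, hr⟩, rfl⟩ := hψs v
      obtain ⟨x, hx, rfl⟩ := hlift r hr
      exact ⟨x, hx, hφ x hr⟩
    -- the submodule of the last derived term
    let gens : Set X := {z | ∃ y ∈ normalizer (R₀ : Set X), ∃ a ∈ A, a ∈ R₀ ∧ z = y * a * y⁻¹}
    set M₀ := closure gens with hM₀
    have hM₀R : M₀ ≤ R₀ := (closure_le R₀).2 (by
      rintro _ ⟨y, hy, a, -, haR, rfl⟩
      exact (mem_normalizer_iff.1 hy a).1 haR)
    have hAM : ∀ a ∈ A, a ∈ R₀ → a ∈ M₀ := fun a ha haR =>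
      subset_closure ⟨1, one_mem _, a, ha, haR, by group⟩
    have hNM : normalizer (R₀ : Set X) ≤ normalizer (M₀ : Set X) := fun g hg => by
      refine mem_normalizer_iff_map_conj_eq.2 (Subgroup.eq_of_le_of_card_ge ?_
        (card_map_of_injective (MulAut.conj g).injective).ge)
      rw [hM₀, MonoidHom.map_closure, closure_le]
      rintro _ ⟨_, ⟨y, hy, a, ha, haR, rfl⟩, rfl⟩
      exact subset_closure ⟨g * y, mul_mem hg hy, a, ha, haR, by
        show g * (y * a * y⁻¹) * g⁻¹ = _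
        group⟩
    have hgc : ∀ z ∈ gens, ∀ z' ∈ gens, Commute z z' := by
      rintro _ ⟨y, hy, a, ha, haR, rfl⟩ _ ⟨y', hy', a', ha', haR', rfl⟩
      have h := (Commute.conj_iff y).2 (hAc a ha haR a' ha' haR' (y⁻¹ * y') (mul_mem (inv_mem hy) hy'))
      rwa [show y * (y⁻¹ * y' * a' * (y⁻¹ * y')⁻¹) * y⁻¹ = y' * a' * y'⁻¹ by group] at h
    have hMc : ∀ x ∈ M₀, ∀ x' ∈ M₀, Commute x x' := by
      have h2 : M₀ ≤ centralizer (M₀ : Set X) := by
        rw [le_centralizer_iff, hM₀, closure_le]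
        intro x hx
        rw [SetLike.mem_coe, mem_centralizer_iff]
        intro x' hx'
        have h3 : closure gens ≤ centralizer ({x} : Set X) :=
          (closure_le _).2 fun z hz => mem_centralizer_singleton_iff.2 (hgc z hz x hx).eq
        exact mem_centralizer_singleton_iff.1 (h3 hx')
      exact fun x hx x' hx' => mem_centralizer_iff.1 (h2 hx') x hx
    have hM2 : ∀ x ∈ M₀, x * x = 1 := by
      intro x hx
      induction hx using closure_induction with
      | mem x hx =>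
        obtain ⟨y, -, a, ha, -, rfl⟩ := hx
        rw [show y * a * y⁻¹ * (y * a * y⁻¹) = y * (a * a) * y⁻¹ by group, hA2 a ha, mul_one, mul_inv_cancel]
      | one => rw [mul_one]
      | mul x y hx hy hx' hy' =>
        rw [show x * y * (x * y) = x * (y * x) * y by group, (hMc y hy x hx).eq,
          show x * (x * y) * y = (x * x) * (y * y) by group, hx', hy', mul_one]
      | inv x _ hx' => rw [← mul_inv_rev, hx', inv_one]
    let Mv : Submodule (ZMod 2) V := AddSubgroup.toZModSubmodule 2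
      { carrier := φ '' (M₀ : Set X)
        add_mem' := by
          rintro _ _ ⟨x, hx, rfl⟩ ⟨y, hy, rfl⟩
          exact ⟨x * y, mul_mem hx hy, hadd x (hM₀R hx) y (hM₀R hy)⟩
        zero_mem' := ⟨1, one_mem _, hφ1⟩
        neg_mem' := by
          rintro _ ⟨x, hx, rfl⟩
          refine ⟨x⁻¹, inv_mem hx, eq_neg_of_add_eq_zero_left ?_⟩
          rw [← hadd _ (inv_mem (hM₀R hx)) x (hM₀R hx), inv_mul_cancel, hφ1] }
    have hmemMv : ∀ x ∈ M₀, φ x ∈ Mv := fun x hx => ⟨x, hx, rfl⟩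
    set O' := Cfsg.pCore 2 (X ⧸ N)
    set π' := QuotientGroup.mk' O'
    have hπ's : Function.Surjective π' := QuotientGroup.mk'_surjective _
    have hMvinv : ∀ g, ∀ v ∈ Mv, ρ' g v ∈ Mv := by
      intro g v hv
      obtain ⟨x, hx, rfl⟩ := hv
      obtain ⟨g₁, rfl⟩ := hπ's g
      obtain ⟨g₂, rfl⟩ := hπs g₁
      obtain ⟨y, hy, e⟩ := hcover g₂
      show ρ' (QuotientGroup.mk (π g₂)) (φ x) ∈ Mv
      rw [hρ', ← e, (hequ y hy x (hM₀R hx)).2]
      exact hmemMv _ ((mem_normalizer_iff.1 (hNM hy) x).1 hx)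
    let τ₁ : ((X ⧸ N) ⧸ O') →* Module.End (ZMod 2) Mv :=
      { toFun := fun g => (ρ' g).restrict (hMvinv g)
        map_one' := LinearMap.ext fun v => Subtype.ext (by simp)
        map_mul' := fun g h => LinearMap.ext fun v => Subtype.ext (by simp) }
    let τ₂ : ((X ⧸ N) ⧸ O') →* Module.End (ZMod 2) (V ⧸ Mv) :=
      { toFun := fun g => Mv.mapQ Mv (ρ' g) (fun v hv => hMvinv g v hv)
        map_one' := LinearMap.ext fun v => by
          obtain ⟨v, rfl⟩ := Submodule.Quotient.mk_surjective _ v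
          simp
        map_mul' := fun g h => LinearMap.ext fun v => by
          obtain ⟨v, rfl⟩ := Submodule.Quotient.mk_surjective _ v
          simp }
    let ρ'' : ((X ⧸ N) ⧸ O') →* Module.End (ZMod 2) (Mv × (V ⧸ Mv)) :=
      { toFun := fun g => (τ₁ g).prodMap (τ₂ g)
        map_one' := by rw [map_one, map_one]; exact LinearMap.prodMap_one
        map_mul' := fun g h => by rw [map_mul, map_mul]; exact (LinearMap.prodMap_mul _ _ _ _).symm }
    have hYO : Cfsg.pCore 2 ((X ⧸ N) ⧸ O') = ⊥ := Core.pCore_quotient_eq_bot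
    have hinj'' : Function.Injective ρ'' := by
      rw [← MonoidHom.ker_eq_bot_iff, eq_bot_iff, ← hYO]
      refine Core.le_pCore fun g => ⟨1, Subtype.ext (hinj' (LinearMap.ext fun v => ?_))⟩
      rw [pow_one, SubgroupClass.coe_pow, pow_two, map_mul, OneMemClass.coe_one, map_one, Module.End.mul_apply,
        Module.End.one_apply]
      have hk : ∀ x : Mv × (V ⧸ Mv), ρ'' g x = x := fun x => by rw [MonoidHom.mem_ker.1 g.2]; rfl
      have hmem : ρ' g v - v ∈ Mv := by
        have h := congrArg Prod.snd (hk (0, Submodule.Quotient.mk v))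
        exact (Submodule.Quotient.eq Mv).1 h
      have hfix : ∀ w ∈ Mv, ρ' g w = w := fun w hw =>
        congrArg (fun x : Mv × (V ⧸ Mv) => (x.1 : V)) (hk (⟨w, hw⟩, 0))
      have h := hfix _ hmem
      rw [map_sub, sub_eq_iff_eq_add] at h
      rw [h, sub_add_eq_add_sub, sub_eq_iff_eq_add]
      have e : ∀ u : V, u + u = 0 := fun u => by
        rw [← two_nsmul, ← Nat.cast_smul_eq_nsmul (ZMod 2), show ((2 : ℕ) : ZMod 2) = 0 from rfl, zero_smul]
      rw [e, e]
    -- the shorter differences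
    set T₂ := ((P : Subgroup X).map π).map π' with hT₂
    set f := π'.comp π
    have hT₂eq : (P : Subgroup X).map f = T₂ := (Subgroup.map_map _ _ _).symm
    have hequ' : ∀ g ∈ (P : Subgroup X), ∀ r ∈ R₀, g * r * g⁻¹ ∈ R₀ ∧ ρ' (f g) (φ r) = φ (g * r * g⁻¹) :=
      fun g hg r hr => by
        obtain ⟨h1, h2⟩ := hequ g (hPR hg) r hr
        exact ⟨h1, by rw [← h2, ← hρ']; rfl⟩
    have hL1 : ∀ v ∈ Mv, Lands ρ' ⊥ (m + 1) T₂ v := by
      rintro _ ⟨x, hx, rfl⟩
      rw [← hT₂eq]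
      refine lands_of_comm f φ (K := M₀) (fun r hr s hs => hadd r (hM₀R hr) s (hM₀R hs)) m _
        (fun g hg r hr => ⟨(mem_normalizer_iff.1 (hNM (hPR hg)) r).1 hr, (hequ' g hg r (hM₀R hr)).2⟩) x
        ⟨hx, hR₀P (hM₀R hx)⟩ fun r hr g hg => ?_
      rw [commutatorElement_eq_one_iff_commute.2 (hBinv r hr.2 (hM2 r hr.1) g hg).symm, hφ1]
      exact zero_mem _
    have hL2 : ∀ v, Lands ρ' Mv (m + 1) T₂ v := by
      intro v
      obtain ⟨r, hr, rfl⟩ := hφsurj v
      rw [← hT₂eq]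
      refine lands_of_comm f φ hadd m _ hequ' r ⟨hr, hR₀P hr⟩ fun r' hr' g hg => ?_
      refine hmemMv _ (hAM _ ?_ ?_)
      · rw [hA, dser_succ']
        exact commutator_mem_commutator hg hr'.2
      · rw [commutatorElement_def]
        exact mul_mem (hequ' g (dser_le_self _ _ hg) r' hr'.1).1 (inv_mem hr'.1)
    have hL3 : ∀ v, Lands ρ'' ⊥ (m + 1) T₂ v := by
      rintro ⟨v₁, v₂⟩
      have e : ((v₁, v₂) : Mv × (V ⧸ Mv)) = LinearMap.inl (ZMod 2) Mv (V ⧸ Mv) v₁ +
          LinearMap.inr (ZMod 2) Mv (V ⧸ Mv) v₂ := by simp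
      rw [e]
      refine Lands.add ?_ ?_
      · rw [← map_id T₂, lands_map_iff (ρ := ρ'') (σ := τ₁) (MonoidHom.id _) (LinearMap.inl (ZMod 2) Mv (V ⧸ Mv)) _ _ _
          (fun g _ w => Prod.ext rfl ((map_zero (τ₂ g)).symm))]
        have h1 := hL1 v₁ v₁.2
        rw [← map_id T₂, show (v₁ : V) = Mv.subtype v₁ from rfl, lands_map_iff (σ := τ₁) (MonoidHom.id _)
          Mv.subtype _ _ _ (fun g _ w => rfl)] at h1
        refine h1.mono le_rfl fun x hx => ?_
        rw [Submodule.mem_comap, Submodule.mem_bot] at hx ⊢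
        rw [(Subtype.ext hx : x = 0), map_zero]
      · rw [← map_id T₂, lands_map_iff (ρ := ρ'') (σ := τ₂) (MonoidHom.id _) (LinearMap.inr (ZMod 2) Mv (V ⧸ Mv)) _ _ _
          (fun g _ w => Prod.ext ((map_zero (τ₁ g)).symm) rfl)]
        obtain ⟨v, rfl⟩ := Submodule.Quotient.mk_surjective _ v₂
        rw [← map_id T₂, ← Submodule.mkQ_apply, lands_map_iff (σ := ρ') (MonoidHom.id _) Mv.mkQ _ _ _
          (fun g _ w => rfl)]
        refine (hL2 v).mono le_rfl fun x hx => ?_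
        simp only [Submodule.mem_comap, Submodule.mem_bot, Submodule.mkQ_apply,
          (Submodule.Quotient.mk_eq_zero Mv).2 hx, map_zero]
    haveI : Finite (V ⧸ Mv) := Finite.of_surjective _ Mv.mkQ_surjective
    have hlen : Cfsg.PLengthLE 2 m ((X ⧸ N) ⧸ O') :=
      ih _ _ ρ'' hinj'' (Layer.isPSolvable_of_surjective hY hπ's) hYO
        ((P.mapSurjective hπs).mapSurjective hπ's) hL3
    have h1 : Cfsg.PLengthLE 2 (1 + m) (X ⧸ N) :=
      PLength.of_extension O' (PLength.pLengthLE_one_of_isPGroup Core.pCore_isPGroup) hlen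
    have h2 := PLength.of_extension N (PLength.pLengthLE_zero_of_coprime Core.coprime_card_pPrimeCore) h1
    rwa [show 0 + (1 + m) = m + 1 + 1 - 1 by omega] at h2

/-- The 2-length is at most the derived length of a Sylow 2-subgroup. -/
theorem pLengthLE_derivedLength (hX : Cfsg.IsPSolvable 2 X) (d : ℕ)
    (hd : ∀ P : Sylow 2 X, derivedSeries (P : Subgroup X) d = ⊥) : Cfsg.PLengthLE 2 d X := by
  haveI : Fact (Nat.Prime 2) := ⟨Nat.prime_two⟩
  obtain ⟨P₀⟩ : Nonempty (Sylow 2 X) := inferInstance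
  have hdser : ∀ P : Sylow 2 X, dser d (P : Subgroup X) = ⊥ := fun P => by
    rw [← map_derivedSeries, hd P, Subgroup.map_bot]
  rcases d with _ | e
  · exact pLengthLE_zero_of_sylow_bot P₀ (hdser P₀)
  set U := Cfsg.pPrimeCore 2 X with hU
  set π := QuotientGroup.mk' U with hπ
  have hπs : Function.Surjective π := QuotientGroup.mk'_surjective U
  have hY := Layer.isPSolvable_of_surjective hX hπs
  set R := Cfsg.pCore 2 (X ⧸ U) with hR
  obtain ⟨V, i1, i2, i3, ψ, ρY, ρ', hψ, hψs, hρY, hρ', hinj'⟩ :=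
    PLength.exists_frattini_module hY (Core.pPrimeCore_quotient_eq_bot (G := X) (p := 2))
  set P := P₀.mapSurjective hπs with hPdef
  have hPd : dser (e + 1) (P : Subgroup (X ⧸ U)) = ⊥ := by
    rw [hPdef, Sylow.coe_mapSurjective, ← map_dser, hdser, Subgroup.map_bot]
  classical
  let φ : X ⧸ U → V := fun x => if h : x ∈ R then ψ ⟨x, h⟩ else 0
  have hφ : ∀ x (h : x ∈ R), φ x = ψ ⟨x, h⟩ := fun x h => dif_pos h
  set π' := QuotientGroup.mk' R
  have hπ's : Function.Surjective π' := QuotientGroup.mk'_surjective R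
  have hL : ∀ v, Lands ρ' ⊥ (e + 1) ((P : Subgroup (X ⧸ U)).map π') v := by
    intro v
    obtain ⟨⟨r, hr⟩, rfl⟩ := hψs v
    rw [← hφ r hr]
    refine lands_of_comm π' φ (K := R) (fun r hr s hs => by
      rw [hφ r hr, hφ s hs, hφ _ (mul_mem hr hs), ← hψ]; rfl) e _ (fun g _ r hr => ?_) r
      ⟨hr, Core.pCore_le_sylow P hr⟩ fun r' hr' g hg => ?_
    · have h1 : g * r * g⁻¹ ∈ R := Core.pCore_normal.conj_mem r hr g
      refine ⟨h1, ?_⟩
      show ρ' (QuotientGroup.mk g) (φ r) = _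
      rw [hρ', hφ r hr, hφ _ h1, hρY]
      congr 1
    · have h : ⁅g, r'⁆ ∈ dser (e + 1) (P : Subgroup (X ⧸ U)) := by
        rw [dser_succ']
        exact commutator_mem_commutator hg hr'.2
      rw [hPd, mem_bot] at h
      rw [h]
      have h0 : φ 1 = 0 := by
        rw [hφ 1 (one_mem R)]
        have h2 := hψ 1 1
        rw [mul_one] at h2
        exact left_eq_add.1 h2
      rw [h0]
      exact zero_mem _
  have hlen : Cfsg.PLengthLE 2 e ((X ⧸ U) ⧸ R) :=
    pLengthLE_of_lands (e + 1) _ V ρ' hinj' (Layer.isPSolvable_of_surjective hY hπ's)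
      Core.pCore_quotient_eq_bot (P.mapSurjective hπ's) hL
  have h1 : Cfsg.PLengthLE 2 (1 + e) (X ⧸ U) :=
    PLength.of_extension R (PLength.pLengthLE_one_of_isPGroup Core.pCore_isPGroup) hlen
  have h2 := PLength.of_extension U (PLength.pLengthLE_zero_of_coprime Core.coprime_card_pPrimeCore) h1
  rwa [show 0 + (1 + e) = e + 1 by omega] at h2

end Cfsg.Agent.TwoLength
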