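import Cfsg.Agent.TwoLength.Model

/-!
The first step of the induction: twofold differences do not all die under a fixed-point-free
involution in the second derived term.
-/

set_option autoImplicit false

open scoped TensorProduct

namespace Cfsg.Agent.TwoLength

open Subgroup
open scoped commutatorElement
open Cfsg.Agent.HallHigman

universe u v w

variable {k : Type w} [Field k] [CharP k 2] {V : Type v} [AddCommGroup V] [Module k V] {G : Type u} [Group G]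
  {τ : G →* Module.End k V}

/-- A 2-power operator fixing a line fixes it pointwise. -/
theorem trivial_line {f : Module.End k V} {R : Submodule k V} (hR : ∀ v ∈ R, f v ∈ R) {y : V} {μ : k}
    {j : ℕ} (hy : f y - μ • y ∈ R) (hf : (f ^ 2 ^ j) y = y) : f y - y ∈ R := by
  by_cases hyR : y ∈ R
  · exact sub_mem (hR y hyR) hyR
  have hpow : ∀ n : ℕ, (f ^ n) y - μ ^ n • y ∈ R := by
    intro n
    induction n with
    | zero => simp
    | succ n ih =>
      have h := add_mem (hR _ ih) (R.smul_mem (μ ^ n) hy)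
      rwa [map_sub, map_smul, smul_sub, smul_smul, ← pow_succ, sub_add_sub_cancel,
        ← Module.End.mul_apply, ← pow_succ'] at h
  have h := hpow (2 ^ j)
  rw [hf] at h
  have hμ : μ ^ 2 ^ j = 1 := by
    by_contra hne
    refine hyR ?_
    rw [show y - μ ^ 2 ^ j • y = (1 - μ ^ 2 ^ j) • y by rw [sub_smul, one_smul]] at h
    exact (Submodule.smul_mem_iff R (sub_ne_zero.2 (Ne.symm hne))).1 h
  rwa [eq_one_of_pow_two_pow j hμ, one_smul] at hy

theorem pow_apply_of_pow_eq_one {t : G} {n : ℕ} (h : t ^ n = 1) (v : V) : (τ t ^ n) v = v := by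
  rw [← map_pow, h, map_one, Module.End.one_apply]

variable [IsAlgClosed k] [FiniteDimensional k V] [Finite G] [Nontrivial V] {q : ℕ} [hq : Fact q.Prime]
  {C T : Subgroup G} {a b : G} {W W₂ : Submodule k V} {L : W ⊗[k] W₂ ≃ₗ[k] V}

theorem aT₀ (F : Frame q τ C T a) (S : Split T a b) : a ∈ T ⊓ centralizer ({b} : Set G) :=
  ⟨F.aT, mem_centralizer_singleton_iff.2 (S.commute F).symm.eq⟩

/-- The involution is not trivial on a factor. -/
theorem exists_moved (F : Frame q τ C T a) (hq2 : q ≠ 2) (S : Split T a b) (M : Model τ C T a b W W₂ L) :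
    ∃ v ∈ W, opN τ a v ≠ 0 := by
  by_contra h
  push Not at h
  obtain ⟨u, hu, v, hv, huv⟩ := exists_noncommuting F hq2 S
  refine huv ((sc_of_sq hq2 F.qC (mem_fix.1 hu).1 ?_).commute F.inj v)
  obtain ⟨μ, hμ⟩ := sc_mul_conj F hq2 (mem_fix.1 hu).1
  refine ⟨μ, LinearMap.ext fun x => ?_⟩
  obtain ⟨y, rfl⟩ := L.surjective x
  induction y using TensorProduct.induction_on with
  | zero => simp
  | add y z hy hz => simp only [map_add, hy, hz]
  | tmul p r =>
    have hcl : ∀ u' ∈ fix C (a * b), ∀ p ∈ W, τ u' p ∈ W := fun u' hu' p hp => M.simple.2.1 ⟨u', hu'⟩ p hp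
    have huu : u * u ∈ fix C (a * b) := mul_mem hu hu
    have hfix : ∀ p ∈ W, τ a p = p := fun p hp => mem_ker_opN.1 (LinearMap.mem_ker.2 (h p hp))
    have h1 : τ (u * u) (p : V) = μ • (p : V) := by
      have h2 := LinearMap.congr_fun hμ (p : V)
      rw [map_mul, map_mul, map_mul, Module.End.mul_apply, Module.End.mul_apply, Module.End.mul_apply,
        show τ a⁻¹ (p : V) = (p : V) by rw [inv_eq_of_mul_eq_one_right F.a2]; exact hfix p p.2,
        hfix _ (hcl u hu p p.2)] at h2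
      rw [map_mul, Module.End.mul_apply, h2]
      rfl
    rw [M.left _ huu p (μ • p) r h1.symm, LinearMap.smul_apply, Module.End.one_apply, ← map_smul,
      TensorProduct.smul_tmul']

/-- The Brauer line of a factor, fixed by the operators. -/
theorem exists_line (F : Frame q τ C T a) (hq2 : q ≠ 2) (S : Split T a b) (M : Model τ C T a b W W₂ L) :
    ∃ z ∈ W, opN τ a z = 0 ∧ z ∉ W.map (opN τ a) ∧
      ∀ t ∈ T ⊓ centralizer ({b} : Set G), ∀ y ∈ W, opN τ a y = 0 → τ t y - y ∈ W.map (opN τ a) := by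
  set C₁ := fix C (a * b) with hC₁
  set T₀ := T ⊓ centralizer ({b} : Set G)
  set H := C₁ ⊔ T₀ with hH
  have hHW : ∀ g ∈ H, ∀ v ∈ W, τ g v ∈ W := fun g hg v hv => mem_of_mapStab
    ((sup_le (le_mapStab fun u hu v hv => M.simple.2.1 ⟨u, hu⟩ v hv) M.stab : H ≤ mapStab τ W) hg) hv
  haveI : Nontrivial W := Submodule.nontrivial_iff_ne_bot.2 M.simple.1
  set σ := subRep τ H W hHW
  set a' : H := ⟨a, (le_sup_right : T₀ ≤ H) (aT₀ F S)⟩ with ha'
  have hirr : Irred (σ.comp (C₁.subgroupOf H).subtype) := fun U hU =>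
    irred_subRep M.simple U fun g v hv => hU ⟨⟨g, (le_sup_left : C₁ ≤ H) g.2⟩, g.2⟩ v hv
  have hqC : IsPGroup q (C₁.subgroupOf H) :=
    (F.qC.to_le (inf_le_left : C₁ ≤ C)).comap_of_injective _ Subtype.val_injective
  have hnorm : ∀ x : H, (x : G) ∈ C₁ → a * x * a⁻¹ ∈ C₁ := fun x hx => by
    obtain ⟨h1, h2⟩ := mem_fix.1 hx
    refine mem_fix.2 ⟨conj_mem_of_normalizer (F.nrm F.aT) h1, ?_⟩
    have hc : a * (a * b) * a⁻¹ = a * b := by
      rw [((Commute.refl a).mul_right (S.commute F).symm).eq, mul_inv_cancel_right]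
    rw [← hc]
    exact (Commute.conj_iff a).2 h2
  have haN : a' ∈ normalizer ((C₁.subgroupOf H : Subgroup H) : Set H) := by
    refine mem_normalizer_iff.2 fun x => ⟨fun hx => hnorm x hx, fun hx => ?_⟩
    have h := hnorm (a' * x * a'⁻¹) hx
    have hai : a⁻¹ = a := inv_eq_of_mul_eq_one_right F.a2
    rwa [show ((a' * x * a'⁻¹ : H) : G) = a * x * a⁻¹ from rfl, hai,
      show a * (a * (x : G) * a) * a = (a * a) * x * (a * a) by group, F.a2, one_mul, mul_one] at h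
  have hfpf : ∀ x ∈ C₁.subgroupOf H, Commute a' x → Sc σ x := fun x hx hc => by
    obtain ⟨μ, hμ⟩ := F.fpf x (mem_fix.1 (hx : (x : G) ∈ C₁)).1 (congrArg Subtype.val hc.eq)
    exact ⟨μ, LinearMap.ext fun v => Subtype.ext (LinearMap.congr_fun hμ (v : V))⟩
  have h1 := finrank_bQuot_eq_one (τ := σ) hq2 hqC hirr (a := a') (Subtype.ext F.a2) haN hfpf
  obtain ⟨v₀, hv₀, hall⟩ := finrank_eq_one_iff'.1 h1
  obtain ⟨⟨z, hz⟩, rfl⟩ := Submodule.Quotient.mk_surjective _ v₀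
  have hrange : ∀ x : W, (x : V) ∈ W.map (opN τ a) → x ∈ LinearMap.range (opN σ a') := by
    rintro x ⟨p, hp, e⟩
    exact ⟨⟨p, hp⟩, Subtype.ext e⟩
  have hzN : opN τ a (z : V) = 0 := congrArg Subtype.val (LinearMap.mem_ker.1 hz)
  have hzR : (z : V) ∉ W.map (opN τ a) := fun hh =>
    hv₀ ((Submodule.Quotient.mk_eq_zero _).2 (hrange z hh))
  have hgen : ∀ y ∈ W, opN τ a y = 0 → ∃ c : k, c • (z : V) - y ∈ W.map (opN τ a) := fun y hy hyN => by
    have hy' : (⟨y, hy⟩ : W) ∈ LinearMap.ker (opN σ a') := LinearMap.mem_ker.2 (Subtype.ext hyN)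
    obtain ⟨c, hc⟩ := hall (Submodule.Quotient.mk ⟨⟨y, hy⟩, hy'⟩)
    rw [← Submodule.Quotient.mk_smul, Submodule.Quotient.eq] at hc
    obtain ⟨p, hp⟩ := hc
    exact ⟨c, ⟨p, p.2, congrArg Subtype.val hp⟩⟩
  refine ⟨z, z.2, hzN, hzR, fun t ht y hy hyN => ?_⟩
  have htW : ∀ v ∈ W, τ t v ∈ W := fun v hv => mem_of_mapStab (M.stab ht) hv
  have htR : ∀ v ∈ W.map (opN τ a), τ t v ∈ W.map (opN τ a) := by
    rintro _ ⟨p, hp, rfl⟩
    exact ⟨τ t p, htW p hp, (opN_comm τ (F.ac t ht.1) p).symm⟩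
  have hzt : τ t (z : V) - z ∈ W.map (opN τ a) := by
    obtain ⟨μ, hμ⟩ := hgen _ (htW z z.2) (by
      rw [← opN_comm τ (F.ac t ht.1), hzN, map_zero])
    obtain ⟨j, hj⟩ := IsPGroup.iff_orderOf.1 F.pT ⟨t, ht.1⟩
    rw [orderOf_mk] at hj
    refine trivial_line (μ := μ) (j := j) htR ?_ (pow_apply_of_pow_eq_one (hj ▸ pow_orderOf_eq_one t) _)
    rw [← neg_sub]
    exact neg_mem hμ
  obtain ⟨c, hc⟩ := hgen y hy hyN
  have key : τ t y - y = c • (τ t (z : V) - z) - (τ t (c • (z : V) - y) - (c • (z : V) - y)) := by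
    rw [map_sub, map_smul, smul_sub]; abel
  rw [key]
  exact sub_mem (Submodule.smul_mem _ _ hzt) (sub_mem (htR _ hc) hc)

theorem base_false (F : Frame q τ C T a) (hq2 : q ≠ 2) (S : Split T a b)
    (hbt : ∀ t ∈ T, t * b * t⁻¹ = b ∨ t * b * t⁻¹ = a * b) (hT₁b : ∀ x ∈ ⁅T, T⁆, Commute x b)
    {g₀ : G} (hg₀ : g₀ ∈ T) (hg₀b : ¬ Commute g₀ b) (ha : a ∈ ⁅⁅T, T⁆, ⁅T, T⁆⁆)
    (hL : ∀ v, Lands τ (LinearMap.ker (opN τ a)) 2 T v) : False := by
  obtain ⟨W, W₂, L, M⟩ := exists_model F hq2 S hbt hg₀ hg₀b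
  obtain ⟨p₀, hp₀, hp₀N⟩ := exists_moved F hq2 S M
  obtain ⟨z₀, hz₀, hz₀N, hz₀R, hline⟩ := exists_line F hq2 S M
  set T₀ := T ⊓ centralizer ({b} : Set G) with hT₀
  set T₁ := ⁅T, T⁆ with hT₁
  have hT₁T₀ : ∀ x ∈ T₁, x ∈ T₀ := fun x hx =>
    ⟨commutator_le_of_self T hx, mem_centralizer_singleton_iff.2 (hT₁b x hx).eq⟩
  have hconj : ∀ g ∈ T, ∀ x ∈ T₁, g * x * g⁻¹ ∈ T₁ := fun g hg x hx =>
    (mem_normalizer_iff.1 (le_normalizer_dser 1 T hg) x).1 hx
  have hconj' : ∀ g ∈ T, ∀ x ∈ T₁, g⁻¹ * x * g ∈ T₁ := fun g hg x hx => by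
    have h := hconj _ (T.inv_mem hg) x hx
    rwa [inv_inv] at h
  have hga : ∀ g ∈ T, ∀ v, τ g (opN τ a v) = opN τ a (τ g v) := fun g hg v => opN_comm τ (F.ac g hg) v
  have hW : ∀ t ∈ T₀, ∀ v ∈ W, τ t v ∈ W := fun t ht v hv => mem_of_mapStab (M.stab ht) hv
  have hW₂ : ∀ t ∈ T₀, ∀ v ∈ W₂, τ t v ∈ W₂ := fun t ht v hv => mem_of_mapStab (M.stab₂ ht) hv
  obtain ⟨hgW, hgW₂, -⟩ := M.swap g₀ hg₀ hg₀b
  have hgW' : ∀ v ∈ W, τ g₀ v ∈ W₂ := fun v hv => mem_map_eq hgW hv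
  have hgW₂' : ∀ v ∈ W₂, τ g₀ v ∈ W := fun v hv => mem_map_eq hgW₂ hv
  -- a functional for the Brauer line of `W₂`
  obtain ⟨ψ, hψz, hψR⟩ : ∃ ψ : Module.Dual k V, ψ (τ g₀ z₀) = 1 ∧ ∀ r ∈ W₂.map (opN τ a), ψ r = 0 := by
    have hnot : τ g₀ z₀ ∉ W₂.map (opN τ a) := by
      rintro ⟨r, hr, e⟩
      rw [← hgW] at hr
      obtain ⟨r', hr', rfl⟩ := hr
      rw [← hga g₀ hg₀] at e
      exact hz₀R ⟨r', hr', apply_injective τ g₀ e⟩
    obtain ⟨f, hf, hf'⟩ := Submodule.exists_dual_map_eq_bot_of_notMem hnot inferInstance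
    refine ⟨(f (τ g₀ z₀))⁻¹ • f, by simp [hf], fun r hr => ?_⟩
    have h0 : f r = 0 := (Submodule.mem_bot k).1 (hf' ▸ Submodule.mem_map_of_mem hr)
    simp [h0]
  have hψa : ∀ r ∈ W₂, ψ (τ a r) = ψ r := fun r hr => by
    rw [← sub_eq_zero, ← map_sub]
    exact hψR _ ⟨r, hr, rfl⟩
  have hψz' : ∀ x ∈ T₁, ψ (τ x (τ g₀ z₀)) = 1 := fun x hx => by
    rw [← hψz, ← sub_eq_zero, ← map_sub]
    refine hψR _ ?_
    obtain ⟨p, hp, e⟩ := hline _ (hT₁T₀ _ (hconj' g₀ hg₀ x hx)) z₀ hz₀ hz₀N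
    refine ⟨τ g₀ p, hgW' p hp, ?_⟩
    rw [← hga g₀ hg₀, e, map_sub, ← Module.End.mul_apply, ← map_mul, ← Module.End.mul_apply, ← map_mul]
    congr 3
    group
  -- contraction
  let K : Module.Dual k V → V →ₗ[k] V := fun φ => (TensorProduct.lift (LinearMap.mk₂ k
    (fun (p : W) (r : W₂) => φ (r : V) • (p : V)) (fun p p' r => by simp [smul_add])
    (fun c p r => by simp [smul_comm c]) (fun p r r' => by simp [add_smul])
    (fun c p r => by simp [mul_smul]))).comp L.symm.toLinearMap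
  have hK : ∀ φ (p : W) (r : W₂), K φ (L (p ⊗ₜ[k] r)) = φ (r : V) • (p : V) := fun φ p r => by
    simp [K]
  have hE : ∀ e, ∀ g ∈ T, ∀ x ∈ T₁, opN τ a (opN τ x (τ g e)) = opN τ a (opN τ x e) := fun e g hg x hx => by
    rw [← sub_eq_zero, ← map_sub, ← map_sub]
    exact LinearMap.mem_ker.1 (hL e g hg x hx)
  have hswap : ∀ g ∈ T, ¬ Commute g b → ∀ (p : W) (r : W₂), ∀ (p' : W) (r' : W₂), (p' : V) = τ g r →
      (r' : V) = τ g p → τ g (L (p ⊗ₜ[k] r)) = L (p' ⊗ₜ[k] r') :=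
    fun g hg hgb p r p' r' e e' => (M.swap g hg hgb).2.2 p p' r r' e e'
  have haT₀ := aT₀ F S
  have hbase : ∀ x ∈ T₁, ∀ φ : Module.Dual k V, ∀ (p : W) (r : W₂),
      K φ (opN τ a (opN τ x (L (p ⊗ₜ[k] r)))) = φ (τ a (τ x r)) • τ a (τ x p) - φ (τ a r) • τ a p
        - (φ (τ x r) • τ x p - φ r • (p : V)) := fun x hx φ p r => by
    have hx₀ := hT₁T₀ x hx
    rw [opN_apply τ x, map_sub, opN_apply, opN_apply,
      M.diag x hx₀ p ⟨_, hW x hx₀ _ p.2⟩ r ⟨_, hW₂ x hx₀ _ r.2⟩ rfl rfl,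
      M.diag a haT₀ ⟨_, hW x hx₀ _ p.2⟩ ⟨_, hW a haT₀ _ (hW x hx₀ _ p.2)⟩
        ⟨_, hW₂ x hx₀ _ r.2⟩ ⟨_, hW₂ a haT₀ _ (hW₂ x hx₀ _ r.2)⟩ rfl rfl,
      M.diag a haT₀ p ⟨_, hW a haT₀ _ p.2⟩ r ⟨_, hW₂ a haT₀ _ r.2⟩ rfl rfl]
    simp only [map_sub, hK]
    abel
  -- step a
  have hNX : ∀ x ∈ T₁, ∀ v ∈ W, opN τ a (τ x v) = opN τ a v := fun x hx v hv => by
    have hx₀ := hT₁T₀ x hx
    set p' : W := ⟨τ g₀ (τ g₀ z₀), hgW₂' _ (hgW' _ hz₀)⟩ with hp'
    have h := congrArg (K ψ) (hE (L ((⟨v, hv⟩ : W) ⊗ₜ[k] (⟨_, hgW' _ hz₀⟩ : W₂))) g₀ hg₀ x hx)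
    rw [hswap g₀ hg₀ hg₀b _ _ p' ⟨_, hgW' _ hv⟩ rfl rfl, hbase x hx, hbase x hx] at h
    have hp'N : opN τ a (p' : V) = 0 := by
      show opN τ a (τ g₀ (τ g₀ z₀)) = 0
      rw [← hga g₀ hg₀, ← hga g₀ hg₀, hz₀N, map_zero, map_zero]
    simp only [hψa _ (hW₂ x hx₀ _ (hgW' _ hv)), hψa _ (hgW' _ hv), hψa _ (hW₂ x hx₀ _ (hgW' _ hz₀)),
      hψa _ (hgW' _ hz₀), hψz' x hx, hψz, one_smul] at h
    rw [mem_ker_opN.1 (LinearMap.mem_ker.2 hp'N), mem_ker_opN.1 (LinearMap.mem_ker.2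
      (show opN τ a (τ x (p' : V)) = 0 by rw [← hga x (hx₀.1), hp'N, map_zero]))] at h
    rw [opN_apply, opN_apply, ← sub_eq_zero]
    rw [sub_self] at h
    rw [h]
    abel
  have hNX₂ : ∀ x ∈ T₁, ∀ r ∈ W₂, opN τ a (τ x r) = opN τ a r := fun x hx r hr => by
    rw [← hgW] at hr
    obtain ⟨v, hv, rfl⟩ := hr
    rw [← hga g₀ hg₀ v, ← hNX _ (hconj' g₀ hg₀ x hx) v hv, hga g₀ hg₀,
      ← Module.End.mul_apply (τ g₀) (τ (g₀⁻¹ * x * g₀)) v, ← Module.End.mul_apply (τ x) (τ g₀) v, ← map_mul,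
      ← map_mul]
    congr 3
    group
  have hfixR : ∀ x ∈ T₁, ∀ v ∈ W, τ x (opN τ a v) = opN τ a v := fun x hx v hv => by
    rw [hga x (hT₁T₀ x hx).1, hNX x hx v hv]
  have hO : ∀ x ∈ T₁, ∀ φ : Module.Dual k V, ∀ (p : W) (r : W₂),
      K φ (opN τ a (opN τ x (L (p ⊗ₜ[k] r)))) =
        φ (opN τ x r) • opN τ a p + φ (opN τ a r) • opN τ x p := fun x hx φ p r => by
    have e1 : τ a (τ x (p : V)) = τ x p + τ a p - p := by
      have h := hNX x hx p p.2
      rw [opN_apply, opN_apply, sub_eq_iff_eq_add] at h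
      rw [h]; abel
    have e2 : τ a (τ x (r : V)) = τ x r + τ a r - r := by
      have h := hNX₂ x hx r r.2
      rw [opN_apply, opN_apply, sub_eq_iff_eq_add] at h
      rw [h]; abel
    rw [hbase x hx, e1, e2, opN_apply, opN_apply, opN_apply, opN_apply]
    simp only [map_add, map_sub, add_smul, sub_smul, smul_add, smul_sub]
    abel
  -- the derived subgroup acts commutatively on `W`
  have hcomm : ∀ x ∈ T₁, ∀ y ∈ T₁, ∀ v ∈ W, τ x (τ y v) = τ y (τ x v) := by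
    by_cases hfix : ∀ v ∈ W, opN τ a v = 0 → ∀ x ∈ T₁, opN τ x (τ g₀ v) = 0
    · have hker : ∀ v ∈ W, opN τ a v = 0 → ∀ x ∈ T₁, τ x v = v := fun v hv hvN x hx => by
        have h := hfix v hv hvN _ (hconj g₀ hg₀ x hx)
        rw [opN_apply, sub_eq_zero, ← Module.End.mul_apply, ← map_mul, inv_mul_cancel_right, map_mul,
          Module.End.mul_apply] at h
        exact apply_injective τ g₀ h
      intro x hx y hy v hv
      have hd : ∀ x ∈ T₁, ∀ y ∈ T₁, τ y (τ x v - v) = τ x v - v := fun x hx y hy =>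
        hker _ (sub_mem (hW x (hT₁T₀ x hx) v hv) hv) (by rw [map_sub, hNX x hx v hv, sub_self]) y hy
      have h1 := hd x hx y hy
      have h2 := hd y hy x hx
      rw [map_sub, sub_eq_iff_eq_add] at h1 h2
      rw [h1, h2]
      abel
    · push Not at hfix
      obtain ⟨v₁, hv₁, hv₁N, x₁, hx₁, hne⟩ := hfix
      obtain ⟨φ, hφ⟩ : ∃ φ : Module.Dual k V, φ (opN τ x₁ (τ g₀ v₁)) = 1 := by
        obtain ⟨f, hf⟩ := Module.Projective.exists_dual_ne_zero k hne
        exact ⟨(f (opN τ x₁ (τ g₀ v₁)))⁻¹ • f, by simp [hf]⟩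
      -- the image is a line
      have hr : ∀ p ∈ W, ∃ c : k, opN τ a p = c • opN τ x₁ v₁ := fun p hp => by
        have hp' := hp
        rw [← hgW₂] at hp'
        obtain ⟨r, hr, rfl⟩ := hp'
        have h := congrArg (K φ) (hE (L ((⟨v₁, hv₁⟩ : W) ⊗ₜ[k] (⟨r, hr⟩ : W₂))) g₀ hg₀ x₁ hx₁)
        rw [hswap g₀ hg₀ hg₀b _ _ ⟨_, hp⟩ ⟨_, hgW' _ hv₁⟩ rfl rfl, hO x₁ hx₁, hO x₁ hx₁] at h
        simp only [hφ, one_smul, ← hga g₀ hg₀ v₁, hv₁N, map_zero, zero_smul, smul_zero, add_zero,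
          zero_add] at h
        exact ⟨_, h⟩
      have hline₁ : ∀ t ∈ T₀, ∀ p ∈ W, τ t (opN τ a p) = opN τ a p := fun t ht p hp => by
        obtain ⟨c₀, hc₀⟩ := hr p₀ hp₀
        have hc₀0 : c₀ ≠ 0 := fun h0 => hp₀N (by rw [hc₀, h0, zero_smul])
        obtain ⟨c₁, hc₁⟩ := hr _ (hW t ht p hp)
        obtain ⟨c, hc⟩ := hr p hp
        by_cases hc0 : c = 0
        · rw [hc, hc0, zero_smul, map_zero]
        obtain ⟨j, hj⟩ := IsPGroup.iff_orderOf.1 F.pT ⟨t, ht.1⟩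
        rw [orderOf_mk] at hj
        have h := trivial_line (f := τ t) (R := ⊥) (μ := c₁ * c⁻¹) (j := j) (fun v hv => by
          rw [(Submodule.mem_bot k).1 hv, map_zero]; exact zero_mem _) (y := opN τ a p) (by
          rw [hga t ht.1, hc₁, hc, smul_smul, inv_mul_cancel_right₀ hc0, sub_self]
          exact zero_mem _) (pow_apply_of_pow_eq_one (hj ▸ pow_orderOf_eq_one t) _)
        exact sub_eq_zero.1 ((Submodule.mem_bot k).1 h)
      -- squares from outside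
      have hsq : ∀ g ∈ T, ¬ Commute g b → ∀ x ∈ T₁, ∀ v ∈ W, opN τ x (τ (g * g) v) = opN τ x v := by
        intro g hg hgb x hx
        obtain ⟨hgV, hgV₂, -⟩ := M.swap g hg hgb
        have hg2 : g * g ∈ T₀ := by
          refine ⟨T.mul_mem hg hg, mem_centralizer_singleton_iff.2 (mul_inv_eq_iff_eq_mul.1 ?_)⟩
          have h1 : g * b * g⁻¹ = a * b := (hbt g hg).resolve_left fun h => hgb (mul_inv_eq_iff_eq_mul.1 h)
          rw [show g * g * b * (g * g)⁻¹ = g * (g * b * g⁻¹) * g⁻¹ by group, h1,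
            show g * (a * b) * g⁻¹ = g * a * g⁻¹ * (g * b * g⁻¹) by group, h1, (F.ac g hg).eq,
            mul_inv_cancel_right, ← mul_assoc, F.a2, one_mul]
        have key : ∀ v ∈ W, opN τ a v ≠ 0 → opN τ x (τ (g * g) v) = opN τ x v := fun v hv hvN => by
          obtain ⟨f, hf⟩ := Module.Projective.exists_dual_ne_zero k
            (show opN τ a (τ g v) ≠ 0 by
              rw [← hga g hg]
              exact fun h => hvN (apply_injective τ g (h.trans (map_zero _).symm)))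
          have hgv : τ g v ∈ W₂ := mem_map_eq hgV hv
          have hggv : τ g (τ g v) ∈ W := mem_map_eq hgV₂ hgv
          have h := congrArg (K ((f (opN τ a (τ g v)))⁻¹ • f))
            (hE (L ((⟨v, hv⟩ : W) ⊗ₜ[k] (⟨_, hgv⟩ : W₂))) g hg x hx)
          rw [hswap g hg hgb _ _ ⟨_, hggv⟩ ⟨_, hgv⟩ rfl rfl, hO x hx, hO x hx] at h
          have hgg : τ g (τ g v) = τ (g * g) v := by rw [map_mul, Module.End.mul_apply]
          simp only [hgg, LinearMap.smul_apply, smul_eq_mul, inv_mul_cancel₀ hf, one_smul,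
            ← hga _ hg2.1, hline₁ _ hg2 v hv] at h
          exact add_left_cancel h
        intro v hv
        by_cases hvN : opN τ a v = 0
        · have h1 := key (v + p₀) (add_mem hv hp₀) (by rwa [map_add, hvN, zero_add])
          rw [map_add, map_add, map_add, key p₀ hp₀ hp₀N] at h1
          exact add_right_cancel h1
        · exact key v hv hvN
      -- the good operators
      let Λ : Subgroup G :=
        { carrier := {h | h ∈ T₀ ∧ ∀ x ∈ T₁, ∀ v ∈ W, opN τ x (τ h v) = opN τ x v}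
          mul_mem' := fun {h h'} hh hh' => ⟨mul_mem hh.1 hh'.1, fun x hx v hv => by
            rw [map_mul, Module.End.mul_apply, hh.2 x hx _ (hW h' hh'.1 v hv), hh'.2 x hx v hv]⟩
          one_mem' := ⟨one_mem _, fun x _ v _ => by rw [map_one, Module.End.one_apply]⟩
          inv_mem' := fun {h} hh => ⟨inv_mem hh.1, fun x hx v hv => by
            rw [← hh.2 x hx _ (hW _ (inv_mem hh.1) v hv), apply_inv_apply]⟩ }
      have hsquare : ∀ t ∈ T, t * t ∈ Λ := by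
        intro t ht
        by_cases htb : Commute t b
        · have ht₀ : t ∈ T₀ := ⟨ht, mem_centralizer_singleton_iff.2 htb.eq⟩
          refine ⟨mul_mem ht₀ ht₀, fun x hx v hv => ?_⟩
          have hBv : opN τ a (τ t v - v) = 0 := by
            rw [map_sub, ← hga t ht, hline₁ t ht₀ v hv, sub_self]
          obtain ⟨p, hp, e⟩ := hline t ht₀ _ (sub_mem (hW t ht₀ v hv) hv) hBv
          have h2 : τ (t * t) v - v = opN τ a p := by
            rw [e, map_mul, Module.End.mul_apply, map_sub, sub_eq_add_char_two k, sub_eq_add_char_two k,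
              sub_eq_add_char_two k, sub_eq_add_char_two k,
              show τ t (τ t v) + τ t v + (τ t v + v) = τ t (τ t v) + (τ t v + τ t v) + v by abel,
              two_torsion k, add_zero]
          rw [← sub_eq_zero, ← map_sub, h2, opN_apply, hfixR x hx p hp, sub_self]
        · refine ⟨⟨T.mul_mem ht ht, mem_centralizer_singleton_iff.2 (mul_inv_eq_iff_eq_mul.1 ?_)⟩,
            hsq t ht htb⟩
          have h1 : t * b * t⁻¹ = a * b := (hbt t ht).resolve_left fun h => htb (mul_inv_eq_iff_eq_mul.1 h)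
          rw [show t * t * b * (t * t)⁻¹ = t * (t * b * t⁻¹) * t⁻¹ by group, h1,
            show t * (a * b) * t⁻¹ = t * a * t⁻¹ * (t * b * t⁻¹) by group, h1, (F.ac t ht).eq,
            mul_inv_cancel_right, ← mul_assoc, F.a2, one_mul]
      have hle : T₁ ≤ Λ := commutator_le.2 fun u hu v hv => by
        rw [show ⁅u, v⁆ = u * u * (u⁻¹ * v * (u⁻¹ * v)) * (v⁻¹ * v⁻¹) by
          rw [commutatorElement_def]; group]
        exact mul_mem (mul_mem (hsquare u hu) (hsquare _ (T.mul_mem (T.inv_mem hu) hv)))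
          (hsquare _ (T.inv_mem hv))
      intro x hx y hy v hv
      have h1 := (hle hy).2 x hx v hv
      have h2 := (hle hx).2 y hy v hv
      rw [opN_apply, opN_apply, sub_eq_iff_eq_add] at h1 h2
      rw [h1, h2]
      abel
  -- hence the involution is trivial on `W`
  refine hp₀N ?_
  let Z : Subgroup G :=
    { carrier := {g | ∀ v ∈ W, τ g v = v}
      mul_mem' := fun {g g'} hg hg' v hv => by rw [map_mul, Module.End.mul_apply, hg' v hv, hg v hv]
      one_mem' := fun v _ => by rw [map_one, Module.End.one_apply]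
      inv_mem' := fun {g} hg v hv => by
        conv_lhs => rw [← hg v hv]
        rw [inv_apply_apply] }
  have hle : ⁅T₁, T₁⁆ ≤ Z := commutator_le.2 fun x hx y hy v hv => by
    rw [commutatorElement_def, map_mul, map_mul, map_mul, Module.End.mul_apply, Module.End.mul_apply,
      Module.End.mul_apply, hcomm x hx y hy _ (hW _ (hT₁T₀ _ (inv_mem hx)) _ (hW _ (hT₁T₀ _ (inv_mem hy)) v hv)),
      apply_inv_apply, apply_inv_apply]
  rw [opN_apply, hle ha p₀ hp₀, sub_self]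

end Cfsg.Agent.TwoLength
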