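import Cfsg.Agent.TwoLength.Frame
import Cfsg.Agent.HallHigman.Twist

/-!
Constituents of commuting factors and constituents invariant under a 2-group of operators.
-/

set_option autoImplicit false

namespace Cfsg.Agent.TwoLength

open Subgroup
open Cfsg.Agent.HallHigman

universe u v w

variable {k : Type w} [Field k] {V : Type v} [AddCommGroup V] [Module k V] {G : Type u} [Group G]
  {τ : G →* Module.End k V}

theorem map_map_mul (τ : G →* Module.End k V) (g g' : G) (U : Submodule k V) :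
    U.map (τ (g * g')) = (U.map (τ g')).map (τ g) := by
  rw [map_mul, Module.End.mul_eq_comp, Submodule.map_comp]

theorem map_map_one (τ : G →* Module.End k V) (U : Submodule k V) : U.map (τ 1) = U := by
  rw [map_one, Module.End.one_eq_id, Submodule.map_id]

/-- The operators fixing a subspace. -/
def mapStab (τ : G →* Module.End k V) (U : Submodule k V) : Subgroup G where
  carrier := {g | U.map (τ g) = U}
  mul_mem' := fun {g g'} hg hg' => by
    show U.map (τ (g * g')) = U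
    rw [map_map_mul, hg', hg]
  one_mem' := map_map_one τ U
  inv_mem' := fun {g} hg => by
    show U.map (τ g⁻¹) = U
    conv_lhs => rw [← (hg : U.map (τ g) = U)]
    rw [← map_map_mul, inv_mul_cancel, map_map_one]

theorem mem_of_mapStab {U : Submodule k V} {g : G} (hg : g ∈ mapStab τ U) {v : V} (hv : v ∈ U) :
    τ g v ∈ U := by
  rw [← (hg : U.map (τ g) = U)]
  exact Submodule.mem_map_of_mem hv

theorem le_mapStab {H : Subgroup G} {U : Submodule k V} (hU : ∀ g ∈ H, ∀ v ∈ U, τ g v ∈ U) :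
    H ≤ mapStab τ U := fun g hg => le_antisymm (by
      rintro _ ⟨v, hv, rfl⟩
      exact hU g hg v hv) fun v hv => ⟨τ g⁻¹ v, hU _ (H.inv_mem hg) v hv, apply_inv_apply τ g v⟩

/-- Restriction of a subgroup of operators to an invariant subspace. -/
def subRep (τ : G →* Module.End k V) (H : Subgroup G) (U : Submodule k V)
    (hU : ∀ g ∈ H, ∀ v ∈ U, τ g v ∈ U) : H →* Module.End k U where
  toFun h := (τ (h : G)).restrict (hU h h.2)
  map_one' := LinearMap.ext fun v => Subtype.ext (by simp)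
  map_mul' x y := LinearMap.ext fun v => Subtype.ext (by simp)

theorem subRep_apply {H : Subgroup G} {U : Submodule k V} (hU : ∀ g ∈ H, ∀ v ∈ U, τ g v ∈ U) (h : H) (v : U) :
    (subRep τ H U hU h v : V) = τ (h : G) v := rfl

theorem irred_subRep {H : Subgroup G} {W : Submodule k V} (hW : IsSimpleSub (τ.comp H.subtype) W) :
    Irred (subRep τ H W fun g hg v hv => hW.2.1 ⟨g, hg⟩ v hv) := by
  intro U hU
  rcases hW.2.2 (U.map W.subtype) (Submodule.map_subtype_le _ _) (by
    rintro g _ ⟨v, hv, rfl⟩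
    exact ⟨_, hU g v hv, rfl⟩) with h | h
  · exact Or.inl (((Submodule.map_injective_of_injective W.injective_subtype).eq_iff' (Submodule.map_bot _)).1 h)
  · refine Or.inr (Submodule.map_injective_of_injective W.injective_subtype ?_)
    rw [h, Submodule.map_top, Submodule.range_subtype]

/-- Any two intertwiners of a constituent agree up to a scalar. -/
theorem scalar_of_intertwine [IsAlgClosed k] [FiniteDimensional k V] {H : Subgroup G} {W W' : Submodule k V}
    (hW : IsSimpleSub (τ.comp H.subtype) W) (hW' : Inv (τ.comp H.subtype) W')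
    (f : W ≃ₗ[k] W') (hf : ∀ (g : H) (w w' : W), (w' : V) = τ (g : G) w → (f w' : V) = τ (g : G) (f w))
    (f' : W →ₗ[k] W') (hf' : ∀ (g : H) (w w' : W), (w' : V) = τ (g : G) w → (f' w' : V) = τ (g : G) (f' w)) :
    ∃ μ : k, ∀ w, f' w = μ • f w := by
  haveI : Nontrivial W := Submodule.nontrivial_iff_ne_bot.2 hW.1
  have hWi : ∀ g ∈ H, ∀ v ∈ W, τ g v ∈ W := fun g hg v hv => hW.2.1 ⟨g, hg⟩ v hv
  obtain ⟨μ, hμ⟩ := scalar_of_commute (irred_subRep hW) (f.symm.toLinearMap.comp f') fun g => by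
    refine LinearMap.ext fun w => f.injective (Subtype.ext ?_)
    show (f (f.symm (f' (subRep τ H W hWi g w))) : V) = f (subRep τ H W hWi g (f.symm (f' w)))
    rw [f.apply_symm_apply, hf g (f.symm (f' w)) (subRep τ H W hWi g (f.symm (f' w))) rfl, f.apply_symm_apply]
    exact hf' g w _ rfl
  refine ⟨μ, fun w => ?_⟩
  have h := congrArg f (LinearMap.congr_fun hμ w)
  simpa using h

/-- When translates by a centralising factor cover the space, all constituents are isomorphic. -/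
theorem isom_of_cover [FiniteDimensional k V] [Finite G] {C D : Subgroup G} {E : Set G}
    (hirr : Irred (τ.comp C.subtype))
    (hE : ∀ e ∈ E, ∀ d ∈ D, Commute e d) (hE1 : (1 : G) ∈ E)
    (hgen : ∀ U : Submodule k V, (∀ e ∈ E, ∀ v ∈ U, τ e v ∈ U) → (∀ d ∈ D, ∀ v ∈ U, τ d v ∈ U) →
      ∀ u ∈ C, ∀ v ∈ U, τ u v ∈ U)
    (hEmul : ∀ e ∈ E, ∀ e' ∈ E, e * e' ∈ E)
    {W : Submodule k V} (hW : IsSimpleSub (τ.comp D.subtype) W) {U : Submodule k V}
    (hU : IsSimpleSub (τ.comp D.subtype) U) : Isom (τ.comp D.subtype) W U := by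
  classical
  haveI := Fintype.ofFinite G
  set S := Finset.univ.filter fun e => e ∈ E with hS
  have hmem : ∀ e, e ∈ S ↔ e ∈ E := fun e => by simp [hS]
  have heq : ∀ e ∈ E, Isom (τ.comp D.subtype) W (W.map (τ e)) := fun e he => by
    refine ⟨Submodule.equivMapOfInjective (τ e) (apply_injective τ e) W, fun g w w' h => ?_⟩
    simp only [Submodule.coe_equivMapOfInjective_apply]
    show τ e w' = τ (g : G) (τ e w)
    rw [h, ← Module.End.mul_apply, ← Module.End.mul_apply, MonoidHom.comp_apply, Subgroup.coe_subtype,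
      ← map_mul, ← map_mul, (hE e he g g.2).eq]
  have hsimp : ∀ e ∈ S, IsSimpleSub (τ.comp D.subtype) (W.map (τ e)) := fun e he =>
    (heq e ((hmem e).1 he)).simple hW
  set T := S.sup fun e => W.map (τ e) with hT
  have hTE : ∀ e ∈ E, ∀ v ∈ T, τ e v ∈ T := by
    intro e he v hv
    have hle : T ≤ T.comap (τ e) := Finset.sup_le fun e' he' v hv => by
      obtain ⟨w, hw, rfl⟩ := hv
      refine (Finset.le_sup (f := fun e => W.map (τ e)) ((hmem _).2 (hEmul e he e' ((hmem e').1 he')))) ?_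
      exact ⟨w, hw, by rw [map_mul, Module.End.mul_apply]⟩
    exact hle hv
  have hTD : ∀ d ∈ D, ∀ v ∈ T, τ d v ∈ T := by
    intro d hd v hv
    have hle : T ≤ T.comap (τ d) := Finset.sup_le fun e' he' v hv =>
      (Finset.le_sup (f := fun e => W.map (τ e)) he') ((hsimp e' he').2.1 ⟨d, hd⟩ v hv)
    exact hle hv
  have htop : T = ⊤ := (hirr T fun u v hv => hgen T hTE hTD u u.2 v hv).resolve_left fun hb => hW.1 (by
    rw [← le_bot_iff, ← hb]
    exact le_trans (by rw [map_map_one]) (Finset.le_sup (f := fun e => W.map (τ e)) ((hmem 1).2 hE1)))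
  obtain ⟨e, he, h⟩ := exists_isom_of_le_iSup (fun e => W.map (τ e)) hU S hsimp (by rw [← hT, htop]; exact le_top)
  exact (heq e ((hmem e).1 he)).trans (h.symm hU.2.1)

/-- A constituent whose type is fixed by a 2-group has an invariant copy. -/
theorem exists_invariant_simple [IsAlgClosed k] [FiniteDimensional k V] [CharP k 2] [Finite G]
    {C : Subgroup G} {W : Submodule k V} (hW : IsSimpleSub (τ.comp C.subtype) W) :
    ∀ (n : ℕ) (S : Subgroup G), Nat.card S ≤ n → IsPGroup 2 S → S ≤ normalizer (C : Set G) →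
      (∀ s ∈ S, Isom (τ.comp C.subtype) W (W.map (τ s))) →
      ∃ W', Isom (τ.comp C.subtype) W W' ∧ S ≤ mapStab τ W' := by
  intro n
  induction n with
  | zero => intro S h; exact absurd h (Nat.not_le.2 Nat.card_pos)
  | succ n ih =>
  intro S hn hS hSC hiso
  by_cases hbot : S = ⊥
  · exact ⟨W, Isom.refl W, hbot ▸ bot_le⟩
  haveI : Nontrivial S := (Subgroup.nontrivial_iff_ne_bot S).2 hbot
  haveI := hS.isNilpotent
  obtain ⟨M, hM, -⟩ := (eq_top_or_exists_le_coatom (⊥ : Subgroup S)).resolve_left bot_ne_top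
  haveI hMn : M.Normal :=
    (Group.normalizerCondition_of_isNilpotent).normal_of_coatom M hM
  set S₁ := M.map S.subtype with hS₁
  have hS₁S : S₁ ≤ S := map_subtype_le _
  obtain ⟨W₁, hW₁, hstab⟩ := ih S₁ (by
      have hlt : Nat.card M < Nat.card S :=
        lt_of_le_of_ne (Nat.le_of_dvd Nat.card_pos (card_subgroup_dvd_card M)) fun h =>
          hM.1 (eq_top_of_card_eq M h)
      rw [hS₁, card_map_of_injective S.subtype_injective]; omega)
    (hS.to_le hS₁S) (hS₁S.trans hSC) fun s hs => hiso s (hS₁S hs)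
  obtain ⟨⟨y, hyS⟩, hyM⟩ : ∃ y : S, y ∉ M := by
    by_contra h
    push Not at h
    exact hM.1 (eq_top_iff.2 fun x _ => h x)
  have hy₁ : y ∈ normalizer (S₁ : Set G) := by
    have hM' := mem_normalizer_iff_map_conj_eq.1
      (show (⟨y, hyS⟩ : S) ∈ normalizer (M : Set S) by rw [normalizer_eq_top]; exact mem_top _)
    rw [mem_normalizer_iff_map_conj_eq, hS₁, Subgroup.map_map]
    conv_rhs => rw [← hM', Subgroup.map_map]
    rfl
  have hW₁s : IsSimpleSub (τ.comp C.subtype) W₁ := hW₁.simple hW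
  set H := C ⊔ S₁ with hH
  have hHstab : H ≤ mapStab τ W₁ := sup_le (le_mapStab fun g hg v hv => hW₁s.2.1 ⟨g, hg⟩ v hv) hstab
  have hyH : y ∈ normalizer (H : Set G) := by
    rw [mem_normalizer_iff_map_conj_eq, hH, Subgroup.map_sup, mem_normalizer_iff_map_conj_eq.1 (hSC hyS),
      mem_normalizer_iff_map_conj_eq.1 hy₁]
  have hW₁H : IsSimpleSub (τ.comp H.subtype) W₁ :=
    ⟨hW₁s.1, fun g v hv => mem_of_mapStab (hHstab g.2) hv, fun U hU hUi =>
      hW₁s.2.2 U hU fun g v hv => hUi ⟨g, (le_sup_left : C ≤ H) g.2⟩ v hv⟩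
  obtain ⟨f, hf⟩ := (hW₁.symm hW.2.1).trans ((hiso y hyS).trans (isom_map_of_mem τ (hSC hyS) hW₁))
  have hW₁y : IsSimpleSub (τ.comp C.subtype) (W₁.map (τ y)) := simple_map_of_mem τ (hSC hyS) hW₁s
  have hyst : S₁ ≤ mapStab τ (W₁.map (τ y)) := fun s hs => by
    show (W₁.map (τ y)).map (τ s) = W₁.map (τ y)
    have hs' : y⁻¹ * s * y ∈ S₁ := (mem_normalizer_iff''.1 hy₁ s).1 hs
    rw [← map_map_mul, show s * y = y * (y⁻¹ * s * y) by group, map_map_mul, (hstab hs' : W₁.map _ = W₁)]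
  have hscal : ∀ s ∈ S₁, ∀ w w' : W₁, (w' : V) = τ s w → (f w' : V) = τ s (f w) := by
    have hW₁S : ∀ g ∈ S₁, ∀ v ∈ W₁, τ g v ∈ W₁ := fun g hg v hv => mem_of_mapStab (hstab hg) hv
    have hW₁yS : ∀ g ∈ S₁, ∀ v ∈ W₁.map (τ y), τ g v ∈ W₁.map (τ y) := fun g hg v hv =>
      mem_of_mapStab (hyst hg) hv
    have hex : ∀ s : S₁, ∃ μ : k, ∀ w w' : W₁, (w' : V) = τ (s : G) w → (f w' : V) = μ • τ (s : G) (f w) := by
      intro s
      let f' : W₁ →ₗ[k] W₁.map (τ y) :=
        (subRep τ S₁ (W₁.map (τ y)) hW₁yS s⁻¹).comp (f.toLinearMap.comp (subRep τ S₁ W₁ hW₁S s))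
      obtain ⟨μ, hμ⟩ := scalar_of_intertwine hW₁s hW₁y.2.1 f (fun g w w' h => hf g w w' h) f' (by
        intro g w w' h
        have hg : (s : G) * g * (s : G)⁻¹ ∈ C := (mem_normalizer_iff.1 (hSC (hS₁S s.2)) g).1 g.2
        have h1 := hf ⟨_, hg⟩ (subRep τ S₁ W₁ hW₁S s w) (subRep τ S₁ W₁ hW₁S s w') (by
          show τ (s : G) (w' : V) = τ ((s : G) * g * (s : G)⁻¹) (τ (s : G) w)
          rw [h, ← Module.End.mul_apply, ← map_mul, ← Module.End.mul_apply, ← map_mul, inv_mul_cancel_right])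
        show τ ((s : G)⁻¹) (f (subRep τ S₁ W₁ hW₁S s w') : V) = τ (g : G) (τ (s : G)⁻¹ (f (subRep τ S₁ W₁ hW₁S s w)))
        rw [h1]
        show τ (s : G)⁻¹ (τ ((s : G) * g * (s : G)⁻¹) _) = _
        rw [← Module.End.mul_apply, ← map_mul, ← Module.End.mul_apply, ← map_mul]
        congr 2
        group)
      refine ⟨μ, fun w w' h => ?_⟩
      have h1 : τ (s : G)⁻¹ (f (subRep τ S₁ W₁ hW₁S s w) : V) = μ • (f w : V) := congrArg Subtype.val (hμ w)
      rw [show subRep τ S₁ W₁ hW₁S s w = w' from Subtype.ext h.symm] at h1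
      rw [← map_smul, ← h1, apply_inv_apply]
    choose μ hμ using hex
    obtain ⟨w₀, hw₀m, hw₀ne⟩ := Submodule.exists_mem_ne_zero_of_ne_bot hW₁s.1
    have hfw₀ : ∀ (g : G), τ g (f ⟨w₀, hw₀m⟩ : V) ≠ 0 := fun g h => hw₀ne (by
      have h0 := apply_injective τ g (h.trans (map_zero (τ g)).symm)
      have h' := f.injective ((Subtype.ext h0 : f ⟨w₀, hw₀m⟩ = 0).trans (map_zero f).symm)
      exact congrArg Subtype.val h')
    have hmul : ∀ s t : S₁, μ (s * t) = μ s * μ t := fun s t => by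
      let wt : W₁ := subRep τ S₁ W₁ hW₁S t ⟨w₀, hw₀m⟩
      let wst : W₁ := subRep τ S₁ W₁ hW₁S (s * t) ⟨w₀, hw₀m⟩
      have h1 := hμ (s * t) ⟨w₀, hw₀m⟩ wst rfl
      have h2 := hμ t ⟨w₀, hw₀m⟩ wt rfl
      have h3 := hμ s wt wst (by
        show τ ((s * t : S₁) : G) w₀ = τ (s : G) (τ (t : G) w₀)
        rw [Subgroup.coe_mul, map_mul, Module.End.mul_apply])
      rw [h2, map_smul, smul_smul, ← Module.End.mul_apply, ← map_mul] at h3
      rw [h3, Subgroup.coe_mul] at h1
      exact (smul_left_injective k (hfw₀ _) h1).symm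
    have hone : μ 1 = 1 := by
      have h := hμ 1 ⟨w₀, hw₀m⟩ ⟨w₀, hw₀m⟩ (by simp)
      rw [OneMemClass.coe_one, map_one, Module.End.one_apply] at h
      refine (smul_left_injective k (show (f ⟨w₀, hw₀m⟩ : V) ≠ 0 by simpa using hfw₀ 1) ?_).symm
      show (1 : k) • _ = _
      rw [one_smul]; exact h
    intro s hs w w' h
    let M' : S₁ →* k := { toFun := μ, map_one' := hone, map_mul' := hmul }
    obtain ⟨j, hj⟩ := (hS.to_le hS₁S) ⟨s, hs⟩
    have h1 : μ ⟨s, hs⟩ = 1 := eq_one_of_pow_two_pow j (by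
      show (M' ⟨s, hs⟩) ^ 2 ^ j = 1
      rw [← map_pow, hj, map_one])
    rw [hμ ⟨s, hs⟩ w w' h, h1, one_smul]
  have hfH : ∀ (g : H) (w w' : W₁), (w' : V) = τ (g : G) w → (f w' : V) = τ (g : G) (f w) := by
    let F : Subgroup G :=
      { carrier := {g | g ∈ mapStab τ W₁ ∧ ∀ w w' : W₁, (w' : V) = τ g w → (f w' : V) = τ g (f w)}
        mul_mem' := fun {g g'} hg hg' => ⟨mul_mem hg.1 hg'.1, fun w w' h => by
          rw [map_mul, Module.End.mul_apply] at h ⊢
          rw [← hg'.2 w ⟨τ g' w, mem_of_mapStab hg'.1 w.2⟩ rfl]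
          exact hg.2 _ w' h⟩
        one_mem' := ⟨one_mem _, fun w w' h => by
          rw [map_one, Module.End.one_apply] at h ⊢
          rw [Subtype.ext h]⟩
        inv_mem' := fun {g} hg => ⟨inv_mem hg.1, fun w w' h => apply_injective τ g (by
          rw [apply_inv_apply, ← hg.2 w' w]
          rw [h, apply_inv_apply])⟩ }
    have hle : H ≤ F := sup_le
      (fun g hg => ⟨hHstab ((le_sup_left : C ≤ H) hg), fun w w' h => hf ⟨g, hg⟩ w w' h⟩)
      (fun g hg => ⟨hstab hg, hscal g hg⟩)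
    exact fun g => (hle g.2).2
  obtain ⟨W', hW', hy'⟩ := exists_invariant_copy τ hyH hW₁H ⟨f, hfH⟩
  refine ⟨W', hW₁.trans (?_ : Isom (τ.comp C.subtype) W₁ W'), ?_⟩
  · obtain ⟨f', hf'⟩ := hW'
    exact ⟨f', fun g w w' h => hf' ⟨g, (le_sup_left : C ≤ H) g.2⟩ w w' h⟩
  have hHW' : H ≤ mapStab τ W' := le_mapStab fun g hg v hv => (hW'.simple hW₁H).2.1 ⟨g, hg⟩ v hv
  intro s hs
  have hgen : M ⊔ zpowers (⟨y, hyS⟩ : S) = ⊤ :=
    hM.2 _ (lt_of_le_of_ne le_sup_left fun h => hyM (h ▸ (le_sup_right : _ ≤ M ⊔ _) (mem_zpowers _)))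
  have h1 : (M ⊔ zpowers (⟨y, hyS⟩ : S)).map S.subtype ≤ mapStab τ W' := by
    rw [Subgroup.map_sup, MonoidHom.map_zpowers]
    exact sup_le (le_sup_right.trans hHW') (zpowers_le.2 hy')
  exact h1 ⟨⟨s, hs⟩, hgen ▸ mem_top _, rfl⟩

end Cfsg.Agent.TwoLength
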