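import Cfsg.Agent.TwoLength.Classes

/-!
The two factors of a frame cut out by an involution, and the induced frame on a Brauer quotient.
-/

set_option autoImplicit false

namespace Cfsg.Agent.TwoLength

open Subgroup
open scoped commutatorElement
open Cfsg.Agent.HallHigman

universe u v w

variable {k : Type w} [Field k] [CharP k 2] {V : Type v} [AddCommGroup V] [Module k V] {G : Type u} [Group G]
  [Finite G] {q : ℕ} [hq : Fact q.Prime] {τ : G →* Module.End k V} {C T : Subgroup G} {a : G}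

/-- The fixed operators of an element. -/
abbrev fix (C : Subgroup G) (c : G) : Subgroup G := C ⊓ centralizer ({c} : Set G)

theorem mem_fix {c u : G} : u ∈ fix C c ↔ u ∈ C ∧ Commute u c :=
  and_congr_right fun _ => mem_centralizer_singleton_iff

theorem conj_mem_of_normalizer {s u : G} (hs : s ∈ normalizer (C : Set G)) (hu : u ∈ C) : s * u * s⁻¹ ∈ C :=
  (mem_normalizer_iff.1 hs u).1 hu

variable [FiniteDimensional k V]

omit [FiniteDimensional k V] in
/-- Symmetrised elements are fixed. -/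
theorem commute_sym (F : Frame q τ C T a) (hq2 : q ≠ 2) {s u : G} (hs : s * s = 1)
    (hsC : s ∈ normalizer (C : Set G)) (hu : u ∈ C) : Commute s (u * (s * u * s⁻¹)) := by
  have hu' := conj_mem_of_normalizer hsC hu
  have hsi : s⁻¹ = s := inv_eq_of_mul_eq_one_right hs
  refine commute_of_sc F.inj hq2 F.qC hs hsC (C.mul_mem hu hu') ?_
  have h : s * (u * (s * u * s⁻¹)) * s⁻¹ = s * u * s⁻¹ * u := by
    have hss : s * (s * u * s⁻¹) * s⁻¹ = u := by
      rw [hsi, show s * (s * u * s) * s = (s * s) * u * (s * s) by group, hs, one_mul, mul_one]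
    calc s * (u * (s * u * s⁻¹)) * s⁻¹ = (s * u * s⁻¹) * (s * (s * u * s⁻¹) * s⁻¹) := by group
      _ = s * u * s⁻¹ * u := by rw [hss]
  rw [h, show (u * (s * u * s⁻¹))⁻¹ * (s * u * s⁻¹ * u) = ⁅(s * u * s⁻¹)⁻¹, u⁻¹⁆ by
    rw [commutatorElement_def]; group]
  exact F.class2 _ (C.inv_mem hu') _ (C.inv_mem hu)

omit [FiniteDimensional k V] in
/-- The fixed-point-free involution inverts modulo scalars. -/
theorem sc_mul_conj (F : Frame q τ C T a) (hq2 : q ≠ 2) {u : G} (hu : u ∈ C) :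
    Sc τ (u * (a * u * a⁻¹)) :=
  F.fpf _ (C.mul_mem hu (conj_mem_of_normalizer (F.nrm F.aT) hu)) (commute_sym F hq2 F.a2 (F.nrm F.aT) hu)

/-- A further involution. -/
structure Split (T : Subgroup G) (a b : G) : Prop where
  bT : b ∈ T
  b2 : b * b = 1
  b1 : b ≠ 1
  ba : b ≠ a

omit [Finite G] [FiniteDimensional k V] [CharP k 2] in
theorem Split.commute {b : G} (F : Frame q τ C T a) (S : Split T a b) : Commute b a := F.ac b S.bT

omit [Finite G] [FiniteDimensional k V] in
theorem Split.c2 {b : G} (F : Frame q τ C T a) (S : Split T a b) : a * b * (a * b) = 1 := by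
  rw [show a * b * (a * b) = a * (b * a) * b by group, (S.commute F).eq,
    show a * (a * b) * b = (a * a) * (b * b) by group, F.a2, S.b2, mul_one]

omit [Finite G] [FiniteDimensional k V] in
theorem Split.cC {b : G} (F : Frame q τ C T a) (S : Split T a b) : a * b ∈ normalizer (C : Set G) :=
  mul_mem (F.nrm F.aT) (F.nrm S.bT)

omit [FiniteDimensional k V] in
theorem sq_decomp (F : Frame q τ C T a) (hq2 : q ≠ 2) {b u : G} (S : Split T a b) (hu : u ∈ C) :
    u * (a * b * u * (a * b)⁻¹) ∈ fix C (a * b) ∧ (a * b * u * (a * b)⁻¹)⁻¹ * u ∈ fix C b ∧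
      u * u = u * (a * b * u * (a * b)⁻¹) * ((a * b * u * (a * b)⁻¹)⁻¹ * u) := by
  set c := a * b with hc
  have hu' := conj_mem_of_normalizer (S.cC F) hu
  refine ⟨mem_fix.2 ⟨C.mul_mem hu hu', (commute_sym F hq2 (S.c2 F) (S.cC F) hu).symm⟩, ?_, by group⟩
  set w := (c * u * c⁻¹)⁻¹ * u with hw
  have hwC : w ∈ C := C.mul_mem (C.inv_mem hu') hu
  refine mem_fix.2 ⟨hwC, ?_⟩
  have hci : c⁻¹ = c := inv_eq_of_mul_eq_one_right (S.c2 F)
  have hcw : c * w * c⁻¹ = w⁻¹ := by
    rw [hw]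
    calc c * ((c * u * c⁻¹)⁻¹ * u) * c⁻¹ = c * c * u⁻¹ * (c⁻¹ * c⁻¹) * (c * u * c⁻¹) := by group
      _ = ((c * u * c⁻¹)⁻¹ * u)⁻¹ := by
        rw [S.c2 F, show c⁻¹ * c⁻¹ = (c * c)⁻¹ by group, S.c2 F]; group
  have hbc : b * w * b⁻¹ = a * w⁻¹ * a⁻¹ := by
    rw [← hcw, show a * (c * w * c⁻¹) * a⁻¹ = a * c * w * (a * c)⁻¹ by group,
      show a * c = b by rw [hc, ← mul_assoc, F.a2, one_mul]]
  refine (commute_of_sc F.inj hq2 F.qC S.b2 (F.nrm S.bT) hwC ?_).symm
  rw [hbc, show w⁻¹ * (a * w⁻¹ * a⁻¹) = w⁻¹ * (a * w⁻¹ * a⁻¹) from rfl]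
  exact sc_mul_conj F hq2 (C.inv_mem hwC)

omit [FiniteDimensional k V] in
theorem commute_factors (F : Frame q τ C T a) (hq2 : q ≠ 2) {b u v : G} (S : Split T a b)
    (hu : u ∈ fix C (a * b)) (hv : v ∈ fix C b) : Commute u v := by
  obtain ⟨huC, huc⟩ := mem_fix.1 hu
  obtain ⟨hvC, hvb⟩ := mem_fix.1 hv
  set z := ⁅u, v⁆ with hz
  have hzsc := F.class2 u huC v hvC
  set z' := v * (a * v * a⁻¹) with hz'
  have hz'c : ∀ g, Commute z' g := (sc_mul_conj F hq2 hvC).commute F.inj
  have hconj : (a * b) * v * (a * b)⁻¹ = v⁻¹ * z' := by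
    rw [show a * b * v * (a * b)⁻¹ = a * (b * v) * b⁻¹ * a⁻¹ by group, ← hvb.eq, ← mul_assoc a v b, mul_inv_cancel_right, hz',
      inv_mul_cancel_left]
  have h2 : z = z⁻¹ := by
    calc z = (a * b) * z * (a * b)⁻¹ := by
          rw [← (hzsc.commute F.inj (a * b)).eq, mul_inv_cancel_right]
      _ = ⁅(a * b) * u * (a * b)⁻¹, (a * b) * v * (a * b)⁻¹⁆ := by
          simp only [hz, commutatorElement_def]; group
      _ = ⁅u, v⁻¹ * z'⁆ := by rw [hconj, ← huc.eq, mul_inv_cancel_right]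
      _ = ⁅u, v⁻¹⁆ := by
          rw [commutatorElement_def, commutatorElement_def, ← mul_assoc, mul_inv_rev,
            show u * v⁻¹ * z' * u⁻¹ * (z'⁻¹ * v⁻¹⁻¹) = u * v⁻¹ * (z' * u⁻¹) * z'⁻¹ * v⁻¹⁻¹ by group,
            (hz'c u⁻¹).eq, show u * v⁻¹ * (u⁻¹ * z') * z'⁻¹ = u * v⁻¹ * u⁻¹ by group]
      _ = v⁻¹ * z⁻¹ * v := by simp only [hz, commutatorElement_def]; group
      _ = z⁻¹ := by rw [← (hzsc.inv.commute F.inj v⁻¹).eq, inv_mul_cancel_right]
  have hzC : z ∈ C := by
    rw [hz, commutatorElement_def]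
    exact C.mul_mem (C.mul_mem (C.mul_mem huC hvC) (C.inv_mem huC)) (C.inv_mem hvC)
  exact commutatorElement_eq_one_iff_commute.1
    (eq_one_of_sq hq2 F.qC hzC (mul_eq_one_iff_eq_inv.2 h2))

omit [FiniteDimensional k V] in
/-- Subspaces invariant under both factors are invariant. -/
theorem invariant_of_factors (F : Frame q τ C T a) (hq2 : q ≠ 2) {b : G} (S : Split T a b)
    {U : Submodule k V} (h1 : ∀ u ∈ fix C (a * b), ∀ v ∈ U, τ u v ∈ U) (h2 : ∀ u ∈ fix C b, ∀ v ∈ U, τ u v ∈ U) :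
    ∀ u ∈ C, ∀ v ∈ U, τ u v ∈ U := by
  intro u hu v hv
  obtain ⟨hp, hm, hprod⟩ := sq_decomp F hq2 S hu
  have hsq : u * u ∈ mapStab τ U := by
    rw [hprod]
    exact mul_mem (le_mapStab h1 hp) (le_mapStab h2 hm)
  obtain ⟨j, hj⟩ := exists_sq_pow hq2 F.qC hu
  exact mem_of_mapStab (hj ▸ pow_mem hsq j) hv

omit [FiniteDimensional k V] in
/-- Elements commuting with both factors commute with everything. -/
theorem commute_of_factors (F : Frame q τ C T a) (hq2 : q ≠ 2) {b x : G} (S : Split T a b)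
    (h1 : ∀ u ∈ fix C (a * b), Commute x u) (h2 : ∀ u ∈ fix C b, Commute x u) : ∀ u ∈ C, Commute x u := by
  intro u hu
  obtain ⟨hp, hm, hprod⟩ := sq_decomp F hq2 S hu
  obtain ⟨j, hj⟩ := exists_sq_pow hq2 F.qC hu
  rw [← hj, hprod]
  exact ((h1 _ hp).mul_right (h2 _ hm)).pow_right j

variable [IsAlgClosed k] [Nontrivial V]

/-- The fixed operators of `a b` do not all commute. -/
theorem exists_noncommuting (F : Frame q τ C T a) (hq2 : q ≠ 2) {b : G} (S : Split T a b) :
    ∃ u ∈ fix C (a * b), ∃ v ∈ fix C (a * b), ¬ Commute u v := by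
  by_contra hall
  push Not at hall
  have hsc : ∀ u ∈ fix C (a * b), Sc τ u := fun u hu => sc_of_commute_all F.irr
    (commute_of_factors F hq2 S (fun v hv => hall u hu v hv) fun v hv => commute_factors F hq2 S hu hv)
  refine S.b1 (Sc.eq_one F.inj (j := 1) (sc_of_commute_all F.irr (commute_of_factors F hq2 S
    (fun u hu => ((hsc u hu).commute F.inj b).symm) fun u hu => (mem_fix.1 hu).2.symm)) ?_)
  rw [pow_one, pow_two]
  exact S.b2

/-- The frame on the Brauer quotient at `a b`. -/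
theorem quotient_frame (F : Frame q τ C T a) (hq2 : q ≠ 2) {b : G} (S : Split T a b) {T₁ : Subgroup G}
    (hT₁ : T₁ ≤ T) (hT₁b : ∀ t ∈ T₁, Commute t b) {m : ℕ} (ha : a ∈ dser m T₁)
    (hL : ∀ v ∈ LinearMap.ker (opN τ (a * b)),
      Lands τ ((LinearMap.range (opN τ (a * b))).comap (opN τ b)) m T₁ v) :
    ∃ (G' : Type u) (_ : Group G') (_ : Finite G') (τ' : G' →* Module.End k (BQuot τ (a * b)))
      (C' T' : Subgroup G') (a' : G'), Frame q τ' C' T' a' ∧ a' ∈ dser m T' ∧
        (∀ v, Lands τ' (LinearMap.ker (opN τ' a')) m T' v) ∧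
        Module.finrank k (BQuot τ (a * b)) < Module.finrank k V ∧ Nontrivial (BQuot τ (a * b)) := by
  have hc2 := S.c2 F
  have hcC := S.cC F
  set c := a * b with hc
  have hc1 : c ≠ 1 := fun h => S.ba (by
    calc b = a * a * b := by rw [F.a2, one_mul]
      _ = a := by rw [mul_assoc, ← hc, h, mul_one])
  haveI hnt : Nontrivial (BQuot τ c) := by
    refine Module.nontrivial_of_finrank_pos (R := k) ?_
    obtain ⟨j, hj⟩ := odd_finrank hq2 F.qC F.irr
    have := finrank_bQuot τ hc2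
    omega
  obtain ⟨G', _, _, π, τ', hπ, hinj', hτ'⟩ := exists_image (bRep τ c)
  have hbN : b ∈ centralizer ({c} : Set G) :=
    mem_centralizer_singleton_iff.2 ((S.commute F).mul_right (Commute.refl b)).eq
  have haN : a ∈ centralizer ({c} : Set G) :=
    mem_centralizer_singleton_iff.2 ((Commute.refl a).mul_right (S.commute F).symm).eq
  have hTN : T₁ ≤ centralizer ({c} : Set G) := fun t ht =>
    mem_centralizer_singleton_iff.2 ((F.ac t (hT₁ ht)).mul_right (hT₁b t ht)).eq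
  set C' := (C.subgroupOf (centralizer ({c} : Set G))).map π with hC'
  set T' := (T₁.subgroupOf (centralizer ({c} : Set G))).map π with hT'
  set a' := π ⟨b, hbN⟩ with ha'
  have haeq : π ⟨a, haN⟩ = a' := hinj' (by
    rw [ha', hτ', hτ']
    refine LinearMap.ext fun v => ?_
    obtain ⟨v, rfl⟩ := Submodule.Quotient.mk_surjective _ v
    rw [bRep_mk, bRep_mk]
    congr 1
    refine Subtype.ext ?_
    show τ a v = τ b v
    conv_rhs => rw [show b = a * c by rw [hc, ← mul_assoc, F.a2, one_mul], map_mul, Module.End.mul_apply,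
      mem_ker_opN.1 v.2])
  have hsq : ∀ w : G', w ∈ C' → Commute a' w → Sc τ' w := by
    rintro _ ⟨x, hx, rfl⟩ hcom
    have hxC : (x : G) ∈ C := hx
    have hxf := mem_fix.2 ⟨hxC, commute_of_mem x⟩
    have hbxN : b * x * b⁻¹ ∈ centralizer ({c} : Set G) :=
      mul_mem (mul_mem hbN x.2) (inv_mem hbN)
    set y : centralizer ({c} : Set G) := ⟨b * x * b⁻¹, hbxN⟩ with hy
    have hπy : π y = π x := by
      rw [show y = ⟨b, hbN⟩ * x * ⟨b, hbN⟩⁻¹ from Subtype.ext rfl, map_mul, map_mul, map_inv, ← ha', hcom.eq,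
        mul_inv_cancel_right]
    have hsc : Sc τ (x * (a * x * a⁻¹) : G) := sc_mul_conj F hq2 hxC
    have haby : a * (x : G) * a⁻¹ = (y : G) := by
      show a * (x : G) * a⁻¹ = b * x * b⁻¹
      have h1 : c * (x : G) = x * c := (mem_fix.1 hxf).2.symm.eq
      have hac : a = b * c := by
        rw [hc, ← mul_assoc, (S.commute F).eq, mul_assoc, S.b2, mul_one]
      rw [hac, mul_inv_rev, show b * c * (x : G) * (c⁻¹ * b⁻¹) = b * (c * x * c⁻¹) * b⁻¹ by group, h1,
        mul_inv_cancel_right]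
    obtain ⟨μ, hμ⟩ := hsc
    have hxx : Sc τ' (π x * π x) := ⟨μ, by
      nth_rewrite 2 [← hπy]
      rw [← map_mul, hτ']
      refine LinearMap.ext fun v => ?_
      obtain ⟨v, rfl⟩ := Submodule.Quotient.mk_surjective _ v
      rw [bRep_mk, LinearMap.smul_apply, Module.End.one_apply, ← Submodule.Quotient.mk_smul]
      congr 1
      refine Subtype.ext ?_
      show τ ((x : G) * y) v = μ • (v : V)
      rw [← haby, hμ]
      rfl⟩
    have hC'q : IsPGroup q C' := (F.qC.comap_of_injective _ Subtype.val_injective).map π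
    exact sc_of_sq hq2 hC'q (mem_map_of_mem π hx) hxx
  have hirr' : Irred (τ'.comp C'.subtype) := by
    intro U hU
    refine (irred_bQuot hq2 F.qC F.irr hc2 hcC).1 U fun x v hv => ?_
    have := hU ⟨π x, mem_map_of_mem π x.2⟩ v hv
    rwa [MonoidHom.comp_apply, Subgroup.coe_subtype, hτ'] at this
  have hne' : a' ≠ 1 := by
    intro h
    obtain ⟨u, hu, v, hv, huv⟩ := exists_noncommuting F hq2 S
    obtain ⟨huC, huc⟩ := mem_fix.1 hu
    obtain ⟨hvC, hvc⟩ := mem_fix.1 hv
    set u' : centralizer ({c} : Set G) := ⟨u, mem_centralizer_singleton_iff.2 huc.eq⟩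
    set v' : centralizer ({c} : Set G) := ⟨v, mem_centralizer_singleton_iff.2 hvc.eq⟩
    have hu'sc : Sc τ' (π u') := hsq _ (mem_map_of_mem π (show u' ∈ C.subgroupOf _ from huC))
      (by rw [h]; exact Commute.one_left _)
    obtain ⟨μ, hμ⟩ := F.class2 u huC v hvC
    have h1 : τ' (π ⁅u', v'⁆) = μ • 1 := by
      rw [hτ']
      refine LinearMap.ext fun x => ?_
      obtain ⟨x, rfl⟩ := Submodule.Quotient.mk_surjective _ x
      rw [bRep_mk, LinearMap.smul_apply, Module.End.one_apply, ← Submodule.Quotient.mk_smul]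
      congr 1
      refine Subtype.ext ?_
      show τ ⁅u, v⁆ x = μ • (x : V)
      rw [hμ]; rfl
    rw [map_commutatorElement, commutatorElement_eq_one_iff_commute.2 (hu'sc.commute hinj' (π v')), map_one] at h1
    have hμ1 : μ = 1 := (smul_left_injective k (one_ne_zero' (Module.End k (BQuot τ c)))
      (show (1 : k) • (1 : Module.End k (BQuot τ c)) = μ • 1 by rw [one_smul]; exact h1)).symm
    refine huv (commutatorElement_eq_one_iff_commute.1 (F.inj ?_))
    rw [hμ, hμ1, one_smul, map_one]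
  refine ⟨G', inferInstance, inferInstance, τ', C', T', a', ⟨hinj', hirr',
    (F.qC.comap_of_injective _ Subtype.val_injective).map π, ?_, (F.pT.to_le hT₁).comap_of_injective _
      Subtype.val_injective |>.map π, ?_, ?_, ?_, ?_, hne', hsq⟩, ?_, ?_, finrank_bQuot_lt τ F.inj hc2 hc1, hnt⟩
  · rintro _ ⟨x, hx, rfl⟩ _ ⟨y, hy, rfl⟩
    obtain ⟨μ, hμ⟩ := F.class2 x hx y hy
    refine ⟨μ, ?_⟩
    rw [← map_commutatorElement, hτ']
    refine LinearMap.ext fun v => ?_
    obtain ⟨v, rfl⟩ := Submodule.Quotient.mk_surjective _ v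
    rw [bRep_mk, LinearMap.smul_apply, Module.End.one_apply, ← Submodule.Quotient.mk_smul]
    congr 1
    refine Subtype.ext ?_
    show τ ⁅(x : G), (y : G)⁆ v = μ • (v : V)
    rw [hμ]; rfl
  · rintro _ ⟨t, ht, rfl⟩
    refine mem_normalizer_iff_map_conj_eq.2 (Subgroup.eq_of_le_of_card_ge ?_
      (card_map_of_injective (MulAut.conj (π t)).injective).ge)
    rintro _ ⟨_, ⟨x, hx, rfl⟩, rfl⟩
    exact ⟨t * x * t⁻¹, (conj_mem_of_normalizer (C := C) (F.nrm (hT₁ ht)) hx : (t : G) * x * (t : G)⁻¹ ∈ C), by simp⟩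
  · exact ⟨⟨a, haN⟩, dser_le_self m T₁ ha, haeq⟩
  · rintro _ ⟨t, ht, rfl⟩
    exact (show Commute t ⟨b, hbN⟩ from Subtype.ext (hT₁b t ht).eq).map π
  · rw [ha', ← map_mul, show (⟨b, hbN⟩ : centralizer ({c} : Set G)) * ⟨b, hbN⟩ = 1 from Subtype.ext S.b2,
      map_one]
  · have h : (⟨a, haN⟩ : centralizer ({c} : Set G)) ∈ dser m (T₁.subgroupOf (centralizer ({c} : Set G))) := by
      have h' : a ∈ (dser m (T₁.subgroupOf (centralizer ({c} : Set G)))).map (centralizer ({c} : Set G)).subtype := by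
        rw [map_dser, map_subgroupOf_eq_of_le hTN]; exact ha
      obtain ⟨x, hx, e⟩ := h'
      rwa [show (⟨a, haN⟩ : centralizer ({c} : Set G)) = x from Subtype.ext e.symm]
    rw [hT', ← map_dser, ← haeq]
    exact mem_map_of_mem π h
  · intro v
    obtain ⟨v, rfl⟩ := Submodule.Quotient.mk_surjective _ v
    have h1 := hL v v.2
    rw [← map_subgroupOf_eq_of_le hTN,
      show (v : V) = (LinearMap.ker (opN τ c)).subtype v from rfl,
      lands_map_iff (σ := kerRep τ c) (centralizer ({c} : Set G)).subtype (LinearMap.ker (opN τ c)).subtype m _ v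
        (fun g _ w => rfl)] at h1
    rw [hT', show (Submodule.Quotient.mk v : BQuot τ c) = (LinearMap.id : BQuot τ c →ₗ[k] BQuot τ c)
      (Submodule.Quotient.mk v) from rfl, lands_map_iff (σ := bRep τ c) π LinearMap.id m _ _
        (fun g _ w => by rw [hτ']; rfl)]
    rw [← map_id (T₁.subgroupOf (centralizer ({c} : Set G))), ← Submodule.mkQ_apply,
      lands_map_iff (σ := kerRep τ c) (MonoidHom.id _) (imIn τ c).mkQ m _ _ (fun g _ w => rfl)]
    refine h1.mono le_rfl fun x hx => ?_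
    simp only [Submodule.mem_comap, LinearMap.mem_ker, LinearMap.id_apply, Submodule.mkQ_apply] at hx ⊢
    rw [opN_apply, ha', hτ', bRep_mk, ← Submodule.Quotient.mk_sub, Submodule.Quotient.mk_eq_zero]
    exact hx

end Cfsg.Agent.TwoLength
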