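import Cfsg.Agent.TwoLength.Lands
import Cfsg.Agent.Core.Solvable

/-!
A 2-group whose second derived term is nontrivial has an involution centralising the derived
subgroup and moved at most by a given central involution (Burnside).
-/

set_option autoImplicit false

namespace Cfsg.Agent.TwoLength

open Subgroup
open scoped commutatorElement

theorem commutator_commute_of_conj {G : Type*} [Group G] {u : G}
    (h : ∀ p q : G, p * q * u * (p * q)⁻¹ = q * p * u * (q * p)⁻¹) (s t : G) : ⁅s, t⁆ * u = u * ⁅s, t⁆ := by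
  have h1 := h s⁻¹ t⁻¹
  rw [← mul_inv_eq_iff_eq_mul]
  calc ⁅s, t⁆ * u * ⁅s, t⁆⁻¹ = s * t * (s⁻¹ * t⁻¹ * u * (s⁻¹ * t⁻¹)⁻¹) * (s * t)⁻¹ := by
        rw [commutatorElement_def]; group
    _ = u := by rw [h1]; group

/-- The group form. -/
theorem exists_four_group {G : Type*} [Group G] [Finite G] (hG : IsPGroup 2 G) {a : G}
    (hac : a ∈ center G) (ha2 : a * a = 1) (hne : a ≠ 1)
    (hM : a ∈ ⁅⁅(⊤ : Subgroup G), (⊤ : Subgroup G)⁆, ⁅(⊤ : Subgroup G), (⊤ : Subgroup G)⁆⁆) :
    ∃ b : G, b * b = 1 ∧ b ≠ 1 ∧ b ≠ a ∧ (∀ x ∈ ⁅(⊤ : Subgroup G), (⊤ : Subgroup G)⁆, Commute x b) ∧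
      ∀ t : G, t * b * t⁻¹ = b ∨ t * b * t⁻¹ = a * b := by
  haveI : Fact (Nat.Prime 2) := ⟨Nat.prime_two⟩
  haveI := hG.isNilpotent
  set M := ⁅(⊤ : Subgroup G), (⊤ : Subgroup G)⁆ with hMdef
  haveI hMn : M.Normal := commutator_normal _ _
  set Z := M ⊓ centralizer (M : Set G) with hZ
  haveI hcn : (centralizer (M : Set G)).Normal := inferInstance
  haveI hZn : Z.Normal := normal_inf_normal _ _
  have hZM : ∀ z ∈ Z, ∀ x ∈ M, Commute x z := fun z hz x hx => mem_centralizer_iff.1 hz.2 x hx
  have haM : a ∈ M := commutator_le_of_self M hM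
  have haZ : a ∈ Z := ⟨haM, mem_centralizer_iff.2 fun x _ => mem_center_iff.1 hac x⟩
  have hpow : ∀ t : G, ∀ z ∈ zpowers a, t * z * t⁻¹ = z := fun t z hz => by
    obtain ⟨i, rfl⟩ := mem_zpowers_iff.1 hz
    rw [mem_center_iff.1 ((center G).zpow_mem hac i) t, mul_inv_cancel_right]
  by_cases hex : ∃ x ∈ Z, x * x = 1 ∧ x ≠ 1 ∧ x ≠ a
  · -- a further involution in the centre of the derived subgroup
    obtain ⟨x, hxZ, hx2, hx1, hxa⟩ := hex
    haveI hAn : (zpowers a).Normal := ⟨fun z hz t => by rwa [hpow t z hz]⟩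
    set f := QuotientGroup.mk' (zpowers a) with hf
    let W : Subgroup G :=
      { carrier := {y | y ∈ Z ∧ y * y = 1}
        mul_mem' := fun {y y'} hy hy' => ⟨Z.mul_mem hy.1 hy'.1, by
          have hc := (hZM y' hy'.1 y hy.1.1).eq
          rw [show y * y' * (y * y') = y * (y' * y) * y' by group, ← hc,
            show y * (y * y') * y' = y * y * (y' * y') by group, hy.2, hy'.2, mul_one]⟩
        one_mem' := ⟨Z.one_mem, one_mul 1⟩
        inv_mem' := fun {y} hy => ⟨Z.inv_mem hy.1, by rw [← mul_inv_rev, hy.2, inv_one]⟩ }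
    haveI hWn : W.Normal := ⟨fun y hy t => ⟨hZn.conj_mem y hy.1 t, by
      rw [show t * y * t⁻¹ * (t * y * t⁻¹) = t * (y * y) * t⁻¹ by group, hy.2, mul_one, mul_inv_cancel]⟩⟩
    haveI : Group.IsNilpotent (G ⧸ zpowers a) := (hG.to_quotient _).isNilpotent
    haveI : (W.map f).Normal := hWn.map f (QuotientGroup.mk'_surjective _)
    have hcases : ∀ z ∈ zpowers a, z = 1 ∨ z = a := fun z hz => by
      obtain ⟨i, rfl⟩ := mem_zpowers_iff.1 hz
      rcases Int.even_or_odd i with ⟨j, rfl⟩ | ⟨j, rfl⟩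
      · left; rw [zpow_add, ← (Commute.refl a).mul_zpow, ha2, one_zpow]
      · right; rw [zpow_add_one, two_mul, zpow_add, ← (Commute.refl a).mul_zpow, ha2, one_zpow, one_mul]
    have hne' : W.map f ≠ ⊥ := fun h => by
      have hm : f x ∈ W.map f := mem_map_of_mem f ⟨hxZ, hx2⟩
      rw [h, mem_bot] at hm
      rcases hcases x ((QuotientGroup.eq_one_iff x).1 hm) with h | h
      exacts [hx1 h, hxa h]
    obtain ⟨⟨yb, hy⟩, hy1'⟩ := (W.map f ⊓ center (G ⧸ zpowers a)).ne_bot_iff_exists_ne_one.1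
      (Core.inf_center_ne_bot hne')
    have hy1 : yb ≠ 1 := fun h => hy1' (Subtype.ext h)
    obtain ⟨b, hb, rfl⟩ := hy.1
    have hb1 : b ∉ zpowers a := fun h => hy1 ((QuotientGroup.eq_one_iff b).2 h)
    refine ⟨b, hb.2, fun h => hb1 (h ▸ (zpowers a).one_mem), fun h => hb1 (h ▸ mem_zpowers a),
      fun y hyM => hZM b hb.1 y hyM, fun t => ?_⟩
    have h := mem_center_iff.1 hy.2 (f t)
    rw [← map_mul, ← map_mul] at h
    have h' : t * b * t⁻¹ * b⁻¹ ∈ zpowers a := (QuotientGroup.eq_one_iff _).1 (by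
      show f (t * b * t⁻¹ * b⁻¹) = 1
      rw [map_mul, map_mul, h, ← map_mul, ← map_mul, mul_inv_cancel_right, mul_inv_cancel, map_one])
    rcases hcases _ h' with h'' | h''
    · exact Or.inl (mul_inv_eq_one.1 h'')
    · exact Or.inr (mul_inv_eq_iff_eq_mul.1 h'')
  · -- otherwise the derived subgroup is abelian
    exfalso
    push Not at hex
    have hMZ : ¬ M ≤ Z := fun h => by
      have h1 : ⁅M, M⁆ = ⊥ := eq_bot_iff.2 (commutator_le.2 fun g hg k hk => by
        rw [mem_bot, commutatorElement_eq_one_iff_commute]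
        exact hZM k (h hk) g hg)
      rw [h1, mem_bot] at hM
      exact hne hM
    set f := QuotientGroup.mk' Z with hf
    haveI : Group.IsNilpotent (G ⧸ Z) := (hG.to_quotient _).isNilpotent
    haveI : (M.map f).Normal := hMn.map f (QuotientGroup.mk'_surjective _)
    have hne' : M.map f ≠ ⊥ := fun h => hMZ fun m hm => by
      have h' : f m ∈ M.map f := mem_map_of_mem f hm
      rw [h, mem_bot] at h'
      exact (QuotientGroup.eq_one_iff m).1 h'
    set K := M.map f ⊓ center (G ⧸ Z) with hK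
    have hKne : K ≠ ⊥ := Core.inf_center_ne_bot hne'
    obtain ⟨⟨y, hyK⟩, hy⟩ := exists_prime_orderOf_dvd_card' (G := K) 2 (by
      obtain ⟨j, hj⟩ := IsPGroup.iff_card.1 ((hG.to_quotient Z).to_subgroup K)
      rcases Nat.eq_zero_or_pos j with rfl | hj0
      · exact absurd (card_eq_one.1 (by rw [hj, pow_zero])) hKne
      · exact hj ▸ dvd_pow_self 2 hj0.ne')
    obtain ⟨u, huM, rfl⟩ := hyK.1
    rw [orderOf_mk, orderOf_eq_prime_iff] at hy
    have huZ : u ∉ Z := fun h => hy.2 ((QuotientGroup.eq_one_iff u).2 h)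
    have hw : u * u ∈ Z := (QuotientGroup.eq_one_iff _).1 (by rw [← hy.1, pow_two]; rfl)
    have hcom : ∀ v ∈ Z, ∀ t : G, t * (u * v) * t⁻¹ * (u * v)⁻¹ ∈ Z := fun v hv t => by
      refine (QuotientGroup.eq_one_iff _).1 ?_
      show f (t * (u * v) * t⁻¹ * (u * v)⁻¹) = 1
      have h := mem_center_iff.1 hyK.2 (f t)
      have hv1 : f v = 1 := (QuotientGroup.eq_one_iff v).2 hv
      simp only [map_mul, map_inv, hv1, mul_one, h, mul_inv_cancel_right, mul_inv_cancel]
    -- an involution outside the centre would be centralised by `M`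
    have key : ∀ u' : G, u' ∈ M → u' ∉ Z → (∀ s t : G, ⁅s, t⁆ * u' = u' * ⁅s, t⁆) → False := by
      intro u' hu' hu'Z h
      refine hu'Z ⟨hu', mem_centralizer_iff.2 fun m hm => ?_⟩
      have hle : M ≤ centralizer ({u'} : Set G) :=
        commutator_le.2 fun s _ t _ => mem_centralizer_singleton_iff.2 (h s t)
      exact mem_centralizer_singleton_iff.1 (hle hm)
    by_cases hsq : ∃ v ∈ Z, v * v = u * u
    · obtain ⟨v, hv, hv2⟩ := hsq
      set u' := u * v⁻¹ with hu'
      have huv : Commute u v⁻¹ := (hZM v hv u huM).inv_right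
      have hu'2 : u' * u' = 1 := by
        rw [hu', show u * v⁻¹ * (u * v⁻¹) = u * (v⁻¹ * u) * v⁻¹ by group, ← huv.eq,
          show u * (u * v⁻¹) * v⁻¹ = u * u * (v * v)⁻¹ by group, hv2, mul_inv_cancel]
      have hu'M : u' ∈ M := M.mul_mem huM (M.inv_mem hv.1)
      refine key u' hu'M (fun h => huZ ?_) fun s t => ?_
      · rw [show u = u' * v by rw [hu', inv_mul_cancel_right]]
        exact Z.mul_mem h hv
      · have hz : ∀ r : G, ∃ z ∈ center G, z * z = 1 ∧ r * u' * r⁻¹ = z * u' := fun r => by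
          set z := r * u' * r⁻¹ * u'⁻¹ with hzdef
          have hzZ : z ∈ Z := hcom v⁻¹ (Z.inv_mem hv) r
          have h1 : z * u' = r * u' * r⁻¹ := by rw [hzdef, inv_mul_cancel_right]
          have h2 : z * z = 1 := by
            have h3 : z * u' * (z * u') = 1 := by
              rw [h1, show r * u' * r⁻¹ * (r * u' * r⁻¹) = r * (u' * u') * r⁻¹ by group, hu'2, mul_one,
                mul_inv_cancel]
            rwa [show z * u' * (z * u') = z * (u' * z) * u' by group, (hZM z hzZ u' hu'M).eq,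
              show z * (z * u') * u' = z * z * (u' * u') by group, hu'2, mul_one] at h3
          refine ⟨z, ?_, h2, h1.symm⟩
          rcases eq_or_ne z 1 with h | h
          · rw [h]; exact one_mem _
          · rw [hex z hzZ h2 h]; exact hac
        refine commutator_commute_of_conj (fun p q => ?_) s t
        obtain ⟨x, hxc, -, hxp⟩ := hz p
        obtain ⟨y, hyc, -, hyq⟩ := hz q
        rw [show p * q * u' * (p * q)⁻¹ = p * (q * u' * q⁻¹) * p⁻¹ by group, hyq,
          show p * (y * u') * p⁻¹ = p * y * p⁻¹ * (p * u' * p⁻¹) by group, mem_center_iff.1 hyc p,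
          mul_inv_cancel_right, hxp,
          show q * p * u' * (q * p)⁻¹ = q * (p * u' * p⁻¹) * q⁻¹ by group, hxp,
          show q * (x * u') * q⁻¹ = q * x * q⁻¹ * (q * u' * q⁻¹) by group, mem_center_iff.1 hxc q,
          mul_inv_cancel_right, hyq]
        first
          | exact ((Commute.symm (mem_center_iff.1 hyc x)).left_comm u')
          | (rw [← mul_assoc y, ← mul_assoc x, mem_center_iff.1 hyc x])

    · push Not at hsq
      -- the square generates `Z`
      haveI hZc : IsMulCommutative Z := IsMulCommutative.of_setLike_mul_comm fun x hx y hy => hZM y hy x hx.1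
      let s : Z →* Z := MonoidHom.mk' (fun z => z * z) fun x y => by
        have h : Commute y x := hZc.is_comm.comm y x
        show x * y * (x * y) = x * x * (y * y)
        rw [show x * y * (x * y) = x * (y * x) * y by group, h.eq]; group
      have hker : Nat.card s.ker = 2 := by
        have hset : (s.ker : Set Z) = {1, ⟨a, haZ⟩} := by
          ext ⟨z, hz⟩
          simp only [SetLike.mem_coe, MonoidHom.mem_ker, Set.mem_insert_iff, Set.mem_singleton_iff]
          constructor
          · intro h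
            by_cases hz1 : z = 1
            · exact Or.inl (Subtype.ext hz1)
            · exact Or.inr (Subtype.ext (hex z hz (congrArg Subtype.val h) hz1))
          · rintro (h | h)
            · rw [h]; exact map_one s
            · rw [h]; exact Subtype.ext ha2
        rw [← SetLike.coe_sort_coe, hset, Nat.card_coe_set_eq, Set.ncard_pair]
        exact fun h => hne (congrArg Subtype.val h).symm
      have hidx : s.range.index = 2 := by
        have h1 := s.range.index_mul_card
        have h2 : Nat.card Z = Nat.card s.range * 2 := by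
          rw [← hker, card_eq_card_quotient_mul_card_subgroup s.ker,
            Nat.card_congr (QuotientGroup.quotientKerEquivRange s).toEquiv]
        rw [h2, mul_comm (Nat.card s.range) 2] at h1
        exact Nat.eq_of_mul_eq_mul_right Nat.card_pos h1
      set w : Z := ⟨u * u, hw⟩ with hwdef
      have hwr : w ∉ s.range := fun ⟨v, hv⟩ => hsq v v.2 (congrArg Subtype.val hv)
      have hgen : ∀ (k : ℕ) (x : Z), ∃ (i : ℕ) (y : Z), x = w ^ i * y ^ 2 ^ k := by
        intro k
        induction k with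
        | zero => exact fun x => ⟨0, x, by simp⟩
        | succ k ih =>
          intro x
          obtain ⟨i, y, rfl⟩ := ih x
          have hy' : ∃ (j : ℕ) (z : Z), y = w ^ j * (z * z) := by
            by_cases h : y ∈ s.range
            · obtain ⟨z, hz⟩ := h
              exact ⟨0, z, by rw [pow_zero, one_mul]; exact hz.symm⟩
            · have hwy : w⁻¹ * y ∈ s.range := by
                rw [Subgroup.mul_mem_iff_of_index_two hidx, inv_mem_iff]
                exact ⟨fun hh => absurd hh hwr, fun hh => absurd hh h⟩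
              obtain ⟨z, hz⟩ := hwy
              exact ⟨1, z, by rw [pow_one, show z * z = w⁻¹ * y from hz, mul_inv_cancel_left]⟩
          obtain ⟨j, z, rfl⟩ := hy'
          have hc : Commute (w ^ j) (z * z) := hZc.is_comm.comm _ _
          refine ⟨i + j * 2 ^ k, z, ?_⟩
          rw [hc.mul_pow, ← pow_mul, ← mul_assoc, ← pow_add, ← pow_two, ← pow_mul, ← pow_succ']
      obtain ⟨k, hk⟩ := IsPGroup.iff_card.1 (hG.to_subgroup Z)
      have hZu : ∀ z ∈ Z, z ∈ zpowers u := fun z hz => by
        obtain ⟨i, y, h⟩ := hgen k ⟨z, hz⟩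
        rw [← hk, pow_card_eq_one', mul_one] at h
        rw [show z = (u * u) ^ i from (congrArg Subtype.val h).trans (SubmonoidClass.coe_pow w i)]
        exact pow_mem ((zpowers u).mul_mem (mem_zpowers u) (mem_zpowers u)) i
      have hconj : ∀ t : G, ∃ i : ℤ, t * u * t⁻¹ = u ^ i := fun t => by
        have h := hcom 1 Z.one_mem t
        rw [mul_one] at h
        obtain ⟨i, hi⟩ := mem_zpowers_iff.1 (hZu _ h)
        exact ⟨i + 1, by rw [zpow_add_one, hi, inv_mul_cancel_right]⟩
      refine key u huM huZ fun s t => commutator_commute_of_conj (fun p q => ?_) s t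
      obtain ⟨i, hi⟩ := hconj p
      obtain ⟨j, hj⟩ := hconj q
      rw [show p * q * u * (p * q)⁻¹ = p * (q * u * q⁻¹) * p⁻¹ by group, hj, ← conj_zpow, hi, ← zpow_mul,
        show q * p * u * (q * p)⁻¹ = q * (p * u * p⁻¹) * q⁻¹ by group, hi, ← conj_zpow, hj, ← zpow_mul,
        mul_comm]

/-- The form inside an ambient group. -/
theorem exists_four {X : Type*} [Group X] [Finite X] {T : Subgroup X} (hT : IsPGroup 2 T) {a : X}
    (haT : a ∈ T) (hac : ∀ t ∈ T, Commute t a) (ha2 : a * a = 1) (hne : a ≠ 1) (hd : a ∈ dser 2 T) :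
    ∃ b ∈ T, b * b = 1 ∧ b ≠ 1 ∧ b ≠ a ∧ (∀ x ∈ ⁅T, T⁆, Commute x b) ∧
      ∀ t ∈ T, t * b * t⁻¹ = b ∨ t * b * t⁻¹ = a * b := by
  have htop : (⊤ : Subgroup T).map T.subtype = T := by
    rw [← MonoidHom.range_eq_map, Subgroup.range_subtype]
  have hd' : (⟨a, haT⟩ : T) ∈ dser 2 (⊤ : Subgroup T) := by
    rw [← htop, ← map_dser] at hd
    obtain ⟨a', ha', e⟩ := hd
    rwa [show (⟨a, haT⟩ : T) = a' from Subtype.ext e.symm]
  obtain ⟨b, hb2, hb1, hba, hbM, hbt⟩ := exists_four_group hT (a := ⟨a, haT⟩)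
    (mem_center_iff.2 fun t => Subtype.ext (hac t t.2)) (Subtype.ext ha2)
    (fun h => hne (congrArg Subtype.val h)) hd'
  refine ⟨b, b.2, congrArg Subtype.val hb2, fun h => hb1 (Subtype.ext h), fun h => hba (Subtype.ext h),
    fun x hx => ?_, fun t ht => ?_⟩
  · rw [← htop, ← map_commutator] at hx
    obtain ⟨x', hx', rfl⟩ := hx
    exact congrArg Subtype.val (hbM x' hx').eq
  · rcases hbt ⟨t, ht⟩ with h | h
    · exact Or.inl (congrArg Subtype.val h)
    · exact Or.inr (congrArg Subtype.val h)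

end Cfsg.Agent.TwoLength
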