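import Cfsg.Agent.TwoLength.Lands
import Cfsg.Agent.HallHigman.Critical

/-!
Irreducible groups of odd order of class two with a fixed-point-free involution, in characteristic
two, and their Brauer quotients at involutions.
-/

set_option autoImplicit false

namespace Cfsg.Agent.TwoLength

open Subgroup
open scoped commutatorElement
open Cfsg.Agent.HallHigman

universe u v w

variable {k : Type w} [Field k] {V : Type v} [AddCommGroup V] [Module k V] {G : Type u} [Group G]

/-- Acting as a scalar. -/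
def Sc (τ : G →* Module.End k V) (z : G) : Prop := ∃ μ : k, τ z = μ • 1

/-- The operator `τ b - 1`. -/
def opN (τ : G →* Module.End k V) (b : G) : Module.End k V := τ b - 1

theorem opN_apply (τ : G →* Module.End k V) (b : G) (v : V) : opN τ b v = τ b v - v := rfl

theorem mem_ker_opN {τ : G →* Module.End k V} {b : G} {v : V} :
    v ∈ LinearMap.ker (opN τ b) ↔ τ b v = v := by
  rw [LinearMap.mem_ker, opN_apply, sub_eq_zero]

theorem Sc.one {τ : G →* Module.End k V} : Sc τ 1 := ⟨1, by rw [map_one, one_smul]⟩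

theorem Sc.mul {τ : G →* Module.End k V} {x y : G} : Sc τ x → Sc τ y → Sc τ (x * y) := by
  rintro ⟨μ, hx⟩ ⟨ν, hy⟩
  exact ⟨μ * ν, by rw [map_mul, hx, hy, smul_mul_smul_comm, one_mul]⟩

theorem Sc.pow {τ : G →* Module.End k V} {x : G} (h : Sc τ x) : ∀ n : ℕ, Sc τ (x ^ n)
  | 0 => by rw [pow_zero]; exact Sc.one
  | n + 1 => by rw [pow_succ]; exact (h.pow n).mul h

theorem Sc.inv [Finite G] {τ : G →* Module.End k V} {x : G} (h : Sc τ x) : Sc τ x⁻¹ := by
  rw [show x⁻¹ = x ^ (orderOf x - 1) from inv_eq_of_mul_eq_one_left (by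
    rw [← pow_succ, Nat.sub_add_cancel (orderOf_pos x), pow_orderOf_eq_one])]
  exact h.pow _

theorem Sc.commute {τ : G →* Module.End k V} (hinj : Function.Injective τ) {x : G} (h : Sc τ x) (g : G) :
    Commute x g := by
  obtain ⟨μ, hx⟩ := h
  refine hinj ?_
  rw [map_mul, map_mul, hx, smul_mul_assoc, mul_smul_comm, one_mul, mul_one]

section char2

variable [CharP k 2]

theorem two_torsion (k : Type w) [Field k] [CharP k 2] {V : Type v} [AddCommGroup V] [Module k V] (x : V) :
    x + x = 0 := by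
  rw [← one_smul k x, ← add_smul, CharTwo.add_self_eq_zero, zero_smul]

theorem neg_char_two (k : Type w) [Field k] [CharP k 2] {V : Type v} [AddCommGroup V] [Module k V] (x : V) :
    -x = x :=
  neg_eq_of_add_eq_zero_left (two_torsion (V := V) k x)

theorem sub_eq_add_char_two (k : Type w) [Field k] [CharP k 2] {V : Type v} [AddCommGroup V] [Module k V] (x y : V) :
    x - y = x + y := by rw [sub_eq_add_neg, neg_char_two k y]

theorem eq_one_of_pow_two_pow {x : k} : ∀ j : ℕ, x ^ 2 ^ j = 1 → x = 1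
  | 0, h => by simpa using h
  | j + 1, h => by
    refine eq_one_of_pow_two_pow j ?_
    rw [pow_succ, pow_mul] at h
    have h' : (x ^ 2 ^ j - 1) ^ 2 = 0 := by rw [sub_pow_char, one_pow, h, sub_self]
    exact sub_eq_zero.1 (pow_eq_zero_iff two_ne_zero |>.1 h')

theorem Sc.eq_one {τ : G →* Module.End k V} (hinj : Function.Injective τ) [Nontrivial V] {x : G} {j : ℕ}
    (h : Sc τ x) (hx : x ^ 2 ^ j = 1) : x = 1 := by
  obtain ⟨μ, hμ⟩ := h
  refine hinj ?_
  rw [hμ, map_one]
  have h0 : τ (x ^ 2 ^ j) = 1 := by rw [hx, map_one]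
  rw [map_pow, hμ, smul_pow, one_pow] at h0
  have h1 : μ ^ 2 ^ j • (1 : Module.End k V) = (1 : k) • 1 := by rw [h0, one_smul]
  rw [eq_one_of_pow_two_pow j (smul_left_injective k (one_ne_zero' (Module.End k V)) h1), one_smul]

theorem opN_sq (τ : G →* Module.End k V) {b : G} (hb : b * b = 1) (v : V) :
    opN τ b (opN τ b v) = 0 := by
  rw [opN_apply, opN_apply, map_sub, ← Module.End.mul_apply, ← map_mul, hb, map_one, Module.End.one_apply,
    sub_eq_add_char_two k, sub_eq_add_char_two k, sub_eq_add_char_two k, add_comm (τ b v) v, two_torsion k]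

theorem range_le_ker (τ : G →* Module.End k V) {b : G} (hb : b * b = 1) :
    LinearMap.range (opN τ b) ≤ LinearMap.ker (opN τ b) := by
  rintro _ ⟨v, rfl⟩
  exact opN_sq τ hb v

theorem map_ker_opN (τ : G →* Module.End k V) {b x : G} (hx : Commute x b) {v : V}
    (hv : v ∈ LinearMap.ker (opN τ b)) : τ x v ∈ LinearMap.ker (opN τ b) := by
  rw [mem_ker_opN] at hv ⊢
  rw [← Module.End.mul_apply, ← map_mul, ← hx.eq, map_mul, Module.End.mul_apply, hv]

theorem opN_comm (τ : G →* Module.End k V) {b x : G} (hx : Commute x b) (v : V) :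
    τ x (opN τ b v) = opN τ b (τ x v) := by
  rw [opN_apply, opN_apply, map_sub, ← Module.End.mul_apply, ← map_mul, hx.eq, map_mul, Module.End.mul_apply]

theorem map_range_opN (τ : G →* Module.End k V) {b x : G} (hx : Commute x b) {v : V}
    (hv : v ∈ LinearMap.range (opN τ b)) : τ x v ∈ LinearMap.range (opN τ b) := by
  obtain ⟨w, rfl⟩ := hv
  exact ⟨τ x w, (opN_comm τ hx w).symm⟩

end char2

section quotient

/-- The image of `N`, inside its kernel. -/
abbrev imIn (τ : G →* Module.End k V) (b : G) : Submodule k (LinearMap.ker (opN τ b)) :=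
  (LinearMap.range (opN τ b)).comap (LinearMap.ker (opN τ b)).subtype

/-- The Brauer quotient at `b`. -/
abbrev BQuot (τ : G →* Module.End k V) (b : G) : Type v := LinearMap.ker (opN τ b) ⧸ imIn τ b

theorem commute_of_mem {b : G} (x : centralizer ({b} : Set G)) : Commute (x : G) b :=
  mem_centralizer_singleton_iff.1 x.2

variable [CharP k 2]

/-- The action on the kernel. -/
def kerRep (τ : G →* Module.End k V) (b : G) :
    centralizer ({b} : Set G) →* Module.End k (LinearMap.ker (opN τ b)) where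
  toFun x := (τ (x : G)).restrict fun _ hv => map_ker_opN τ (commute_of_mem x) hv
  map_one' := LinearMap.ext fun v => Subtype.ext (by simp)
  map_mul' x y := LinearMap.ext fun v => Subtype.ext (by simp)

/-- The action on the Brauer quotient. -/
def bRep (τ : G →* Module.End k V) (b : G) : centralizer ({b} : Set G) →* Module.End k (BQuot τ b) where
  toFun x := (imIn τ b).mapQ (imIn τ b) (kerRep τ b x) fun _ hv => map_range_opN τ (commute_of_mem x) hv
  map_one' := LinearMap.ext fun v => by
    obtain ⟨v, rfl⟩ := Submodule.Quotient.mk_surjective _ v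
    simp
  map_mul' x y := LinearMap.ext fun v => by
    obtain ⟨v, rfl⟩ := Submodule.Quotient.mk_surjective _ v
    simp only [Module.End.mul_apply, Submodule.mapQ_apply, map_mul]
    rfl

theorem bRep_mk (τ : G →* Module.End k V) (b : G) (x : centralizer ({b} : Set G)) (v : LinearMap.ker (opN τ b)) :
    bRep τ b x (Submodule.Quotient.mk v) =
      Submodule.Quotient.mk ⟨τ (x : G) v, map_ker_opN τ (commute_of_mem x) v.2⟩ := rfl

variable [FiniteDimensional k V]

theorem finrank_bQuot (τ : G →* Module.End k V) {b : G} (hb : b * b = 1) :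
    Module.finrank k (BQuot τ b) + 2 * Module.finrank k (LinearMap.range (opN τ b)) = Module.finrank k V := by
  have h1 := Submodule.finrank_quotient_add_finrank (imIn τ b)
  rw [(Submodule.comapSubtypeEquivOfLe (range_le_ker τ hb)).finrank_eq] at h1
  have h2 := LinearMap.finrank_range_add_finrank_ker (opN τ b)
  show Module.finrank k (↥(LinearMap.ker (opN τ b)) ⧸ imIn τ b) + _ = _
  omega

theorem finrank_bQuot_lt (τ : G →* Module.End k V) (hinj : Function.Injective τ) {b : G} (hb : b * b = 1)
    (hne : b ≠ 1) : Module.finrank k (BQuot τ b) < Module.finrank k V := by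
  have h := finrank_bQuot τ hb
  have : Module.finrank k (LinearMap.range (opN τ b)) ≠ 0 := fun h0 => hne (hinj (by
    rw [Submodule.finrank_eq_zero, LinearMap.range_eq_bot, opN, sub_eq_zero] at h0
    rw [h0, map_one]))
  omega

end quotient

section frame

variable [CharP k 2]

/-- An irreducible `q`-group of class two, a 2-group of operators and a fixed-point-free involution. -/
structure Frame (q : ℕ) (τ : G →* Module.End k V) (C T : Subgroup G) (a : G) : Prop where
  inj : Function.Injective τ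
  irr : Irred (τ.comp C.subtype)
  qC : IsPGroup q C
  class2 : ∀ u ∈ C, ∀ v ∈ C, Sc τ ⁅u, v⁆
  pT : IsPGroup 2 T
  nrm : T ≤ normalizer (C : Set G)
  aT : a ∈ T
  ac : ∀ t ∈ T, Commute t a
  a2 : a * a = 1
  ne : a ≠ 1
  fpf : ∀ u ∈ C, Commute a u → Sc τ u

variable {q : ℕ} [hq : Fact q.Prime] {C : Subgroup G} {τ : G →* Module.End k V}

theorem exists_sq_pow [Finite G] (hq2 : q ≠ 2) (hC : IsPGroup q C) {u : G} (hu : u ∈ C) :
    ∃ j : ℕ, (u * u) ^ j = u := by
  obtain ⟨i, hi⟩ := IsPGroup.iff_orderOf.1 hC ⟨u, hu⟩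
  rw [orderOf_mk] at hi
  obtain ⟨j, hj⟩ : Odd (orderOf u) := by
    rw [hi]; exact (hq.out.odd_of_ne_two hq2).pow
  refine ⟨j + 1, ?_⟩
  rw [← pow_two, ← pow_mul, show 2 * (j + 1) = orderOf u + 1 by omega, pow_succ, pow_orderOf_eq_one, one_mul]

theorem sc_of_sq [Finite G] (hq2 : q ≠ 2) (hC : IsPGroup q C) {u : G} (hu : u ∈ C) (h : Sc τ (u * u)) :
    Sc τ u := by
  obtain ⟨j, hj⟩ := exists_sq_pow hq2 hC hu
  rw [← hj]; exact h.pow j

theorem eq_one_of_sq [Finite G] (hq2 : q ≠ 2) (hC : IsPGroup q C) {u : G} (hu : u ∈ C) (h : u * u = 1) :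
    u = 1 := by
  obtain ⟨j, hj⟩ := exists_sq_pow hq2 hC hu
  rw [← hj, h, one_pow]

/-- An involution fixing an element modulo scalars fixes it. -/
theorem commute_of_sc [Finite G] (hinj : Function.Injective τ) (hq2 : q ≠ 2) (hC : IsPGroup q C) {s u : G}
    (hs : s * s = 1) (hsC : s ∈ normalizer (C : Set G)) (hu : u ∈ C) (h : Sc τ (u⁻¹ * (s * u * s⁻¹))) :
    Commute s u := by
  set z := u⁻¹ * (s * u * s⁻¹) with hz
  have hzC : z ∈ C := C.mul_mem (C.inv_mem hu) ((mem_normalizer_iff.1 hsC u).1 hu)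
  have h1 : s * u * s⁻¹ = u * z := by rw [hz, mul_inv_cancel_left]
  have hsi : s⁻¹ = s := inv_eq_of_mul_eq_one_right hs
  have h2 : u = u * (z * z) := by
    calc u = s * (s * u * s⁻¹) * s⁻¹ := by
          rw [hsi, show s * (s * u * s) * s = (s * s) * u * (s * s) by group, hs, one_mul, mul_one]
      _ = (s * u * s⁻¹) * (s * z * s⁻¹) := by conv_lhs => rw [h1]
                                              group
      _ = u * (z * z) := by rw [h1, ← (h.commute hinj s).eq, mul_inv_cancel_right, mul_assoc]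
  have hz1 : z = 1 := eq_one_of_sq hq2 hC hzC (left_eq_mul.1 h2)
  rw [hz1, mul_one] at h1
  exact mul_inv_eq_iff_eq_mul.1 h1

theorem card_ne_zero [Finite G] (hq2 : q ≠ 2) (hC : IsPGroup q C) [Fintype C] : (Fintype.card C : k) ≠ 0 := by
  obtain ⟨j, hj⟩ := IsPGroup.iff_card.1 hC
  rw [← Nat.card_eq_fintype_card, hj, Nat.cast_pow]
  refine pow_ne_zero j fun h0 => hq2 ?_
  exact ((Nat.prime_dvd_prime_iff_eq Nat.prime_two hq.out).1 ((CharP.cast_eq_zero_iff k 2 q).1 h0)).symm

variable [IsAlgClosed k] [FiniteDimensional k V]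

theorem sc_of_commute_all [Nontrivial V] (hirr : Irred (τ.comp C.subtype)) {x : G}
    (h : ∀ u ∈ C, Commute x u) : Sc τ x :=
  scalar_of_commute hirr (τ x) fun u => by
    show τ x * τ u = τ u * τ x
    rw [← map_mul, ← map_mul, (h u u.2).eq]

theorem odd_finrank [Finite G] [Nontrivial V] (hq2 : q ≠ 2) (hC : IsPGroup q C)
    (hirr : Irred (τ.comp C.subtype)) : Odd (Module.finrank k V) := by
  obtain ⟨j, hj⟩ := finrank_eq_pow (K := k) (Nat.card C) C hC le_rfl V (τ.comp C.subtype) hirr
  rw [hj]
  exact (hq.out.odd_of_ne_two hq2).pow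

/-- Endomorphisms commuting with an involution agree on the kernel of `N`, modulo its image, with
combinations of the fixed operators. -/
theorem exists_fixed_sum [Finite G] [Nontrivial V] (hq2 : q ≠ 2) (hC : IsPGroup q C)
    (hirr : Irred (τ.comp C.subtype)) {b : G} (hb : b * b = 1) (hbC : b ∈ normalizer (C : Set G))
    (f : Module.End k V) (hf : τ b * f = f * τ b) :
    ∃ α : G → k, ∀ (s : Finset G), (∀ u, u ∈ s ↔ u ∈ C ∧ Commute b u) → ∀ v ∈ LinearMap.ker (opN τ b),
      f v - ∑ u ∈ s, α u • τ u v ∈ LinearMap.range (opN τ b) := by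
  classical
  haveI := Fintype.ofFinite G
  have hd : (Module.finrank k V : k) ≠ 0 := by
    obtain ⟨j, hj⟩ := odd_finrank hq2 hC hirr
    rw [hj, Nat.cast_add, Nat.cast_mul, Nat.cast_ofNat, CharTwo.two_eq_zero, zero_mul, zero_add, Nat.cast_one]
    exact one_ne_zero
  set c : k := ((Fintype.card C : k) / Module.finrank k V)⁻¹ with hc
  let α : G → k := fun u => c * LinearMap.trace k V (f * τ u⁻¹)
  have hfsum : f = ∑ u : C, α u • τ (u : G) := by
    have h1 := sum_trace_smul hirr hd f
    have h2 : (c • ((Fintype.card C : k) / Module.finrank k V) • f) = f := by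
      rw [hc, inv_smul_smul₀ (div_ne_zero (card_ne_zero hq2 hC) hd)]
    rw [← h1, Finset.smul_sum] at h2
    refine h2.symm.trans (Finset.sum_congr rfl fun u _ => ?_)
    rw [smul_smul]
    rfl
  have hbi : b⁻¹ = b := inv_eq_of_mul_eq_one_right hb
  have hα : ∀ u, α (b * u * b) = α u := fun u => by
    show c * _ = c * _
    congr 1
    rw [show (b * u * b)⁻¹ = b * u⁻¹ * b by rw [mul_inv_rev, mul_inv_rev, hbi]; group, map_mul τ, map_mul τ,
      ← mul_assoc, ← mul_assoc, LinearMap.trace_mul_comm, ← mul_assoc, ← mul_assoc, hf,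
      mul_assoc f, ← map_mul τ, hb, map_one, mul_one]
  have hconj : ∀ u, u ∈ C → b * u * b ∈ C := fun u hu => by
    have h := (mem_normalizer_iff.1 hbC u).1 hu
    rwa [hbi] at h
  refine ⟨α, fun s hs v hv => ?_⟩
  have hsum : ∑ u : C, α u • τ (u : G) v = ∑ u ∈ Finset.univ.filter (fun u => u ∈ C), α u • τ u v :=
    (Finset.sum_subtype (Finset.univ.filter (fun u => u ∈ C)) (fun u => by simp) fun u => α u • τ u v).symm
  rw [show f v = _ from LinearMap.congr_fun hfsum v, LinearMap.sum_apply]
  simp only [LinearMap.smul_apply]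
  rw [hsum, ← Finset.sum_filter_add_sum_filter_not _ (fun u => Commute b u),
    show (Finset.univ.filter (fun u => u ∈ C)).filter (fun u => Commute b u) = s by ext u; simp [hs],
    add_sub_cancel_left]
  have main : ∀ (n : ℕ) (t : Finset G), t.card ≤ n → (∀ u ∈ t, b * u * b ∈ t ∧ b * u * b ≠ u) →
      ∑ u ∈ t, α u • τ u v ∈ LinearMap.range (opN τ b) := by
    intro n
    induction n with
    | zero => intro t ht _; rw [Finset.card_eq_zero.1 (Nat.le_zero.1 ht), Finset.sum_empty]; exact zero_mem _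
    | succ n ih =>
      intro t ht hcl
      rcases t.eq_empty_or_nonempty with rfl | ⟨u, hu⟩
      · rw [Finset.sum_empty]; exact zero_mem _
      obtain ⟨hu', hne⟩ := hcl u hu
      have hpair : ({u, b * u * b} : Finset G) ⊆ t := by
        intro x hx; simp only [Finset.mem_insert, Finset.mem_singleton] at hx
        rcases hx with rfl | rfl <;> assumption
      rw [← Finset.sum_sdiff hpair, Finset.sum_pair hne.symm, hα]
      refine add_mem (ih _ ?_ ?_) ?_
      · rw [Finset.card_sdiff_of_subset hpair, Finset.card_pair hne.symm]; omega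
      · intro x hx
        simp only [Finset.mem_sdiff, Finset.mem_insert, Finset.mem_singleton, not_or] at hx ⊢
        obtain ⟨hxt, hx1, hx2⟩ := hx
        refine ⟨⟨(hcl x hxt).1, fun h => hx2 ?_, fun h => hx1 ?_⟩, (hcl x hxt).2⟩
        · rw [← h, show b * (b * x * b) * b = (b * b) * x * (b * b) by group, hb, one_mul, mul_one]
        · exact mul_left_cancel (mul_right_cancel h)
      · refine ⟨α u • τ u v, ?_⟩
        rw [opN_apply, map_smul, sub_eq_add_char_two k, ← smul_add, ← smul_add, add_comm]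
        congr 2
        rw [← Module.End.mul_apply, ← map_mul, map_mul _ (b * u) b, Module.End.mul_apply, mem_ker_opN.1 hv]
  refine main _ _ le_rfl fun u hu => ?_
  simp only [Finset.mem_filter, Finset.mem_univ, true_and] at hu ⊢
  have hnc : ∀ x : G, b * x * b = x → Commute b x := fun x h => by
    have h' : b * (b * x * b) = b * x := by rw [h]
    rw [show b * (b * x * b) = (b * b) * (x * b) by group, hb, one_mul] at h'
    exact h'.symm
  refine ⟨⟨hconj u hu.1, fun h => hu.2 (hnc u ?_)⟩, fun h => hu.2 (hnc u h)⟩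
  have h' : b * (b * u * b) * b = b * u * b * b * b := by rw [h.eq]
  rw [show b * (b * u * b) * b = (b * b) * u * (b * b) by group,
    show b * u * b * b * b = b * u * (b * b) * b by group, hb, one_mul, mul_one, mul_one] at h'
  exact h'.symm

/-- The Brauer quotient at an involution is irreducible for the fixed operators. -/
theorem irred_bQuot [Finite G] [Nontrivial V] (hq2 : q ≠ 2) (hC : IsPGroup q C)
    (hirr : Irred (τ.comp C.subtype)) {b : G} (hb : b * b = 1) (hbC : b ∈ normalizer (C : Set G)) :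
    Irred ((bRep τ b).comp (C.subgroupOf (centralizer ({b} : Set G))).subtype) ∧
      ∀ Φ : Module.End k (BQuot τ b), ∀ (U : Submodule k (BQuot τ b)),
        (∀ x : centralizer ({b} : Set G), (x : G) ∈ C → ∀ v ∈ U, bRep τ b x v ∈ U) → ∀ v ∈ U, Φ v ∈ U := by
  classical
  haveI := Fintype.ofFinite G
  have key : ∀ Φ : Module.End k (BQuot τ b), ∀ (U : Submodule k (BQuot τ b)),
      (∀ x : centralizer ({b} : Set G), (x : G) ∈ C → ∀ v ∈ U, bRep τ b x v ∈ U) → ∀ v ∈ U, Φ v ∈ U := by
    intro Φ U hU v hv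
    obtain ⟨sec, hsec⟩ := (imIn τ b).mkQ.exists_rightInverse_of_surjective (Submodule.range_mkQ _)
    obtain ⟨P, hP⟩ : ∃ P : Module.End k V, (∀ x, P x ∈ LinearMap.ker (opN τ b)) ∧
        ∀ x ∈ LinearMap.ker (opN τ b), P x = x := by
      obtain ⟨D, hD⟩ := Submodule.exists_isCompl (LinearMap.ker (opN τ b))
      exact ⟨(LinearMap.ker (opN τ b)).subtype.comp (Submodule.projectionOnto _ D hD),
        fun x => Subtype.coe_prop _, fun x hx =>
          congrArg Subtype.val (Submodule.projectionOnto_apply_left hD ⟨x, hx⟩)⟩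
    let f : Module.End k V := (LinearMap.ker (opN τ b)).subtype.comp (sec.comp (Φ.comp ((imIn τ b).mkQ.comp
      (P.codRestrict (LinearMap.ker (opN τ b)) hP.1))))
    have hker : ∀ x, τ b (f x) = f x := fun x => mem_ker_opN.1 (Subtype.coe_prop _)
    have hrange : ∀ x ∈ LinearMap.range (opN τ b), f x = 0 := fun x hx => by
      have h1 : (P.codRestrict (LinearMap.ker (opN τ b)) hP.1 x) ∈ imIn τ b := by
        show P x ∈ LinearMap.range (opN τ b)
        rwa [hP.2 x (range_le_ker τ hb hx)]
      simp only [f, LinearMap.comp_apply, Submodule.mkQ_apply, (Submodule.Quotient.mk_eq_zero _).2 h1,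
        map_zero]
    have hf : τ b * f = f * τ b := LinearMap.ext fun x => by
      rw [Module.End.mul_apply, Module.End.mul_apply, hker, ← sub_eq_zero, ← map_sub,
        ← neg_sub (τ b x) x, map_neg, hrange (τ b x - x) ⟨x, rfl⟩, neg_zero]
    obtain ⟨α, hα⟩ := exists_fixed_sum hq2 hC hirr hb hbC f hf
    set s := Finset.univ.filter fun u => u ∈ C ∧ Commute b u with hs
    obtain ⟨x, rfl⟩ := Submodule.Quotient.mk_surjective _ v
    have h1 := hα s (fun u => by simp [hs]) x x.2
    have hmem : ∀ u ∈ s, u ∈ centralizer ({b} : Set G) := fun u hu =>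
      mem_centralizer_singleton_iff.2 ((Finset.mem_filter.1 hu).2.2).symm.eq
    have h2 : Φ (Submodule.Quotient.mk x) =
        ∑ u ∈ s.attach, α u • bRep τ b ⟨u, hmem u u.2⟩ (Submodule.Quotient.mk x) := by
      have hfx : f x = sec (Φ (Submodule.Quotient.mk x)) := by
        simp only [f, LinearMap.comp_apply, Submodule.coe_subtype, Submodule.mkQ_apply]
        rw [show P.codRestrict (LinearMap.ker (opN τ b)) hP.1 x = x from Subtype.ext (hP.2 x x.2)]
      rw [show Φ (Submodule.Quotient.mk x) = Submodule.Quotient.mk (sec (Φ (Submodule.Quotient.mk x))) from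
        (LinearMap.congr_fun hsec _).symm]
      simp only [LinearMap.comp_apply, Submodule.mkQ_apply, bRep_mk, ← Submodule.Quotient.mk_smul]
      simp only [← Submodule.mkQ_apply]
      rw [← map_sum]
      simp only [Submodule.mkQ_apply]
      rw [Submodule.Quotient.eq]
      show ((sec (Φ (Submodule.Quotient.mk x)) - _ : LinearMap.ker (opN τ b)) : V) ∈ LinearMap.range (opN τ b)
      rw [Submodule.coe_sub, Submodule.coe_sum, ← hfx]
      simpa [Finset.sum_attach s (fun u => α u • τ u (x : V))] using h1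
    rw [h2]
    exact U.sum_mem fun u _ => U.smul_mem _ (hU _ (Finset.mem_filter.1 u.2).2.1 _ hv)
  refine ⟨fun U hU => ?_, key⟩
  by_cases hUb : U = ⊥
  · exact Or.inl hUb
  obtain ⟨w, hw, hw0⟩ := Submodule.exists_mem_ne_zero_of_ne_bot hUb
  refine Or.inr (eq_top_iff.2 fun y _ => ?_)
  obtain ⟨φ, hφ⟩ : ∃ φ : Module.Dual k (BQuot τ b), φ w ≠ 0 := by
    by_contra hh
    push Not at hh
    exact hw0 ((Module.forall_dual_apply_eq_zero_iff k w).1 hh)
  have h := key (((φ w)⁻¹ • φ).smulRight y) U (fun x hx v hv => hU ⟨x, hx⟩ v hv) w hw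
  simpa [hφ] using h

/-- With a fixed-point-free involution, the Brauer quotient is a line. -/
theorem finrank_bQuot_eq_one [Finite G] [Nontrivial V] (hq2 : q ≠ 2) (hC : IsPGroup q C)
    (hirr : Irred (τ.comp C.subtype)) {a : G} (ha2 : a * a = 1) (haC : a ∈ normalizer (C : Set G))
    (hfpf : ∀ u ∈ C, Commute a u → Sc τ u) : Module.finrank k (BQuot τ a) = 1 := by
  have hodd := odd_finrank hq2 hC hirr
  have hdim := finrank_bQuot τ ha2
  have hpos : 0 < Module.finrank k (BQuot τ a) := by
    obtain ⟨j, hj⟩ := hodd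
    omega
  haveI : Nontrivial (BQuot τ a) := Module.nontrivial_of_finrank_pos hpos
  obtain ⟨w, hw⟩ := exists_ne (0 : BQuot τ a)
  have hsc : ∀ x : centralizer ({a} : Set G), (x : G) ∈ C → ∀ v ∈ (k ∙ w), bRep τ a x v ∈ (k ∙ w) := by
    intro x hx v hv
    obtain ⟨μ, hμ⟩ := hfpf x hx (commute_of_mem x).symm
    obtain ⟨y, rfl⟩ := Submodule.Quotient.mk_surjective _ v
    rw [bRep_mk, show (⟨τ (x : G) y, map_ker_opN τ (commute_of_mem x) y.2⟩ : LinearMap.ker (opN τ a)) = μ • y from
      Subtype.ext (LinearMap.congr_fun hμ y), Submodule.Quotient.mk_smul]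
    exact Submodule.smul_mem _ μ hv
  have h := ((irred_bQuot hq2 hC hirr ha2 haC).1 (k ∙ w) fun x v hv => hsc x x.2 v hv).resolve_left
    fun h => hw (Submodule.span_singleton_eq_bot.1 h)
  rw [← finrank_top, ← h, finrank_span_singleton hw]

/-- Faithful image of a representation. -/
theorem exists_image {X : Type u} [Group X] [Finite X] (σ : X →* Module.End k V) :
    ∃ (Y : Type u) (_ : Group Y) (_ : Finite Y) (π : X →* Y) (τ' : Y →* Module.End k V),
      Function.Surjective π ∧ Function.Injective τ' ∧ ∀ x, τ' (π x) = σ x := by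
  refine ⟨X ⧸ σ.ker, inferInstance, inferInstance, QuotientGroup.mk' σ.ker,
    QuotientGroup.lift σ.ker σ le_rfl, QuotientGroup.mk'_surjective _, ?_, fun x => rfl⟩
  intro x y h
  obtain ⟨x, rfl⟩ := QuotientGroup.mk_surjective x
  obtain ⟨y, rfl⟩ := QuotientGroup.mk_surjective y
  refine QuotientGroup.eq.2 (MonoidHom.mem_ker.2 ?_)
  have h' : σ x = σ y := h
  rw [map_mul, ← h', ← map_mul, inv_mul_cancel, map_one]

end frame

end Cfsg.Agent.TwoLength
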