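import Mathlib

/-!
Iterated differences along the derived series of a group of operators.
-/

set_option autoImplicit false

namespace Cfsg.Agent.TwoLength

open Subgroup
open scoped commutatorElement

variable {X : Type*} [Group X]

/-- The derived series of a subgroup, inside the ambient group. -/
def dser : ℕ → Subgroup X → Subgroup X
  | 0, T => T
  | n + 1, T => dser n ⁅T, T⁆

theorem dser_zero (T : Subgroup X) : dser 0 T = T := rfl

theorem dser_succ (n : ℕ) (T : Subgroup X) : dser (n + 1) T = dser n ⁅T, T⁆ := rfl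

theorem dser_succ' (n : ℕ) (T : Subgroup X) : dser (n + 1) T = ⁅dser n T, dser n T⁆ := by
  induction n generalizing T with
  | zero => rfl
  | succ n ih => rw [dser_succ, ih, ← dser_succ]

theorem commutator_le_of_self (T : Subgroup X) : ⁅T, T⁆ ≤ T :=
  commutator_le.2 fun g hg h hh => by
    rw [commutatorElement_def]
    exact T.mul_mem (T.mul_mem (T.mul_mem hg hh) (T.inv_mem hg)) (T.inv_mem hh)

theorem dser_mono : ∀ (n : ℕ) {S T : Subgroup X}, S ≤ T → dser n S ≤ dser n T
  | 0, _, _, h => h
  | n + 1, _, _, h => dser_mono n (commutator_mono h h)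

theorem dser_add (i j : ℕ) (T : Subgroup X) : dser i (dser j T) = dser (j + i) T := by
  induction j generalizing T with
  | zero => rw [dser_zero, Nat.zero_add]
  | succ j ih => rw [dser_succ, ih, show j + 1 + i = j + i + 1 by omega, dser_succ]

theorem dser_le_self (n : ℕ) (T : Subgroup X) : dser n T ≤ T := by
  induction n generalizing T with
  | zero => exact le_rfl
  | succ n ih => exact (ih _).trans (commutator_le_of_self T)

theorem dser_antitone {i j : ℕ} (h : i ≤ j) (T : Subgroup X) : dser j T ≤ dser i T := by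
  rw [show j = i + (j - i) by omega, ← dser_add]
  exact dser_le_self _ _

theorem map_dser {Y : Type*} [Group Y] (f : X →* Y) : ∀ (n : ℕ) (T : Subgroup X),
    (dser n T).map f = dser n (T.map f)
  | 0, _ => rfl
  | n + 1, T => by rw [dser_succ, dser_succ, map_dser f n, map_commutator]

theorem le_normalizer_dser (n : ℕ) (T : Subgroup X) : T ≤ normalizer (dser n T : Set X) := by
  intro g hg
  rw [mem_normalizer_iff_map_conj_eq, map_dser]
  congr 1
  exact mem_normalizer_iff_map_conj_eq.1 (le_normalizer hg)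

theorem map_derivedSeries (T : Subgroup X) (n : ℕ) :
    (derivedSeries ↥T n).map T.subtype = dser n T := by
  induction n with
  | zero => simp [derivedSeries_zero, dser_zero, ← MonoidHom.range_eq_map]
  | succ n ih => rw [derivedSeries_succ, map_commutator, ih, dser_succ']

variable {R : Type*} [Ring R] {V : Type*} [AddCommGroup V] [Module R V]

/-- All `n`-fold differences along the derived series of `T` lie in `S`. -/
def Lands (ρ : X →* Module.End R V) (S : Submodule R V) : ℕ → Subgroup X → V → Prop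
  | 0, _, v => v ∈ S
  | n + 1, T, v => ∀ g ∈ T, Lands ρ S n ⁅T, T⁆ (ρ g v - v)

variable {ρ : X →* Module.End R V} {S : Submodule R V}

theorem lands_zero_iff {T : Subgroup X} {v : V} : Lands ρ S 0 T v ↔ v ∈ S := Iff.rfl

theorem lands_succ_iff {n : ℕ} {T : Subgroup X} {v : V} :
    Lands ρ S (n + 1) T v ↔ ∀ g ∈ T, Lands ρ S n ⁅T, T⁆ (ρ g v - v) := Iff.rfl

theorem Lands.add : ∀ {n : ℕ} {T : Subgroup X} {v w : V}, Lands ρ S n T v → Lands ρ S n T w →
    Lands ρ S n T (v + w)
  | 0, _, _, _, h, h' => S.add_mem h h'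
  | n + 1, _, v, w, h, h' => fun g hg => by
    rw [map_add, add_sub_add_comm]
    exact (h g hg).add (h' g hg)

theorem lands_zero_vec : ∀ {n : ℕ} {T : Subgroup X}, Lands ρ S n T 0
  | 0, _ => S.zero_mem
  | n + 1, _ => fun g _ => by
    rw [map_zero, sub_zero]
    exact lands_zero_vec

theorem Lands.smul (c : R) : ∀ {n : ℕ} {T : Subgroup X} {v : V}, Lands ρ S n T v → Lands ρ S n T (c • v)
  | 0, _, _, h => S.smul_mem c h
  | n + 1, _, v, h => fun g hg => by
    rw [map_smul, ← smul_sub]
    exact (h g hg).smul c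

theorem Lands.neg {n : ℕ} {T : Subgroup X} {v : V} (h : Lands ρ S n T v) : Lands ρ S n T (-v) := by
  rw [← neg_one_smul R v]
  exact h.smul _

theorem Lands.sub {n : ℕ} {T : Subgroup X} {v w : V} (h : Lands ρ S n T v) (h' : Lands ρ S n T w) :
    Lands ρ S n T (v - w) := by
  rw [sub_eq_add_neg]
  exact h.add h'.neg

theorem Lands.mono : ∀ {n : ℕ} {T T' : Subgroup X} {S' : Submodule R V} {v : V}, T' ≤ T → S ≤ S' →
    Lands ρ S n T v → Lands ρ S' n T' v
  | 0, _, _, _, _, _, hS, h => hS h
  | n + 1, _, _, _, _, hT, hS, h => fun g hg => (h g (hT hg)).mono (commutator_mono hT hT) hS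

/-- An invariant subspace catches the differences. -/
theorem lands_of_invariant : ∀ {n : ℕ} {T : Subgroup X} {v : V}, (∀ g ∈ T, ∀ x ∈ S, ρ g x ∈ S) →
    v ∈ S → Lands ρ S n T v
  | 0, _, _, _, hv => hv
  | n + 1, T, _, hS, hv => fun g hg =>
    lands_of_invariant (fun g hg => hS g (commutator_le_of_self T hg)) (S.sub_mem (hS g hg _ hv) hv)

/-- Differences stay in invariant subspaces. -/
theorem Lands.inf : ∀ {n : ℕ} {T : Subgroup X} {v : V} {K : Submodule R V},
    (∀ g ∈ T, ∀ x ∈ K, ρ g x ∈ K) → v ∈ K → Lands ρ S n T v → Lands ρ (S ⊓ K) n T v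
  | 0, _, _, _, _, hv, h => ⟨h, hv⟩
  | n + 1, T, _, K, hK, hv, h => fun g hg =>
    (h g hg).inf (fun g hg => hK g (commutator_le_of_self T hg)) (K.sub_mem (hK g hg _ hv) hv)

/-- Two independent invariant subspaces separate. -/
theorem Lands.of_add : ∀ {n : ℕ} {T : Subgroup X} {v w : V} {K L : Submodule R V},
    (∀ g ∈ T, ∀ x ∈ K, ρ g x ∈ K) → (∀ g ∈ T, ∀ x ∈ L, ρ g x ∈ L) → K ⊓ L = ⊥ → v ∈ K → w ∈ L →
    Lands ρ ⊥ n T (v + w) → Lands ρ ⊥ n T v
  | 0, _, v, w, K, L, _, _, hKL, hv, hw, h => by
    have h' : v + w = 0 := h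
    rw [lands_zero_iff, ← hKL]
    exact ⟨hv, by rw [eq_neg_of_add_eq_zero_left h']; exact L.neg_mem hw⟩
  | n + 1, T, v, w, K, L, hK, hL, hKL, hv, hw, h => fun g hg => by
    refine Lands.of_add (fun g hg => hK g (commutator_le_of_self T hg))
      (fun g hg => hL g (commutator_le_of_self T hg)) hKL (K.sub_mem (hK g hg v hv) hv)
      (L.sub_mem (hL g hg w hw) hw) ?_
    have h' := h g hg
    rwa [map_add, add_sub_add_comm] at h'

/-- Operators normalising `T` and fixing `S` move the property along. -/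
theorem Lands.conj : ∀ {n : ℕ} {T : Subgroup X} {v : V} {x : X}, (∀ s ∈ S, ρ x s ∈ S) →
    Lands ρ S n T v → Lands ρ S n (T.map (MulAut.conj x).toMonoidHom) (ρ x v)
  | 0, _, _, _, hS, h => hS _ h
  | n + 1, T, v, x, hS, h => by
    rintro _ ⟨g, hg, rfl⟩
    rw [← map_commutator]
    have h' := (h g hg).conj (x := x) hS
    rw [map_sub] at h'
    rwa [MulEquiv.coe_toMonoidHom, MulAut.conj_apply, ← Module.End.mul_apply, ← map_mul,
      inv_mul_cancel_right, map_mul, Module.End.mul_apply]

/-- Transport along an intertwining map. -/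
theorem lands_map_iff {Y : Type*} [Group Y] {V' : Type*} [AddCommGroup V'] [Module R V']
    {σ : Y →* Module.End R V'} (φ : Y →* X) (f : V' →ₗ[R] V) :
    ∀ (n : ℕ) (T : Subgroup Y) (v : V'), (∀ g ∈ T, ∀ w, f (σ g w) = ρ (φ g) (f w)) →
      (Lands ρ S n (T.map φ) (f v) ↔ Lands σ (S.comap f) n T v)
  | 0, _, _, _ => Iff.rfl
  | n + 1, T, v, h => by
    have ih := fun v => lands_map_iff φ f n ⁅T, T⁆ v fun g hg => h g (commutator_le_of_self T hg)
    constructor
    · intro hl g hg
      rw [← ih, map_sub, h g hg, map_commutator]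
      exact hl (φ g) (mem_map_of_mem φ hg)
    · rintro hl _ ⟨g, hg, rfl⟩
      rw [← h g hg, ← map_sub, ← map_commutator, ih]
      exact hl g hg

/-- The last difference, against an element of the last derived term. -/
theorem Lands.last : ∀ {n : ℕ} {T : Subgroup X} {v : V} {a : X}, a ∈ dser n T →
    Lands ρ ⊥ (n + 1) T v → Lands ρ (LinearMap.ker (ρ a - 1)) n T v
  | 0, _, v, a, ha, h => by
    rw [lands_zero_iff, LinearMap.mem_ker, LinearMap.sub_apply, Module.End.one_apply]
    exact (Submodule.mem_bot R).1 (h a ha)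
  | n + 1, _, _, _, ha, h => fun g hg => (h g hg).last ha

end Cfsg.Agent.TwoLength
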