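import Cfsg.Agent.TwoLength.Decomp

/-!
The tensor decomposition of a frame along an involution that is not central in the 2-group.
-/

set_option autoImplicit false

open scoped TensorProduct

namespace Cfsg.Agent.TwoLength

open Subgroup
open Cfsg.Agent.HallHigman

universe u v w

variable {k : Type w} [Field k] {V : Type v} [AddCommGroup V] [Module k V] {G : Type u} [Group G]
  {τ : G →* Module.End k V}

/-- Restriction of one operator between subspaces. -/
def moveTo (τ : G →* Module.End k V) (g : G) (U U' : Submodule k V) (h : ∀ v ∈ U, τ g v ∈ U') : U →ₗ[k] U' :=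
  (τ g).restrict h

theorem mem_map_eq {U U' : Submodule k V} {g : G} (h : U.map (τ g) = U') {v : V} (hv : v ∈ U) : τ g v ∈ U' :=
  h ▸ Submodule.mem_map_of_mem hv

variable [CharP k 2] [IsAlgClosed k] [FiniteDimensional k V] [Finite G] {q : ℕ} [hq : Fact q.Prime]
  {C T : Subgroup G} {a : G}

/-- All constituents of a factor are isomorphic. -/
theorem isom_factor (F : Frame q τ C T a) (hq2 : q ≠ 2) {b : G} (S : Split T a b) {W U : Submodule k V}
    (hW : IsSimpleSub (τ.comp (fix C (a * b)).subtype) W)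
    (hU : IsSimpleSub (τ.comp (fix C (a * b)).subtype) U) :
    Isom (τ.comp (fix C (a * b)).subtype) W U :=
  isom_of_cover (E := (fix C b : Set G)) F.irr (fun e he d hd => (commute_factors F hq2 S hd he).symm)
    (fix C b).one_mem (fun _ h1 h2 => invariant_of_factors F hq2 S h2 h1) (fun _ he _ he' => (fix C b).mul_mem he he')
    hW hU

/-- All constituents of the other factor are isomorphic. -/
theorem isom_factor' (F : Frame q τ C T a) (hq2 : q ≠ 2) {b : G} (S : Split T a b) {W U : Submodule k V}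
    (hW : IsSimpleSub (τ.comp (fix C b).subtype) W) (hU : IsSimpleSub (τ.comp (fix C b).subtype) U) :
    Isom (τ.comp (fix C b).subtype) W U :=
  isom_of_cover (E := (fix C (a * b) : Set G)) F.irr (fun e he d hd => commute_factors F hq2 S he hd)
    (fix C (a * b)).one_mem (fun _ h1 h2 => invariant_of_factors F hq2 S h1 h2)
    (fun _ he _ he' => (fix C (a * b)).mul_mem he he') hW hU

theorem map_fix (g c c' : G) (hg : g ∈ normalizer (C : Set G)) (hc : g * c * g⁻¹ = c') :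
    (fix C c).map (MulAut.conj g).toMonoidHom = fix C c' := by
  ext x
  simp only [Subgroup.mem_map, MulEquiv.coe_toMonoidHom, MulAut.conj_apply]
  constructor
  · rintro ⟨u, hu, rfl⟩
    obtain ⟨huC, huc⟩ := mem_fix.1 hu
    exact mem_fix.2 ⟨conj_mem_of_normalizer hg huC, hc ▸ (Commute.conj_iff g).2 huc⟩
  · intro hx
    obtain ⟨hxC, hxc⟩ := mem_fix.1 hx
    refine ⟨g⁻¹ * x * g, mem_fix.2 ⟨(mem_normalizer_iff''.1 hg x).1 hxC, ?_⟩, by group⟩
    rw [← Commute.conj_iff g, show g * (g⁻¹ * x * g) * g⁻¹ = x by group, hc]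
    exact hxc

/-- The model: `V = W ⊗ W₂`. -/
structure Model (τ : G →* Module.End k V) (C T : Subgroup G) (a b : G) (W W₂ : Submodule k V)
    (L : W ⊗[k] W₂ ≃ₗ[k] V) : Prop where
  simple : IsSimpleSub (τ.comp (fix C (a * b)).subtype) W
  stab : T ⊓ centralizer ({b} : Set G) ≤ mapStab τ W
  stab₂ : T ⊓ centralizer ({b} : Set G) ≤ mapStab τ W₂
  left : ∀ u ∈ fix C (a * b), ∀ (v v' : W) (w : W₂), (v' : V) = τ u v → τ u (L (v ⊗ₜ[k] w)) = L (v' ⊗ₜ[k] w)
  diag : ∀ t ∈ T ⊓ centralizer ({b} : Set G), ∀ (v v' : W) (w w' : W₂), (v' : V) = τ t v → (w' : V) = τ t w →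
    τ t (L (v ⊗ₜ[k] w)) = L (v' ⊗ₜ[k] w')
  swap : ∀ g ∈ T, ¬ Commute g b → W.map (τ g) = W₂ ∧ W₂.map (τ g) = W ∧
    ∀ (v v' : W) (w w' : W₂), (v' : V) = τ g w → (w' : V) = τ g v → τ g (L (v ⊗ₜ[k] w)) = L (v' ⊗ₜ[k] w')

variable [Nontrivial V]

theorem exists_model (F : Frame q τ C T a) (hq2 : q ≠ 2) {b : G} (S : Split T a b)
    (hbt : ∀ t ∈ T, t * b * t⁻¹ = b ∨ t * b * t⁻¹ = a * b) {g₀ : G} (hg₀ : g₀ ∈ T) (hg₀b : ¬ Commute g₀ b) :
    ∃ (W W₂ : Submodule k V) (L : W ⊗[k] W₂ ≃ₗ[k] V), Model τ C T a b W W₂ L := by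
  classical
  set c := a * b with hc
  set C₁ := fix C c with hC₁
  set C₂ := fix C b with hC₂
  set T₀ := T ⊓ centralizer ({b} : Set G) with hT₀
  have hT₀b : ∀ t ∈ T₀, t * b * t⁻¹ = b := fun t ht => by
    rw [(mem_centralizer_singleton_iff.1 ht.2), mul_inv_cancel_right]
  have hT₀c : ∀ t ∈ T₀, t * c * t⁻¹ = c := fun t ht => by
    rw [hc, show t * (a * b) * t⁻¹ = t * a * t⁻¹ * (t * b * t⁻¹) by group, (F.ac t ht.1).eq,
      mul_inv_cancel_right, hT₀b t ht]
  have hgb : ∀ g ∈ T, ¬ Commute g b → g * b * g⁻¹ = c ∧ g * c * g⁻¹ = b := fun g hg hgb => by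
    have h1 : g * b * g⁻¹ = c := (hbt g hg).resolve_left fun h => hgb (mul_inv_eq_iff_eq_mul.1 h)
    refine ⟨h1, ?_⟩
    rw [hc, show g * (a * b) * g⁻¹ = g * a * g⁻¹ * (g * b * g⁻¹) by group, h1, (F.ac g hg).eq,
      mul_inv_cancel_right, hc, ← mul_assoc, F.a2, one_mul]
  have hgg : ∀ g ∈ T, ∀ g' ∈ T, ¬ Commute g b → ¬ Commute g' b → g * g' ∈ T₀ := fun g hg g' hg' h h' => by
    refine ⟨T.mul_mem hg hg', mem_centralizer_singleton_iff.2 (mul_inv_eq_iff_eq_mul.1 ?_)⟩
    rw [show g * g' * b * (g * g')⁻¹ = g * (g' * b * g'⁻¹) * g⁻¹ by group, (hgb g' hg' h').1, (hgb g hg h).2]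
  have hnorm : ∀ t ∈ T₀, t ∈ normalizer (C₁ : Set G) ∧ t ∈ normalizer (C₂ : Set G) := fun t ht =>
    ⟨mem_normalizer_iff_map_conj_eq.2 (map_fix t c c (F.nrm ht.1) (hT₀c t ht)),
      mem_normalizer_iff_map_conj_eq.2 (map_fix t b b (F.nrm ht.1) (hT₀b t ht))⟩
  obtain ⟨W₀, -, hW₀⟩ := exists_simple_le (τ := τ.comp C₁.subtype) (U := ⊤) top_ne_bot fun _ _ _ => Submodule.mem_top
  obtain ⟨W, hW₀W, hstab⟩ := exists_invariant_simple hW₀ (Nat.card T₀) T₀ le_rfl (F.pT.to_le inf_le_left)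
    (fun t ht => (hnorm t ht).1) fun t ht => isom_factor F hq2 S hW₀ (simple_map_of_mem τ (hnorm t ht).1 hW₀)
  have hW : IsSimpleSub (τ.comp C₁.subtype) W := hW₀W.simple hW₀
  set W₂ := W.map (τ g₀) with hW₂def
  have hconj₀ : ∀ g ∈ T, ¬ Commute g b → ∀ u ∈ C₁, g * u * g⁻¹ ∈ C₂ := fun g hg h u hu => by
    rw [hC₂, ← map_fix g c b (F.nrm hg) (hgb g hg h).2]
    exact mem_map_of_mem (MulAut.conj g).toMonoidHom hu
  have hconj₀' : ∀ g ∈ T, ¬ Commute g b → ∀ u ∈ C₂, g * u * g⁻¹ ∈ C₁ := fun g hg h u hu => by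
    rw [hC₁, ← map_fix g b c (F.nrm hg) (hgb g hg h).1]
    exact mem_map_of_mem (MulAut.conj g).toMonoidHom hu
  have hginv : ∀ g ∈ T, ¬ Commute g b → ¬ Commute g⁻¹ b := fun g _ h h' => h (inv_inv g ▸ h'.inv_left)
  have hW₂i : ∀ u ∈ C₂, ∀ v ∈ W₂, τ u v ∈ W₂ := by
    rintro u hu _ ⟨v, hv, rfl⟩
    have hu' : g₀⁻¹ * u * g₀⁻¹⁻¹ ∈ C₁ := hconj₀' _ (T.inv_mem hg₀) (hginv _ hg₀ hg₀b) u hu
    refine ⟨τ (g₀⁻¹ * u * g₀⁻¹⁻¹) v, hW.2.1 ⟨_, hu'⟩ v hv, ?_⟩
    rw [← Module.End.mul_apply, ← map_mul, ← Module.End.mul_apply, ← map_mul]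
    congr 2
    group
  have hW₂ : IsSimpleSub (τ.comp C₂.subtype) W₂ := by
    refine ⟨fun h => hW.1 (((Submodule.map_injective_of_injective (apply_injective τ g₀)).eq_iff'
      (Submodule.map_bot _)).1 h), fun u v hv => hW₂i u u.2 v hv, fun U hU hUi => ?_⟩
    have hback : (U.map (τ g₀⁻¹)).map (τ g₀) = U := by rw [← map_map_mul, mul_inv_cancel, map_map_one]
    rcases hW.2.2 (U.map (τ g₀⁻¹)) (by
      rintro _ ⟨x, hx, rfl⟩
      obtain ⟨w, hw, rfl⟩ := hU hx
      rwa [inv_apply_apply]) (by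
      rintro u _ ⟨x, hx, rfl⟩
      refine ⟨τ (g₀ * u * g₀⁻¹) x, hUi ⟨_, hconj₀ g₀ hg₀ hg₀b u u.2⟩ x hx, ?_⟩
      show τ g₀⁻¹ (τ (g₀ * (u : G) * g₀⁻¹) x) = τ (u : G) (τ g₀⁻¹ x)
      rw [← Module.End.mul_apply, ← map_mul, ← Module.End.mul_apply, ← map_mul]
      congr 2
      group) with h | h
    · left; rw [← hback, h, Submodule.map_bot]
    · right; rw [← hback, h, hW₂def]
  have hstab₂ : T₀ ≤ mapStab τ W₂ := fun t ht => by
    show (W.map (τ g₀)).map (τ t) = W.map (τ g₀)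
    have ht' : g₀⁻¹ * t * g₀ ∈ T₀ := by
      refine ⟨T.mul_mem (T.mul_mem (T.inv_mem hg₀) ht.1) hg₀, mem_centralizer_singleton_iff.2
        (mul_inv_eq_iff_eq_mul.1 ?_)⟩
      rw [show g₀⁻¹ * t * g₀ * b * (g₀⁻¹ * t * g₀)⁻¹ = g₀⁻¹ * (t * (g₀ * b * g₀⁻¹) * t⁻¹) * g₀⁻¹⁻¹ by group,
        (hgb g₀ hg₀ hg₀b).1, hT₀c t ht, (hgb _ (T.inv_mem hg₀) (hginv _ hg₀ hg₀b)).2]
    rw [← map_map_mul, show t * g₀ = g₀ * (g₀⁻¹ * t * g₀) by group, map_map_mul, (hstab ht' : W.map _ = W)]
  -- the intertwiners from `W`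
  let M : Submodule k (W →ₗ[k] V) :=
    { carrier := {φ | ∀ u ∈ C₁, ∀ (w w' : W), (w' : V) = τ u w → φ w' = τ u (φ w)}
      add_mem' := fun {x y} hx hy u hu w w' e => by
        rw [LinearMap.add_apply, LinearMap.add_apply, map_add, hx u hu w w' e, hy u hu w w' e]
      zero_mem' := fun u _ w w' _ => by simp
      smul_mem' := fun r x hx u hu w w' e => by
        rw [LinearMap.smul_apply, LinearMap.smul_apply, map_smul, hx u hu w w' e] }
  obtain ⟨v₀, hv₀, hv₀ne⟩ := Submodule.exists_mem_ne_zero_of_ne_bot hW.1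
  let ev : M →ₗ[k] V := (LinearMap.applyₗ (⟨v₀, hv₀⟩ : W)).comp M.subtype
  have hev : Function.Injective ev := by
    rw [injective_iff_map_eq_zero]
    intro φ hφ
    rcases hW.2.2 ((LinearMap.ker (φ : W →ₗ[k] V)).map W.subtype) (Submodule.map_subtype_le _ _) (by
      rintro u _ ⟨w, hw, rfl⟩
      refine ⟨⟨τ (u : G) w, hW.2.1 u _ w.2⟩, ?_, rfl⟩
      show (φ : W →ₗ[k] V) _ = 0
      rw [φ.2 u u.2 w _ rfl, LinearMap.mem_ker.1 hw, map_zero]) with h | h
    · exfalso
      refine hv₀ne ((Submodule.mem_bot k).1 (h ▸ ?_))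
      exact ⟨⟨v₀, hv₀⟩, hφ, rfl⟩
    · refine Subtype.ext (LinearMap.ext fun w => ?_)
      obtain ⟨w', hw', e⟩ := h.ge w.2
      rw [← (Subtype.ext e : w' = w)]
      exact hw'
  obtain ⟨S₀, hS₀le, hS₀⟩ := exists_simple_le (τ := τ.comp C₂.subtype) (U := LinearMap.range ev) (by
      intro h
      rw [LinearMap.range_eq_bot] at h
      exact hv₀ne (LinearMap.congr_fun h ⟨W.subtype, fun u _ w w' e => e⟩)) (by
      rintro u _ ⟨φ, rfl⟩
      refine ⟨⟨(τ (u : G)).comp (φ : W →ₗ[k] V), fun u' hu' w w' e => ?_⟩, rfl⟩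
      show τ (u : G) ((φ : W →ₗ[k] V) w') = τ u' (τ (u : G) ((φ : W →ₗ[k] V) w))
      rw [φ.2 u' hu' w w' e, ← Module.End.mul_apply, ← map_mul, ← Module.End.mul_apply, ← map_mul,
        (commute_factors F hq2 S hu' u.2).eq])
  obtain ⟨f, hf⟩ := isom_factor' F hq2 S hW₂ hS₀
  let θ : W₂ →ₗ[k] M := (LinearEquiv.ofInjective ev hev).symm.toLinearMap.comp
    ((Submodule.inclusion hS₀le).comp f.toLinearMap)
  have hθ : ∀ w, ev (θ w) = (f w : V) := fun w => by
    have h := (LinearEquiv.ofInjective ev hev).apply_symm_apply (Submodule.inclusion hS₀le (f w))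
    exact congrArg Subtype.val h
  let L₀ : W ⊗[k] W₂ →ₗ[k] V := TensorProduct.lift ((M.subtype.comp θ).flip)
  have hL₀ : ∀ v w, L₀ (v ⊗ₜ[k] w) = (θ w : W →ₗ[k] V) v := fun v w => rfl
  have hleft : ∀ u ∈ C₁, ∀ (v v' : W) (w : W₂), (v' : V) = τ u v → τ u (L₀ (v ⊗ₜ[k] w)) = L₀ (v' ⊗ₜ[k] w) :=
    fun u hu v v' w e => by rw [hL₀, hL₀, (θ w).2 u hu v v' e]
  have hright : ∀ u ∈ C₂, ∀ (v : W) (w w' : W₂), (w' : V) = τ u w → τ u (L₀ (v ⊗ₜ[k] w)) = L₀ (v ⊗ₜ[k] w') := by
    intro u hu v w w' e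
    let φ : M := ⟨(τ u).comp (θ w : W →ₗ[k] V), fun u' hu' x x' e' => by
      show τ u ((θ w : W →ₗ[k] V) x') = τ u' (τ u ((θ w : W →ₗ[k] V) x))
      rw [(θ w).2 u' hu' x x' e', ← Module.End.mul_apply, ← map_mul, ← Module.End.mul_apply, ← map_mul,
        (commute_factors F hq2 S hu' hu).eq]⟩
    have hφ : θ w' = φ := hev (by
      rw [hθ, show ev φ = τ u (ev (θ w)) from rfl, hθ]
      exact hf ⟨u, hu⟩ w w' e)
    rw [hL₀, hL₀, hφ]; rfl
  haveI : Nontrivial W := Submodule.nontrivial_iff_ne_bot.2 hW.1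
  have hC₁i : ∀ g ∈ C₁, ∀ v ∈ W, τ g v ∈ W := fun g hg v hv => hW.2.1 ⟨g, hg⟩ v hv
  have hsurj : LinearMap.range L₀ = ⊤ := by
    have hinv1 : ∀ u ∈ C₁, ∀ x ∈ LinearMap.range L₀, τ u x ∈ LinearMap.range L₀ := by
      rintro u hu _ ⟨x, rfl⟩
      induction x using TensorProduct.induction_on with
      | zero => simp
      | tmul v w => exact ⟨_, (hleft u hu v ⟨τ u v, hC₁i u hu _ v.2⟩ w rfl).symm⟩
      | add x y hx hy => rw [map_add, map_add]; exact add_mem hx hy
    have hinv2 : ∀ u ∈ C₂, ∀ x ∈ LinearMap.range L₀, τ u x ∈ LinearMap.range L₀ := by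
      rintro u hu _ ⟨x, rfl⟩
      induction x using TensorProduct.induction_on with
      | zero => simp
      | tmul v w => exact ⟨_, (hright u hu v w ⟨τ u w, hW₂i u hu _ w.2⟩ rfl).symm⟩
      | add x y hx hy => rw [map_add, map_add]; exact add_mem hx hy
    refine (F.irr _ fun u x hx => invariant_of_factors F hq2 S hinv1 hinv2 u u.2 x hx).resolve_left fun h => ?_
    obtain ⟨w, hw, hwne⟩ := Submodule.exists_mem_ne_zero_of_ne_bot hW₂.1
    have h1 : L₀ ((⟨v₀, hv₀⟩ : W) ⊗ₜ[k] (⟨w, hw⟩ : W₂)) ∈ LinearMap.range L₀ := ⟨_, rfl⟩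
    rw [h, Submodule.mem_bot] at h1
    have h2 : (f ⟨w, hw⟩ : V) = 0 := (hθ ⟨w, hw⟩).symm.trans h1
    exact hwne (congrArg Subtype.val (f.injective ((Subtype.ext h2 : f ⟨w, hw⟩ = 0).trans (map_zero f).symm)))
  have hinj : Function.Injective L₀ := by
    haveI := Fintype.ofFinite C₁
    have hd : (Module.finrank k W : k) ≠ 0 := by
      obtain ⟨j, hj⟩ := odd_finrank (τ := subRep τ C₁ W hC₁i) (C := (⊤ : Subgroup C₁)) hq2
        ((F.qC.to_le (inf_le_left : C₁ ≤ C)).to_subgroup ⊤) fun U hU =>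
          irred_subRep hW U fun g v hv => hU ⟨g, mem_top g⟩ v hv
      rw [hj, Nat.cast_add, Nat.cast_mul, Nat.cast_ofNat, CharTwo.two_eq_zero, zero_mul, zero_add, Nat.cast_one]
      exact one_ne_zero
    have hcard : ((Fintype.card C₁ : k) / Module.finrank k W) ≠ 0 :=
      div_ne_zero (card_ne_zero hq2 (F.qC.to_le inf_le_left)) hd
    rw [injective_iff_map_eq_zero]
    intro x hx
    let bas := Module.finBasis k W
    let e := TensorProduct.equivFinsuppOfBasisLeft bas (N := W₂)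
    have key : ∀ j, e x j = 0 := by
      intro j
      have hcoord : ∀ (v : W), L₀ (v ⊗ₜ[k] e x j) = 0 := by
        intro v
        set E : Module.End k W := (bas.coord j).smulRight v with hE
        have hsum := sum_trace_smul (irred_subRep hW) hd E
        set α : C₁ → k := fun u => LinearMap.trace k W (E * subRep τ C₁ W hC₁i u⁻¹) with hα
        have h1 : ∀ y, ((Fintype.card C₁ : k) / Module.finrank k W) • L₀ ((LinearMap.rTensor W₂ E) y) =
            ∑ u : C₁, α u • τ (u : G) (L₀ y) := by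
          intro y
          induction y using TensorProduct.induction_on with
          | zero => simp
          | add y z hy hz => simp only [map_add, smul_add, hy, hz, Finset.sum_add_distrib]
          | tmul p r =>
            rw [LinearMap.rTensor_tmul, ← map_smul, TensorProduct.smul_tmul',
              show ((Fintype.card C₁ : k) / Module.finrank k W) • E p = ∑ u : C₁, α u • subRep τ C₁ W hC₁i u p by
                rw [← LinearMap.smul_apply, ← hsum, LinearMap.sum_apply]; rfl,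
              TensorProduct.sum_tmul, map_sum]
            refine Finset.sum_congr rfl fun u _ => ?_
            rw [← TensorProduct.smul_tmul', map_smul, hleft u u.2 p (subRep τ C₁ W hC₁i u p) r rfl]
        have h2 := h1 x
        simp only [hx, map_zero, smul_zero, Finset.sum_const_zero, smul_eq_zero, hcard, false_or] at h2
        have h3 : ∀ y, (LinearMap.rTensor W₂ E) y = v ⊗ₜ[k] e y j := by
          intro y
          induction y using TensorProduct.induction_on with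
          | zero => simp
          | add y z hy hz => simp only [map_add, Finsupp.add_apply, hy, hz, TensorProduct.tmul_add]
          | tmul p r =>
            rw [LinearMap.rTensor_tmul, hE, LinearMap.smulRight_apply, TensorProduct.smul_tmul,
              TensorProduct.equivFinsuppOfBasisLeft_apply_tmul_apply]
            rfl
        rwa [h3] at h2
      have h0 : (θ (e x j) : W →ₗ[k] V) = 0 := LinearMap.ext fun v => hcoord v
      have h0' : θ (e x j) = 0 := Subtype.ext h0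
      have h4 := hθ (e x j)
      rw [h0', map_zero] at h4
      exact f.injective ((Subtype.ext h4.symm : f (e x j) = 0).trans (map_zero f).symm)
    exact e.injective ((Finsupp.ext fun j => key j).trans (map_zero e).symm)
  let L : W ⊗[k] W₂ ≃ₗ[k] V := LinearEquiv.ofBijective L₀ ⟨hinj, LinearMap.range_eq_top.1 hsurj⟩
  have hLapp : ∀ x, L x = L₀ x := fun x => rfl
  have hsym : ∀ x, L₀ (L.symm x) = x := fun x => L.apply_symm_apply x
  -- intertwiners of both factors are scalars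
  have hscal : ∀ Φ : Module.End k V, (∀ u ∈ C₁, ∀ v, Φ (τ u v) = τ u (Φ v)) →
      (∀ u ∈ C₂, ∀ v, Φ (τ u v) = τ u (Φ v)) → ∃ μ : k, Φ = μ • 1 := by
    intro Φ h1 h2
    let K : Subgroup G :=
      { carrier := {u | ∀ v, Φ (τ u v) = τ u (Φ v)}
        mul_mem' := fun {x y} hx hy v => by
          rw [map_mul, Module.End.mul_apply, Module.End.mul_apply, hx, hy]
        one_mem' := fun v => by simp
        inv_mem' := fun {x} hx v => apply_injective τ x (by rw [← hx, apply_inv_apply, apply_inv_apply]) }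
    refine scalar_of_commute F.irr Φ fun u => LinearMap.ext fun v => ?_
    obtain ⟨hp, hm, hprod⟩ := sq_decomp F hq2 S u.2
    obtain ⟨j, hj⟩ := exists_sq_pow hq2 F.qC u.2
    have hu : (u : G) * u ∈ K := by
      rw [hprod]
      exact K.mul_mem (h1 _ hp) (h2 _ hm)
    exact (hj ▸ K.pow_mem hu j : (u : G) ∈ K) v
  have hstabT : ∀ t ∈ T₀, ∀ v ∈ W, τ t v ∈ W := fun t ht v hv => mem_of_mapStab (hstab ht) hv
  have hstabT₂ : ∀ t ∈ T₀, ∀ v ∈ W₂, τ t v ∈ W₂ := fun t ht v hv => mem_of_mapStab (hstab₂ ht) hv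
  let D : T₀ →* Module.End k (W ⊗[k] W₂) :=
    { toFun := fun t => TensorProduct.map (subRep τ T₀ W hstabT t) (subRep τ T₀ W₂ hstabT₂ t)
      map_one' := by rw [map_one, map_one, TensorProduct.map_one]
      map_mul' := fun s t => by rw [map_mul, map_mul, TensorProduct.map_mul] }
  have hdiag : ∀ t : T₀, ∀ x, τ (t : G) (L₀ x) = L₀ (D t x) := by
    have hex : ∀ t : T₀, ∃ μ : k, ∀ x, L₀ (D t x) = μ • τ (t : G) (L₀ x) := by
      intro t
      obtain ⟨hn1, hn2⟩ := hnorm t t.2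
      let Φ : Module.End k V := (τ ((t : G)⁻¹)).comp (L₀.comp ((D t).comp L.symm.toLinearMap))
      obtain ⟨μ, hμ⟩ := hscal Φ (fun u hu x => by
        obtain ⟨y, rfl⟩ := L.surjective x
        induction y using TensorProduct.induction_on with
        | zero => simp
        | add y z hy hz => simp only [map_add, hy, hz]
        | tmul v w =>
          have hu' : (t : G) * u * (t : G)⁻¹ ∈ C₁ := (mem_normalizer_iff.1 hn1 u).1 hu
          rw [hLapp, hleft u hu v ⟨τ u v, hC₁i u hu _ v.2⟩ w rfl]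
          simp only [Φ, LinearMap.comp_apply, LinearEquiv.coe_coe, ← hLapp, L.symm_apply_apply]
          show τ ((t : G)⁻¹) (L₀ ((D t) (⟨τ u v, _⟩ ⊗ₜ[k] w))) = τ u (τ ((t : G)⁻¹) (L₀ ((D t) (v ⊗ₜ[k] w))))
          simp only [D, MonoidHom.coe_mk, OneHom.coe_mk, TensorProduct.map_tmul]
          rw [← hleft _ hu' (subRep τ T₀ W hstabT t v) (subRep τ T₀ W hstabT t ⟨τ u v, hC₁i u hu _ v.2⟩) _ (by
              show τ (t : G) (τ u v) = τ ((t : G) * u * (t : G)⁻¹) (τ (t : G) v)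
              rw [← Module.End.mul_apply, ← map_mul, ← Module.End.mul_apply, ← map_mul, inv_mul_cancel_right]),
            ← Module.End.mul_apply, ← map_mul, ← Module.End.mul_apply, ← map_mul]
          congr 2
          group) (fun u hu x => by
        obtain ⟨y, rfl⟩ := L.surjective x
        induction y using TensorProduct.induction_on with
        | zero => simp
        | add y z hy hz => simp only [map_add, hy, hz]
        | tmul v w =>
          have hu' : (t : G) * u * (t : G)⁻¹ ∈ C₂ := (mem_normalizer_iff.1 hn2 u).1 hu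
          rw [hLapp, hright u hu v w ⟨τ u w, hW₂i u hu _ w.2⟩ rfl]
          simp only [Φ, LinearMap.comp_apply, LinearEquiv.coe_coe, ← hLapp, L.symm_apply_apply]
          show τ ((t : G)⁻¹) (L₀ ((D t) (v ⊗ₜ[k] ⟨τ u w, _⟩))) = τ u (τ ((t : G)⁻¹) (L₀ ((D t) (v ⊗ₜ[k] w))))
          simp only [D, MonoidHom.coe_mk, OneHom.coe_mk, TensorProduct.map_tmul]
          rw [← hright _ hu' _ (subRep τ T₀ W₂ hstabT₂ t w) (subRep τ T₀ W₂ hstabT₂ t ⟨τ u w, hW₂i u hu _ w.2⟩) (by
              show τ (t : G) (τ u w) = τ ((t : G) * u * (t : G)⁻¹) (τ (t : G) w)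
              rw [← Module.End.mul_apply, ← map_mul, ← Module.End.mul_apply, ← map_mul, inv_mul_cancel_right]),
            ← Module.End.mul_apply, ← map_mul, ← Module.End.mul_apply, ← map_mul]
          congr 2
          group)
      refine ⟨μ, fun x => ?_⟩
      have h := congrArg (τ (t : G)) (LinearMap.congr_fun hμ (L x))
      simp only [Φ, LinearMap.comp_apply, LinearEquiv.coe_coe, L.symm_apply_apply, apply_inv_apply,
        LinearMap.smul_apply, Module.End.one_apply, map_smul] at h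
      exact h
    choose μ hμ using hex
    obtain ⟨x₀, hx₀⟩ := exists_ne (0 : V)
    have hne : ∀ g, τ g x₀ ≠ 0 := fun g h => hx₀ (apply_injective τ g (h.trans (map_zero _).symm))
    have hmul : ∀ s t, μ (s * t) = μ s * μ t := fun s t => by
      have h1 := hμ (s * t) (L.symm x₀)
      rw [map_mul, Module.End.mul_apply, hμ s, Subgroup.coe_mul, map_mul, Module.End.mul_apply, hμ t, map_smul,
        smul_smul, hsym, ← Module.End.mul_apply, ← map_mul] at h1
      exact (smul_left_injective k (hne _) h1).symm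
    have hone : μ 1 = 1 := by
      have h1 := hμ 1 (L.symm x₀)
      rw [map_one, Module.End.one_apply, hsym, OneMemClass.coe_one, map_one, Module.End.one_apply] at h1
      exact (smul_left_injective k hx₀ ((one_smul k x₀).trans h1)).symm
    intro t x
    let M' : T₀ →* k := { toFun := μ, map_one' := hone, map_mul' := hmul }
    obtain ⟨j, hj⟩ := (F.pT.to_le (inf_le_left : T₀ ≤ T)) t
    have h1 : μ t = 1 := eq_one_of_pow_two_pow j (by
      show (M' t) ^ 2 ^ j = 1
      rw [← map_pow, hj, map_one])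
    rw [hμ t x, h1, one_smul]
  refine ⟨W, W₂, L, hW, hstab, hstab₂, fun u hu v v' w e => hleft u hu v v' w e, ?_, ?_⟩
  · intro t ht v v' w w' ev' ew'
    rw [hLapp, hLapp, hdiag ⟨t, ht⟩]
    show L₀ (subRep τ T₀ W hstabT ⟨t, ht⟩ v ⊗ₜ[k] subRep τ T₀ W₂ hstabT₂ ⟨t, ht⟩ w) = _
    rw [show subRep τ T₀ W hstabT ⟨t, ht⟩ v = v' from Subtype.ext ev'.symm,
      show subRep τ T₀ W₂ hstabT₂ ⟨t, ht⟩ w = w' from Subtype.ext ew'.symm]
  intro g hg hgnb
  have h0 : g₀⁻¹ * g ∈ T₀ := hgg _ (T.inv_mem hg₀) g hg (hginv _ hg₀ hg₀b) hgnb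
  have hgW : W.map (τ g) = W₂ := by
    rw [show g = g₀ * (g₀⁻¹ * g) by group, map_map_mul, (hstab h0 : W.map _ = W)]
  have hgW₂ : W₂.map (τ g) = W := by
    rw [hW₂def, ← map_map_mul, (hstab (hgg g hg g₀ hg₀ hgnb hg₀b) : W.map _ = W)]
  refine ⟨hgW, hgW₂, ?_⟩
  let Γ : W ⊗[k] W₂ →ₗ[k] W ⊗[k] W₂ :=
    (TensorProduct.map (moveTo τ g W₂ W fun _ hv => mem_map_eq hgW₂ hv)
      (moveTo τ g W W₂ fun _ hv => mem_map_eq hgW hv)).comp (TensorProduct.comm k W W₂).toLinearMap
  let Φ : Module.End k V := (τ g⁻¹).comp (L₀.comp (Γ.comp L.symm.toLinearMap))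
  obtain ⟨μ, hμ⟩ := hscal Φ (fun u hu x => by
    obtain ⟨y, rfl⟩ := L.surjective x
    induction y using TensorProduct.induction_on with
    | zero => simp
    | add y z hy hz => simp only [map_add, hy, hz]
    | tmul v w =>
      rw [hLapp, hleft u hu v ⟨τ u v, hC₁i u hu _ v.2⟩ w rfl]
      simp only [Φ, LinearMap.comp_apply, LinearEquiv.coe_coe, ← hLapp, L.symm_apply_apply]
      simp only [Γ, LinearMap.comp_apply, LinearEquiv.coe_coe, TensorProduct.comm_tmul, TensorProduct.map_tmul]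
      rw [hLapp, hLapp, ← hright _ (hconj₀ g hg hgnb u hu) _
        (moveTo τ g W W₂ (fun _ hv => mem_map_eq hgW hv) v)
        (moveTo τ g W W₂ (fun _ hv => mem_map_eq hgW hv) ⟨τ u v, hC₁i u hu _ v.2⟩) (by
          show τ g (τ u v) = τ (g * u * g⁻¹) (τ g v)
          rw [← Module.End.mul_apply, ← map_mul, ← Module.End.mul_apply, ← map_mul, inv_mul_cancel_right]),
        ← Module.End.mul_apply, ← map_mul, ← Module.End.mul_apply, ← map_mul]
      congr 2
      group) (fun u hu x => by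
    obtain ⟨y, rfl⟩ := L.surjective x
    induction y using TensorProduct.induction_on with
    | zero => simp
    | add y z hy hz => simp only [map_add, hy, hz]
    | tmul v w =>
      rw [hLapp, hright u hu v w ⟨τ u w, hW₂i u hu _ w.2⟩ rfl]
      simp only [Φ, LinearMap.comp_apply, LinearEquiv.coe_coe, ← hLapp, L.symm_apply_apply]
      simp only [Γ, LinearMap.comp_apply, LinearEquiv.coe_coe, TensorProduct.comm_tmul, TensorProduct.map_tmul]
      rw [hLapp, hLapp, ← hleft _ (hconj₀' g hg hgnb u hu)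
        (moveTo τ g W₂ W (fun _ hv => mem_map_eq hgW₂ hv) w)
        (moveTo τ g W₂ W (fun _ hv => mem_map_eq hgW₂ hv) ⟨τ u w, hW₂i u hu _ w.2⟩) _ (by
          show τ g (τ u w) = τ (g * u * g⁻¹) (τ g w)
          rw [← Module.End.mul_apply, ← map_mul, ← Module.End.mul_apply, ← map_mul, inv_mul_cancel_right]),
        ← Module.End.mul_apply, ← map_mul, ← Module.End.mul_apply, ← map_mul]
      congr 2
      group)
  have hg2 : g * g ∈ T₀ := hgg g hg g hg hgnb hgnb
  have hΓ : ∀ y, L₀ (Γ y) = μ • τ g (L₀ y) := fun y => by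
    have h := congrArg (τ g) (LinearMap.congr_fun hμ (L y))
    simp only [Φ, LinearMap.comp_apply, LinearEquiv.coe_coe, L.symm_apply_apply, apply_inv_apply,
      LinearMap.smul_apply, Module.End.one_apply, map_smul] at h
    exact h
  have hΓ2 : ∀ y, Γ (Γ y) = D ⟨g * g, hg2⟩ y := by
    intro y
    induction y using TensorProduct.induction_on with
    | zero => simp
    | add y z hy hz => simp only [map_add, hy, hz]
    | tmul v w =>
      simp only [Γ, D, LinearMap.comp_apply, LinearEquiv.coe_coe, TensorProduct.comm_tmul,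
        TensorProduct.map_tmul, MonoidHom.coe_mk, OneHom.coe_mk]
      congr 1
      · exact Subtype.ext (by show τ g (τ g v) = τ (g * g) v; rw [map_mul, Module.End.mul_apply])
      · exact Subtype.ext (by show τ g (τ g w) = τ (g * g) w; rw [map_mul, Module.End.mul_apply])
  obtain ⟨x₀, hx₀⟩ := exists_ne (0 : V)
  have hμ1 : μ = 1 := by
    have h1 := hΓ (Γ (L.symm x₀))
    rw [hΓ2, ← hdiag, hΓ, map_smul, smul_smul, hsym, map_mul, Module.End.mul_apply] at h1
    have hne : τ g (τ g x₀) ≠ 0 := fun h =>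
      hx₀ (apply_injective τ g (apply_injective τ g (by rw [h, map_zero, map_zero])))
    refine eq_one_of_pow_two_pow 1 ?_
    rw [pow_one, pow_two]
    exact (smul_left_injective k hne ((one_smul k _).trans h1)).symm
  intro v v' w w' ev' ew'
  have h := hΓ (v ⊗ₜ[k] w)
  rw [hμ1, one_smul] at h
  rw [hLapp, hLapp, ← h]
  show L₀ (moveTo τ g W₂ W _ w ⊗ₜ[k] moveTo τ g W W₂ _ v) = _
  rw [show moveTo τ g W₂ W (fun _ hv => mem_map_eq hgW₂ hv) w = v' from Subtype.ext ev'.symm,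
    show moveTo τ g W W₂ (fun _ hv => mem_map_eq hgW hv) v = w' from Subtype.ext ew'.symm]

end Cfsg.Agent.TwoLength
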