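import Cfsg.Agent.TwoLength.Classes
import Cfsg.Agent.TwoLength.Lands
import Cfsg.Agent.Core.Frattini

/-!
Short differences force deep derived terms to fix the classes of constituents.
-/

set_option autoImplicit false

namespace Cfsg.Agent.TwoLength

open Subgroup
open Cfsg.Agent.HallHigman

universe u v w

variable {k : Type w} [Field k] {V : Type v} [AddCommGroup V] [Module k V] {G : Type u} [Group G]
  {τ : G →* Module.End k V} {C : Subgroup G}

/-- The span of the translates. -/
def Orb (τ : G →* Module.End k V) (P : Subgroup G) (W : Submodule k V) : Submodule k V :=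
  ⨆ g : P, W.map (τ (g : G))

theorem map_le_orb {P : Subgroup G} {W : Submodule k V} {g : G} (hg : g ∈ P) : W.map (τ g) ≤ Orb τ P W :=
  le_iSup (fun g : P => W.map (τ (g : G))) ⟨g, hg⟩

theorem le_orb {P : Subgroup G} {W : Submodule k V} : W ≤ Orb τ P W := by
  conv_lhs => rw [← map_map_one τ W]
  exact map_le_orb P.one_mem

theorem orb_mono {P P' : Subgroup G} (h : P' ≤ P) {W : Submodule k V} : Orb τ P' W ≤ Orb τ P W :=
  iSup_le fun g => map_le_orb (h g.2)

theorem map_orb_le {P : Subgroup G} {W : Submodule k V} {x : G} (hx : x ∈ normalizer (P : Set G)) :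
    (Orb τ P W).map (τ x) ≤ Orb τ P (W.map (τ x)) := by
  rw [Orb, Submodule.map_iSup]
  refine iSup_le fun g => ?_
  rw [← map_map_mul, show x * (g : G) = x * g * x⁻¹ * x by group, map_map_mul]
  exact map_le_orb ((mem_normalizer_iff.1 hx g).1 g.2)

theorem orb_invariant {P : Subgroup G} {W : Submodule k V} {g : G} (hg : g ∈ P) {v : V}
    (hv : v ∈ Orb τ P W) : τ g v ∈ Orb τ P W := by
  refine (show (Orb τ P W).map (τ g) ≤ Orb τ P W from ?_) (Submodule.mem_map_of_mem hv)
  rw [Orb, Submodule.map_iSup]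
  refine iSup_le fun u => ?_
  rw [← map_map_mul]
  exact map_le_orb (P.mul_mem hg u.2)

theorem orb_invariant' {P : Subgroup G} (hPC : P ≤ normalizer (C : Set G)) {W : Submodule k V}
    (hW : IsSimpleSub (τ.comp C.subtype) W) (u : C) {v : V} (hv : v ∈ Orb τ P W) :
    τ (u : G) v ∈ Orb τ P W := by
  refine (show (Orb τ P W).map (τ (u : G)) ≤ Orb τ P W from ?_) (Submodule.mem_map_of_mem hv)
  rw [Orb, Submodule.map_iSup]
  refine iSup_le fun g => (show (W.map (τ (g : G))).map (τ (u : G)) ≤ Orb τ P W from ?_)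
  rintro _ ⟨w, hw, rfl⟩
  exact map_le_orb g.2 ((simple_map_of_mem τ (hPC g.2) hW).2.1 u w hw)

theorem isom_trans_map {P : Subgroup G} (hPC : P ≤ normalizer (C : Set G)) {W : Submodule k V}
    {g g' : G} (hg : g ∈ P) (h : Isom (τ.comp C.subtype) W (W.map (τ g)))
    (h' : Isom (τ.comp C.subtype) W (W.map (τ g'))) : Isom (τ.comp C.subtype) W (W.map (τ (g * g'))) := by
  rw [map_map_mul]
  exact h.trans (isom_map_of_mem τ (hPC hg) h')

variable [FiniteDimensional k V] [Finite G]

theorem exists_isom_of_le_orb {P : Subgroup G} (hPC : P ≤ normalizer (C : Set G)) {W U : Submodule k V}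
    (hW : IsSimpleSub (τ.comp C.subtype) W) (hU : IsSimpleSub (τ.comp C.subtype) U) (hle : U ≤ Orb τ P W) :
    ∃ g ∈ P, Isom (τ.comp C.subtype) U (W.map (τ g)) := by
  classical
  haveI := Fintype.ofFinite P
  obtain ⟨g, -, h⟩ := exists_isom_of_le_iSup (fun g : P => W.map (τ (g : G))) hU Finset.univ
    (fun g _ => simple_map_of_mem τ (hPC g.2) hW) (by rw [Finset.sup_univ_eq_iSup]; exact hle)
  exact ⟨g, g.2, h⟩

/-- Short differences on an orbit come from a deeper derived term fixing the class. -/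
theorem strip : ∀ (n : ℕ) (P : Subgroup G), IsPGroup 2 P → P ≤ normalizer (C : Set G) →
    ∀ W : Submodule k V, IsSimpleSub (τ.comp C.subtype) W → (∀ v ∈ Orb τ P W, Lands τ ⊥ n P v) →
      ∃ j < n, (∀ g ∈ dser j P, Isom (τ.comp C.subtype) W (W.map (τ g))) ∧
        ∀ v ∈ Orb τ (dser j P) W, Lands τ ⊥ (n - j) (dser j P) v := by
  intro n
  induction n with
  | zero =>
    intro P _ _ W hW h
    exact absurd (eq_bot_iff.2 fun v hv => h v (le_orb hv)) hW.1
  | succ n ih =>
  intro P hP hPC W hW h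
  by_cases hall : ∀ g ∈ P, Isom (τ.comp C.subtype) W (W.map (τ g))
  · exact ⟨0, Nat.succ_pos n, hall, h⟩
  set P' := ⁅P, P⁆ with hP'
  have hP'P : P' ≤ P := commutator_le_of_self P
  -- a translate outside the orbit of the derived group
  obtain ⟨g, hg, hgout⟩ : ∃ g ∈ P, ∀ u ∈ P', ¬ Isom (τ.comp C.subtype) (W.map (τ g)) (W.map (τ u)) := by
    by_contra hcon
    push Not at hcon
    refine hall fun g hg => ?_
    let K : Subgroup P :=
      { carrier := {x | Isom (τ.comp C.subtype) W (W.map (τ (x : G)))}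
        mul_mem' := fun {x y} hx hy => by
          show Isom _ W (W.map (τ ((x * y : P) : G)))
          rw [Subgroup.coe_mul]
          exact isom_trans_map hPC x.2 hx hy
        one_mem' := by
          show Isom _ W (W.map (τ ((1 : P) : G)))
          rw [OneMemClass.coe_one, map_map_one]
          exact Isom.refl W
        inv_mem' := fun {x} hx => by
          have h1 := isom_map_of_mem τ (hPC (P.inv_mem x.2)) hx
          rw [← map_map_mul, inv_mul_cancel, map_map_one] at h1
          exact h1.symm (simple_map_of_mem τ (hPC (P.inv_mem x.2)) hW).2.1 }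
    haveI : Fact (Nat.Prime 2) := ⟨Nat.prime_two⟩
    haveI := hP.isNilpotent
    have htop : K ⊔ commutator P = ⊤ := by
      refine eq_top_iff.2 fun x _ => ?_
      obtain ⟨u, hu, hiso⟩ := hcon x x.2
      have h1 := isom_map_of_mem τ (hPC (P.inv_mem x.2)) hiso
      rw [← map_map_mul, inv_mul_cancel, map_map_one, ← map_map_mul] at h1
      have hk : (⟨(x : G)⁻¹ * u, P.mul_mem (P.inv_mem x.2) (hP'P hu)⟩ : P) ∈ K := h1
      have hu' : (⟨u, hP'P hu⟩ : P) ∈ commutator P := by
        rw [commutator_def, ← Subgroup.mem_map_iff_mem P.subtype_injective, map_commutator,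
          ← MonoidHom.range_eq_map, Subgroup.range_subtype]
        exact hu
      rw [show x = (⟨u, hP'P hu⟩ : P) * (⟨(x : G)⁻¹ * u, P.mul_mem (P.inv_mem x.2) (hP'P hu)⟩ : P)⁻¹ from
        Subtype.ext (by simp)]
      exact mul_mem ((le_sup_right : _ ≤ K ⊔ commutator P) hu') ((le_sup_left : K ≤ _) (inv_mem hk))
    have hK : K = ⊤ := frattini_nongenerating (top_le_iff.1
      (htop.ge.trans (sup_le_sup_left Core.commutator_le_frattini K)))
    exact (hK.ge (mem_top (⟨g, hg⟩ : P)) : _)
  have hgN : g ∈ normalizer (P' : Set G) := le_normalizer_dser 1 P hg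
  have hP'C : P' ≤ normalizer (C : Set G) := hP'P.trans hPC
  have hsim := simple_map_of_mem τ (hPC hg) hW
  have hdisj : Orb τ P' W ⊓ Orb τ P' (W.map (τ g)) = ⊥ := by
    by_contra hne
    obtain ⟨U, hU, hUs⟩ := exists_simple_le (τ := τ.comp C.subtype) hne fun u v hv =>
      ⟨orb_invariant' hP'C hW u hv.1, orb_invariant' hP'C hsim u hv.2⟩
    obtain ⟨u, hu, h1⟩ := exists_isom_of_le_orb hP'C hW hUs (hU.trans inf_le_left)
    obtain ⟨u', hu', h2⟩ := exists_isom_of_le_orb hP'C hsim hUs (hU.trans inf_le_right)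
    have h3 := isom_map_of_mem τ (hP'C (P'.inv_mem hu')) ((h2.symm hUs.2.1).trans h1)
    rw [← map_map_mul, inv_mul_cancel, map_map_one, ← map_map_mul] at h3
    exact hgout _ (P'.mul_mem (P'.inv_mem hu') hu) h3
  have hlands : ∀ v ∈ Orb τ P' W, Lands τ ⊥ n P' v := fun v hv => by
    have h1 := h v (orb_mono hP'P hv) g hg
    rw [sub_eq_neg_add] at h1
    have h2 := Lands.of_add (fun x hx y hy => orb_invariant hx hy) (fun x hx y hy => orb_invariant hx hy) hdisj
      (Submodule.neg_mem _ hv) (map_orb_le hgN (Submodule.mem_map_of_mem hv)) h1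
    simpa using h2.neg
  obtain ⟨j, hj, h1, h2⟩ := ih P' (hP.to_le hP'P) hP'C W hW hlands
  exact ⟨j + 1, Nat.succ_lt_succ hj, h1, fun v hv => by
    rw [Nat.succ_sub_succ]
    exact h2 v hv⟩

/-- The last derived term but one fixes every class. -/
theorem fix_class {n : ℕ} {P : Subgroup G} (hP : IsPGroup 2 P) (hPC : P ≤ normalizer (C : Set G))
    (h : ∀ v, Lands τ ⊥ n P v) {W : Submodule k V} (hW : IsSimpleSub (τ.comp C.subtype) W) {g : G}
    (hg : g ∈ dser (n - 1) P) : Isom (τ.comp C.subtype) W (W.map (τ g)) := by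
  obtain ⟨j, hj, h1, -⟩ := strip n P hP hPC W hW fun v _ => h v
  exact h1 g (dser_antitone (by omega) P hg)

end Cfsg.Agent.TwoLength
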