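import Cfsg.Agent.TwoLength.Recursion
import Cfsg.Agent.TwoLength.Strip

/-!
A piece of a module on which the deep derived terms act like a group with one involution.
-/

set_option autoImplicit false

namespace Cfsg.Agent.TwoLength

open Subgroup
open scoped commutatorElement
open Cfsg.Agent.HallHigman

universe u v w

variable {k : Type w} [Field k] {V : Type v} [AddCommGroup V] [Module k V] {G : Type u} [Group G]
  {τ : G →* Module.End k V}

/-- Differences transported to the image on an invariant subspace. -/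
theorem lands_restrict {H : Subgroup G} {U : Submodule k V} (hU : ∀ g ∈ H, ∀ v ∈ U, τ g v ∈ U)
    {Y : Type*} [Group Y] {π : H →* Y} {τ' : Y →* Module.End k U} (hτ' : ∀ h, τ' (π h) = subRep τ H U hU h)
    {J : Subgroup G} (hJ : J ≤ H) {S : Submodule k V} {n : ℕ} {v : U} (h : Lands τ S n J (v : V)) :
    Lands τ' (S.comap U.subtype) n ((J.subgroupOf H).map π) v := by
  rw [← map_subgroupOf_eq_of_le hJ, show (v : V) = U.subtype v from rfl,
    lands_map_iff (σ := subRep τ H U hU) H.subtype U.subtype n _ v (fun g _ w => rfl)] at h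
  rw [show v = (LinearMap.id : U →ₗ[k] U) v from rfl, lands_map_iff (σ := subRep τ H U hU) π LinearMap.id n _ _
    (fun g _ w => by rw [hτ']; rfl)]
  exact h

theorem mem_dser_restrict {H : Subgroup G} {Y : Type*} [Group Y] (π : H →* Y) {J : Subgroup G} (hJ : J ≤ H)
    {n : ℕ} {x : G} (hx : x ∈ H) (hd : x ∈ dser n J) : π ⟨x, hx⟩ ∈ dser n ((J.subgroupOf H).map π) := by
  rw [← map_dser]
  refine mem_map_of_mem π ?_
  rw [← map_subgroupOf_eq_of_le hJ, ← map_dser] at hd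
  obtain ⟨y, hy, e⟩ := hd
  rwa [show (⟨x, hx⟩ : H) = y from Subtype.ext e.symm]

variable [CharP k 2] [IsAlgClosed k] [FiniteDimensional k V] [Finite G] {q : ℕ} [hq : Fact q.Prime]

/-- A part of an irreducible group of class two on which a central involution of a group of operators is
fixed-point-free. -/
theorem exists_part [Nontrivial V] (hq2 : q ≠ 2) (hinj : Function.Injective τ) {C S : Subgroup G} {c : G}
    (hC : IsPGroup q C) (hirr : Irred (τ.comp C.subtype)) (hcl : ∀ u ∈ C, ∀ v ∈ C, Sc τ ⁅u, v⁆)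
    (hS : IsPGroup 2 S) (hSC : S ≤ normalizer (C : Set G)) (hcS : c ∈ S) (hc : ∀ s ∈ S, Commute s c)
    (hc2 : c * c = 1) (hc1 : c ≠ 1) :
    ∃ (D : Subgroup G) (E : Submodule k V), D ≤ C ∧ S ≤ normalizer (D : Set G) ∧
      IsSimpleSub (τ.comp D.subtype) E ∧ S ≤ mapStab τ E ∧ (∃ v ∈ E, τ c v ≠ v) ∧
        ∀ d ∈ D, Sc τ (d * (c * d * c⁻¹)) := by
  have hcC := hSC hcS
  have hconj : ∀ u ∈ C, c * u * c⁻¹ ∈ C := fun u hu => conj_mem_of_normalizer hcC hu
  let D : Subgroup G :=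
    { carrier := {u | u ∈ C ∧ Sc τ (u * (c * u * c⁻¹))}
      mul_mem' := fun {x y} hx hy => ⟨C.mul_mem hx.1 hy.1, by
        rw [show x * y * (c * (x * y) * c⁻¹) =
            x * (⁅y, c * x * c⁻¹⁆ * (c * x * c⁻¹)) * (y * (c * y * c⁻¹)) by rw [commutatorElement_def]; group,
          ((hcl y hy.1 _ (hconj x hx.1)).commute hinj (c * x * c⁻¹)).eq, ← mul_assoc x (c * x * c⁻¹)]
        exact (hx.2.mul (hcl y hy.1 _ (hconj x hx.1))).mul hy.2⟩
      one_mem' := ⟨C.one_mem, by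
        rw [show (1 : G) * (c * 1 * c⁻¹) = 1 by group]
        exact Sc.one⟩
      inv_mem' := fun {x} hx => ⟨C.inv_mem hx.1, by
        have h := hx.2.inv
        rw [show (x * (c * x * c⁻¹))⁻¹ = x * (c * x * c⁻¹) * ((x * (c * x * c⁻¹))⁻¹ * (x * (c * x * c⁻¹))⁻¹) by
          group] at h
        have h1 : Sc τ (c * x⁻¹ * c⁻¹ * x⁻¹) := by
          rw [show c * x⁻¹ * c⁻¹ * x⁻¹ = (x * (c * x * c⁻¹))⁻¹ by group]
          exact hx.2.inv
        rw [show x⁻¹ * (c * x⁻¹ * c⁻¹) = ⁅x⁻¹, c * x⁻¹ * c⁻¹⁆ * (c * x⁻¹ * c⁻¹ * x⁻¹) by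
          rw [commutatorElement_def]; group]
        exact (hcl _ (C.inv_mem hx.1) _ (hconj _ (C.inv_mem hx.1))).mul h1⟩ }
  have hcom : ∀ x ∈ fix C c, ∀ y ∈ D, Commute x y := by
    intro x hx y hy
    obtain ⟨hxC, hxc⟩ := mem_fix.1 hx
    set z' := y * (c * y * c⁻¹) with hz'
    have hz'c := (hy.2).commute hinj
    have hzC : ⁅x, y⁆ ∈ C := by
      rw [commutatorElement_def]
      exact C.mul_mem (C.mul_mem (C.mul_mem hxC hy.1) (C.inv_mem hxC)) (C.inv_mem hy.1)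
    have hzsc := hcl x hxC y hy.1
    have h2 : ⁅x, y⁆ = ⁅x, y⁆⁻¹ := by
      calc ⁅x, y⁆ = c * ⁅x, y⁆ * c⁻¹ := by rw [← (hzsc.commute hinj c).eq, mul_inv_cancel_right]
        _ = ⁅c * x * c⁻¹, c * y * c⁻¹⁆ := by rw [commutatorElement_def, commutatorElement_def]; group
        _ = ⁅x, y⁻¹ * z'⁆ := by rw [← hxc.eq, mul_inv_cancel_right, hz', inv_mul_cancel_left]
        _ = ⁅x, y⁻¹⁆ := by
          rw [commutatorElement_def, commutatorElement_def, ← mul_assoc, mul_inv_rev,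
            show x * y⁻¹ * z' * x⁻¹ * (z'⁻¹ * y⁻¹⁻¹) = x * y⁻¹ * (z' * x⁻¹) * z'⁻¹ * y⁻¹⁻¹ by group,
            (hz'c x⁻¹).eq, show x * y⁻¹ * (x⁻¹ * z') * z'⁻¹ = x * y⁻¹ * x⁻¹ by group]
        _ = y⁻¹ * ⁅x, y⁆⁻¹ * y := by rw [commutatorElement_def, commutatorElement_def]; group
        _ = ⁅x, y⁆⁻¹ := by rw [← (hzsc.inv.commute hinj y⁻¹).eq, inv_mul_cancel_right]
    exact commutatorElement_eq_one_iff_commute.1 (eq_one_of_sq hq2 hC hzC (mul_eq_one_iff_eq_inv.2 h2))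
  have hgen : ∀ U : Submodule k V, (∀ e ∈ fix C c, ∀ v ∈ U, τ e v ∈ U) → (∀ d ∈ D, ∀ v ∈ U, τ d v ∈ U) →
      ∀ u ∈ C, ∀ v ∈ U, τ u v ∈ U := by
    intro U h1 h2 u hu v hv
    have hu' := hconj u hu
    have hcc : ∀ x : G, c * (c * x * c⁻¹) * c⁻¹ = x := fun x => by
      rw [show c * (c * x * c⁻¹) * c⁻¹ = (c * c) * x * (c * c)⁻¹ by group, hc2, one_mul, inv_one, mul_one]
    have hp : u * (c * u * c⁻¹) ∈ fix C c := by
      refine mem_fix.2 ⟨C.mul_mem hu hu', (commute_of_sc hinj hq2 hC hc2 hcC (C.mul_mem hu hu') ?_).symm⟩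
      rw [show c * (u * (c * u * c⁻¹)) * c⁻¹ = c * u * c⁻¹ * (c * (c * u * c⁻¹) * c⁻¹) by group, hcc,
        show (u * (c * u * c⁻¹))⁻¹ * (c * u * c⁻¹ * u) = ⁅(c * u * c⁻¹)⁻¹, u⁻¹⁆ by
          rw [commutatorElement_def]; group]
      exact hcl _ (C.inv_mem hu') _ (C.inv_mem hu)
    have hm : (c * u * c⁻¹)⁻¹ * u ∈ D := by
      refine ⟨C.mul_mem (C.inv_mem hu') hu, ?_⟩
      rw [show c * ((c * u * c⁻¹)⁻¹ * u) * c⁻¹ = (c * (c * u * c⁻¹) * c⁻¹)⁻¹ * (c * u * c⁻¹) by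
          simp only [mul_assoc, mul_inv_rev, inv_inv, inv_mul_cancel_left], hcc,
        show (c * u * c⁻¹)⁻¹ * u * (u⁻¹ * (c * u * c⁻¹)) = 1 by group]
      exact Sc.one
    have hsq : u * u ∈ mapStab τ U := by
      rw [show u * u = u * (c * u * c⁻¹) * ((c * u * c⁻¹)⁻¹ * u) by group]
      exact mul_mem (le_mapStab h1 hp) (le_mapStab h2 hm)
    obtain ⟨j, hj⟩ := exists_sq_pow hq2 hC hu
    exact mem_of_mapStab (hj ▸ pow_mem hsq j) hv
  have hSD : S ≤ normalizer (D : Set G) := by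
    intro s hs
    refine mem_normalizer_iff_map_conj_eq.2 (Subgroup.eq_of_le_of_card_ge ?_
      (card_map_of_injective (MulAut.conj s).injective).ge)
    rintro _ ⟨x, hx, rfl⟩
    show s * x * s⁻¹ ∈ D
    refine ⟨conj_mem_of_normalizer (hSC hs) hx.1, ?_⟩
    rw [show s * x * s⁻¹ * (c * (s * x * s⁻¹) * c⁻¹) = s * x * s⁻¹ * ((c * s) * x * (c * s)⁻¹) by group,
      ← (hc s hs).eq, show s * x * s⁻¹ * (s * c * x * (s * c)⁻¹) = s * (x * (c * x * c⁻¹)) * s⁻¹ by group,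
      ← (hx.2.commute hinj s).eq, mul_inv_cancel_right]
    exact hx.2
  obtain ⟨E₀, -, hE₀⟩ := exists_simple_le (τ := τ.comp D.subtype) (U := ⊤) top_ne_bot fun _ _ _ => Submodule.mem_top
  have hall : ∀ s ∈ S, Isom (τ.comp D.subtype) E₀ (E₀.map (τ s)) := fun s hs =>
    isom_of_cover (E := (fix C c : Set G)) hirr (fun e he d hd => hcom e he d hd) (fix C c).one_mem
      (fun U h1 h2 => hgen U h1 h2) (fun e he e' he' => (fix C c).mul_mem he he') hE₀
      (simple_map_of_mem τ (hSD hs) hE₀)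
  obtain ⟨E, hE₀E, hstab⟩ := exists_invariant_simple hE₀ (Nat.card S) S le_rfl hS hSD hall
  have hE := hE₀E.simple hE₀
  refine ⟨D, E, fun x hx => hx.1, hSD, hE, hstab, ?_, fun d hd => hd.2⟩
  by_contra hfix
  push Not at hfix
  -- the translates of `E` by the fixed operators span the space
  have hfD : fix C c ≤ normalizer (D : Set G) := fun e he => by
    refine mem_normalizer_iff.2 fun x => ⟨fun hx => ?_, fun hx => ?_⟩
    · rwa [(hcom e he x hx).eq, mul_inv_cancel_right]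
    · have h := hcom _ ((fix C c).inv_mem he) _ hx
      have h' : x = e⁻¹ * (e * x * e⁻¹) * e := by group
      rw [h', h.eq, inv_mul_cancel_right]
      exact hx
  have htop : Orb τ (fix C c) E = ⊤ := (hirr _ fun u v hv => hgen _ (fun e he v hv => orb_invariant he hv)
    (fun d hd v hv => orb_invariant' hfD hE ⟨d, hd⟩ hv) u u.2 v hv).resolve_left fun h =>
      hE.1 (eq_bot_iff.2 (h ▸ le_orb))
  have hle : Orb τ (fix C c) E ≤ LinearMap.ker (opN τ c) := iSup_le fun e => by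
    rintro _ ⟨v, hv, rfl⟩
    exact map_ker_opN τ (mem_fix.1 e.2).2 (mem_ker_opN.2 (hfix v hv))
  refine hc1 (hinj (LinearMap.ext fun v => ?_))
  rw [map_one, Module.End.one_apply]
  exact mem_ker_opN.1 (hle (htop.ge Submodule.mem_top))

/-- A piece on which the last derived terms have a single involution. -/
theorem exists_piece (hq2 : q ≠ 2) (hinj : Function.Injective τ) {P C : Subgroup G} (hP : IsPGroup 2 P)
    (hC : IsPGroup q C) (hPC : P ≤ normalizer (C : Set G))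
    (hC2 : ∀ u ∈ C, ∀ v ∈ C, ∀ x ∈ C, Commute ⁅u, v⁆ x) {m : ℕ} (hL : ∀ v, Lands τ ⊥ (m + 2) P v) {c : G}
    (hc : c ∈ dser (m + 1) P) (hc2 : c * c = 1) (hcent : ∀ t ∈ P, Commute t c)
    (hmove : ∃ u ∈ C, ¬ Commute c u) :
    ∃ (S : Subgroup G) (E : Submodule k V), dser m P ≤ S ∧
      (∀ y ∈ P, (∀ W, IsSimpleSub (τ.comp C.subtype) W → Isom (τ.comp C.subtype) W (W.map (τ y))) → y ∈ S) ∧
      S ≤ P ∧ (∀ g ∈ S, ∀ v ∈ E, τ g v ∈ E) ∧ (∃ v ∈ E, τ c v ≠ v) ∧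
      (∀ t ∈ dser m P, (∀ v ∈ E, τ t (τ t v) = v) → (∀ v ∈ E, τ t v = v) ∨ ∀ v ∈ E, τ t v = τ c v) ∧
      ∀ t ∈ dser (m + 1) P, ∀ v ∈ E, τ t (τ t v) = v := by
  classical
  haveI := Fintype.ofFinite C
  obtain ⟨u, hu, hcu⟩ := hmove
  have hcP : c ∈ P := dser_le_self _ P hc
  have hu' : ⁅c, u⁆ ∈ C := by
    rw [commutatorElement_def]
    exact C.mul_mem (conj_mem_of_normalizer (hPC hcP) hu) (C.inv_mem hu)
  have hb : (τ.comp C.subtype) ⟨_, hu'⟩ ≠ 1 := fun h =>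
    hcu (commutatorElement_eq_one_iff_commute.1 (hinj (h.trans (map_one τ).symm)))
  obtain ⟨W, hW, w, hwW, hw⟩ := exists_simple_nontrivial (card_ne_zero (k := k) hq2 hC) hb
  let S : Subgroup G :=
    { carrier := {y | y ∈ P ∧ Isom (τ.comp C.subtype) W (W.map (τ y))}
      mul_mem' := fun {x y} hx hy => ⟨P.mul_mem hx.1 hy.1, isom_trans_map hPC hx.1 hx.2 hy.2⟩
      one_mem' := ⟨P.one_mem, by rw [map_map_one]; exact Isom.refl W⟩
      inv_mem' := fun {x} hx => ⟨P.inv_mem hx.1, by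
        have h1 := isom_map_of_mem τ (hPC (P.inv_mem hx.1)) hx.2
        rw [← map_map_mul, inv_mul_cancel, map_map_one] at h1
        exact h1.symm (simple_map_of_mem τ (hPC (P.inv_mem hx.1)) hW).2.1⟩ }
  have hSP : S ≤ P := fun x hx => hx.1
  obtain ⟨E₀, hWE₀, hstab₀⟩ := exists_invariant_simple hW (Nat.card S) S le_rfl (hP.to_le hSP) (hSP.trans hPC)
    fun s hs => hs.2
  have hE₀ := hWE₀.simple hW
  -- `c` moves `E₀`
  have hwE : ∃ v ∈ E₀, τ ⁅c, u⁆ v ≠ v := by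
    obtain ⟨f, hf⟩ := hWE₀
    refine ⟨f ⟨w, hwW⟩, Subtype.coe_prop _, fun h => hw ?_⟩
    have h1 := hf ⟨_, hu'⟩ ⟨w, hwW⟩ ⟨_, hW.2.1 ⟨_, hu'⟩ w hwW⟩ rfl
    have h2 := f.injective (Subtype.ext (h1.trans h))
    exact congrArg Subtype.val h2
  obtain ⟨j, hj, hfix, hlands⟩ := strip (m + 2) P hP hPC E₀ hE₀ fun v _ => hL v
  have hJS : ∀ g ∈ dser j P, g ∈ S := fun g hg => by
    have hgP := dser_le_self j P hg
    exact ⟨hgP, (hWE₀.trans (hfix g hg)).trans ((isom_map_of_mem τ (hPC hgP) hWE₀).symm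
      (simple_map_of_mem τ (hPC hgP) hW).2.1)⟩
  have hjm : j ≤ m := by
    by_contra hlt
    have hj' : j = m + 1 := by omega
    subst hj'
    obtain ⟨v, hv, hne⟩ := hwE
    refine hne ?_
    have hfix1 : ∀ x ∈ E₀, τ c x = x := fun x hx => by
      have h1 := hlands x (le_orb hx)
      rw [show m + 2 - (m + 1) = 1 by omega] at h1
      exact sub_eq_zero.1 ((Submodule.mem_bot k).1 (h1 c hc))
    have hci : c⁻¹ = c := inv_eq_of_mul_eq_one_right hc2
    rw [commutatorElement_def, hci, map_mul, map_mul, map_mul, Module.End.mul_apply, Module.End.mul_apply,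
      Module.End.mul_apply, hfix1 (τ u⁻¹ v) (hE₀.2.1 ⟨_, C.inv_mem hu⟩ v hv), apply_inv_apply, hfix1 v hv]
  have hBS : dser m P ≤ S := fun g hg => hJS g (dser_antitone hjm P hg)
  have hcS : c ∈ S := hBS (dser_antitone (Nat.le_succ m) P hc)
  -- the faithful image on `E₀`
  have hH : ∀ g ∈ C ⊔ S, ∀ v ∈ E₀, τ g v ∈ E₀ := fun g hg v hv => mem_of_mapStab
    ((sup_le (le_mapStab fun g hg v hv => hE₀.2.1 ⟨g, hg⟩ v hv) hstab₀ : C ⊔ S ≤ mapStab τ E₀) hg) hv
  set H := C ⊔ S with hHdef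
  haveI : Nontrivial E₀ := Submodule.nontrivial_iff_ne_bot.2 hE₀.1
  obtain ⟨Y, _, _, π, τ₀, hπ, hinj₀, hτ₀⟩ := exists_image (subRep τ H E₀ hH)
  have hCH : C ≤ H := le_sup_left
  have hSH : S ≤ H := le_sup_right
  set C' := (C.subgroupOf H).map π
  set S' := (S.subgroupOf H).map π
  set c' := π ⟨c, hSH hcS⟩ with hc'
  have hirr₀ : Irred (τ₀.comp C'.subtype) := fun U hU => by
    refine irred_subRep hE₀ U fun g v hv => ?_
    have h := hU ⟨π ⟨g, hCH g.2⟩, mem_map_of_mem π (show (⟨g, hCH g.2⟩ : H) ∈ C.subgroupOf H from g.2)⟩ v hv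
    rwa [MonoidHom.comp_apply, Subgroup.coe_subtype, hτ₀] at h
  have hqC' : IsPGroup q C' := (hC.comap_of_injective _ Subtype.val_injective).map π
  have hcl₀ : ∀ x ∈ C', ∀ y ∈ C', Sc τ₀ ⁅x, y⁆ := by
    rintro _ ⟨x, hx, rfl⟩ _ ⟨y, hy, rfl⟩
    refine sc_of_commute_all hirr₀ ?_
    rintro _ ⟨z, hz, rfl⟩
    rw [← map_commutatorElement]
    exact (show Commute ⁅x, y⁆ z from Subtype.ext (hC2 x hx y hy z hz).eq).map π
  have hc'1 : c' ≠ 1 := fun h => by
    obtain ⟨v, hv, hne⟩ := hwE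
    refine hne ?_
    have h1 : τ₀ (π ⁅(⟨c, hSH hcS⟩ : H), ⟨u, hCH hu⟩⁆) = 1 := by
      rw [map_commutatorElement, ← hc', h, commutatorElement_one_left, map_one]
    rw [hτ₀] at h1
    exact congrArg Subtype.val (LinearMap.congr_fun h1 ⟨v, hv⟩)
  obtain ⟨D, E, hDC, hSD, hE, hEstab, hEc, hEinv⟩ := exists_part hq2 hinj₀ hqC' hirr₀ hcl₀
    (((hP.to_le hSP).comap_of_injective _ Subtype.val_injective).map π : IsPGroup 2 S') (by
      rintro _ ⟨t, ht, rfl⟩
      refine mem_normalizer_iff_map_conj_eq.2 (Subgroup.eq_of_le_of_card_ge ?_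
        (card_map_of_injective (MulAut.conj (π t)).injective).ge)
      rintro _ ⟨_, ⟨x, hx, rfl⟩, rfl⟩
      exact ⟨t * x * t⁻¹, conj_mem_of_normalizer (C := C) (hPC (hSP ht)) hx, by simp⟩)
    (mem_map_of_mem π (show (⟨c, hSH hcS⟩ : H) ∈ S.subgroupOf H from hcS)) (by
      rintro _ ⟨t, ht, rfl⟩
      exact (show Commute t ⟨c, hSH hcS⟩ from Subtype.ext (hcent _ (hSP ht)).eq).map π)
    (by rw [← map_mul, show (⟨c, hSH hcS⟩ : H) * ⟨c, hSH hcS⟩ = 1 from Subtype.ext hc2, map_one]) hc'1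
  -- the frame on `E`
  have hK : ∀ g ∈ D ⊔ S', ∀ v ∈ E, τ₀ g v ∈ E := fun g hg v hv => mem_of_mapStab
    ((sup_le (le_mapStab fun g hg v hv => hE.2.1 ⟨g, hg⟩ v hv) hEstab : D ⊔ S' ≤ mapStab τ₀ E) hg) hv
  set K := D ⊔ S' with hKdef
  haveI : Nontrivial E := Submodule.nontrivial_iff_ne_bot.2 hE.1
  obtain ⟨Z, _, _, π', τ₁, hπ', hinj₁, hτ₁⟩ := exists_image (subRep τ₀ K E hK)
  have hDK : D ≤ K := le_sup_left
  have hS'K : S' ≤ K := le_sup_right
  have hc'K : c' ∈ K := hS'K (mem_map_of_mem π (show (⟨c, hSH hcS⟩ : H) ∈ S.subgroupOf H from hcS))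
  set C₁ := (D.subgroupOf K).map π'
  set J := dser j P with hJdef
  set J' := (J.subgroupOf H).map π with hJ'def
  set T := (J'.subgroupOf K).map π'
  set a := π' ⟨c', hc'K⟩ with ha
  have hJ'S' : J' ≤ S' := map_mono fun x hx => hJS _ hx
  have hn : c ∈ dser (m + 1 - j) J := by
    rw [hJdef, dser_add, show j + (m + 1 - j) = m + 1 by omega]; exact hc
  have hd : a ∈ dser (m + 1 - j) T := mem_dser_restrict π' (hJ'S'.trans hS'K) hc'K
    (mem_dser_restrict π (fun x hx => hSH (hJS x hx)) (hSH hcS) hn)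
  have haT : a ∈ T := dser_le_self _ _ hd
  have hqC₁ : IsPGroup q C₁ := ((hqC'.to_le hDC).comap_of_injective _ Subtype.val_injective).map π'
  have hF : Frame q τ₁ C₁ T a := by
    refine ⟨hinj₁, ?_, hqC₁, ?_, ?_, ?_, haT, ?_, ?_, ?_, ?_⟩
    · intro U hU
      refine irred_subRep hE U fun g v hv => ?_
      have h := hU ⟨π' ⟨g, hDK g.2⟩, mem_map_of_mem π' (show (⟨g, hDK g.2⟩ : K) ∈ D.subgroupOf K from g.2)⟩ v hv
      rwa [MonoidHom.comp_apply, Subgroup.coe_subtype, hτ₁] at h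
    · rintro _ ⟨x, hx, rfl⟩ _ ⟨y, hy, rfl⟩
      obtain ⟨μ, hμ⟩ := hcl₀ x (hDC hx) y (hDC hy)
      refine ⟨μ, ?_⟩
      rw [← map_commutatorElement, hτ₁]
      exact LinearMap.ext fun v => Subtype.ext (LinearMap.congr_fun hμ (v : E₀))
    · exact ((((hP.to_le (dser_le_self j P)).comap_of_injective _ Subtype.val_injective).map π :
        IsPGroup 2 J').comap_of_injective _ Subtype.val_injective).map π'
    · rintro _ ⟨t, ht, rfl⟩
      refine mem_normalizer_iff_map_conj_eq.2 (Subgroup.eq_of_le_of_card_ge ?_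
        (card_map_of_injective (MulAut.conj (π' t)).injective).ge)
      rintro _ ⟨_, ⟨x, hx, rfl⟩, rfl⟩
      exact ⟨t * x * t⁻¹, conj_mem_of_normalizer (C := D) (hSD (hJ'S' ht)) hx, by simp⟩
    · rintro _ ⟨⟨_, hyK⟩, ⟨t, ht, rfl⟩, rfl⟩
      exact (show Commute (⟨π t, hyK⟩ : K) ⟨c', hc'K⟩ from Subtype.ext
        (((show Commute t ⟨c, hSH hcS⟩ from Subtype.ext (hcent _ (hSP (hJS _ ht))).eq).map π).eq)).map π'
    · rw [ha, ← map_mul, show (⟨c', hc'K⟩ : K) * ⟨c', hc'K⟩ = 1 from Subtype.ext (by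
        show c' * c' = 1
        rw [hc', ← map_mul, show (⟨c, hSH hcS⟩ : H) * ⟨c, hSH hcS⟩ = 1 from Subtype.ext hc2, map_one]), map_one]
    · intro h
      obtain ⟨v, hv, hne⟩ := hEc
      refine hne ?_
      have h1 : τ₁ (π' ⟨c', hc'K⟩) = 1 := by rw [← ha, h, map_one]
      rw [hτ₁] at h1
      exact congrArg Subtype.val (LinearMap.congr_fun h1 ⟨v, hv⟩)
    · rintro _ ⟨d, hd', rfl⟩ hcomm
      refine sc_of_sq hq2 hqC₁ (mem_map_of_mem π' hd') ?_
      obtain ⟨μ, hμ⟩ := hEinv d hd'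
      refine ⟨μ, ?_⟩
      have hxx : π' d * π' d = π' (d * (⟨c', hc'K⟩ * d * ⟨c', hc'K⟩⁻¹)) := by
        rw [map_mul, map_mul, map_mul, map_inv, ← ha, hcomm.eq, mul_inv_cancel_right]
      rw [hxx, hτ₁]
      exact LinearMap.ext fun v => Subtype.ext (LinearMap.congr_fun hμ (v : E₀))
  have hland : ∀ v : E, Lands τ₁ (LinearMap.ker (opN τ₁ a)) (m + 1 - j) T v := fun v => by
    have h0 := hlands ((v : E₀) : V) (le_orb (v : E₀).2)
    rw [show m + 2 - j = m + 1 - j + 1 by omega] at h0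
    have h2 := lands_restrict hK hτ₁ (hJ'S'.trans hS'K)
      (lands_restrict hH hτ₀ (fun x hx => hSH (hJS x hx)) (h0.last hn))
    refine h2.mono le_rfl fun x hx => ?_
    simp only [Submodule.mem_comap, LinearMap.mem_ker, LinearMap.sub_apply, Module.End.one_apply,
      Submodule.coe_subtype, sub_eq_zero] at hx
    rw [mem_ker_opN, ha, hτ₁]
    refine Subtype.ext (Subtype.ext ?_)
    show ((τ₀ c' (x : E₀) : E₀) : V) = ((x : E₀) : V)
    rw [hτ₀]
    exact hx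
  have hjm' : j = m := by
    by_contra hne
    exact no_deep hq2 _ E Z τ₁ C₁ T a (m + 1 - j) le_rfl hF (by omega) hd hland
  rw [show m + 1 - j = 1 by omega] at hland
  have hinvS : ∀ g ∈ S, ∀ v ∈ E.map E₀.subtype, τ g v ∈ E.map E₀.subtype := by
    rintro g hg _ ⟨v, hv, rfl⟩
    refine ⟨τ₀ (π ⟨g, hSH hg⟩) v,
      mem_of_mapStab (hEstab (mem_map_of_mem π (show (⟨g, hSH hg⟩ : H) ∈ S.subgroupOf H from hg))) hv, ?_⟩
    rw [hτ₀]
    rfl
  refine ⟨S, E.map E₀.subtype, hBS, fun y hy h => ⟨hy, h W hW⟩, hSP, hinvS, ?_, ?_, ?_⟩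
  · obtain ⟨v, hv, hne⟩ := hEc
    refine ⟨(v : V), ⟨v, hv, rfl⟩, fun h => hne (Subtype.ext ?_)⟩
    rw [hτ₀]
    exact h
  · intro t ht ht2
    have htJ : t ∈ J := by rw [hJdef, hjm']; exact ht
    have htS' : π ⟨t, hSH (hJS t htJ)⟩ ∈ J' := mem_map_of_mem π htJ
    set t₁ : K := ⟨_, hS'K (hJ'S' htS')⟩ with ht₁
    have happ : ∀ v : E, (((τ₁ (π' t₁) v : E) : E₀) : V) = τ t ((v : E₀) : V) := fun v => by
      rw [hτ₁]
      show ((τ₀ (π ⟨t, _⟩) (v : E₀) : E₀) : V) = _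
      rw [hτ₀]; rfl
    have happc : ∀ v : E, (((τ₁ a v : E) : E₀) : V) = τ c ((v : E₀) : V) := fun v => by
      rw [ha, hτ₁]
      show ((τ₀ c' (v : E₀) : E₀) : V) = _
      rw [hc', hτ₀]; rfl
    have h2 : π' t₁ * π' t₁ = 1 := hinj₁ (by
      rw [map_one]
      refine LinearMap.ext fun v => Subtype.ext (Subtype.ext ?_)
      rw [map_mul, Module.End.mul_apply, happ, happ]
      exact ht2 _ ⟨_, v.2, rfl⟩)
    rcases unique_involution hF hq2 (fun g hg v => LinearMap.mem_ker.1 (hland v g hg))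
      (mem_map_of_mem π' (show t₁ ∈ J'.subgroupOf K from htS')) h2 with h | h
    · left
      rintro _ ⟨v, hv, rfl⟩
      have h3 := happ ⟨v, hv⟩
      rw [h, map_one, Module.End.one_apply] at h3
      exact h3.symm
    · right
      rintro _ ⟨v, hv, rfl⟩
      have h3 := happ ⟨v, hv⟩
      rw [h, happc] at h3
      exact h3.symm
  · rintro t ht _ ⟨v, -, rfl⟩
    have h := hlands (v : V) (le_orb v.2)
    rw [hJdef, hjm', show m + 2 - m = 2 by omega] at h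
    have h1 : τ t (τ t (v : V) - v) - (τ t (v : V) - v) ∈ (⊥ : Submodule k V) :=
      h t (dser_antitone (Nat.le_succ m) P ht) t (by rw [← dser_succ']; exact ht)
    rw [Submodule.mem_bot, map_sub, sub_eq_add_char_two k, sub_eq_add_char_two k, sub_eq_add_char_two k] at h1
    show τ t (τ t (v : V)) = v
    rw [show τ t (τ t (v : V)) + τ t v + (τ t v + v) = τ t (τ t (v : V)) + v + (τ t v + τ t v) by abel,
      two_torsion k, add_zero, ← sub_eq_add_char_two k, sub_eq_zero] at h1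
    exact h1

end Cfsg.Agent.TwoLength
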