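import Cfsg.Agent.TwoLength.Base
import Cfsg.Agent.TwoLength.Four

/-!
The induction on frames: the iterated differences of a frame are never short.
-/

set_option autoImplicit false

namespace Cfsg.Agent.TwoLength

open Subgroup
open Cfsg.Agent.HallHigman

universe u v w

variable {k : Type w} [Field k] [CharP k 2] [IsAlgClosed k] {q : ℕ} [hq : Fact q.Prime]

section

variable {V : Type v} [AddCommGroup V] [Module k V] [FiniteDimensional k V] [Nontrivial V] {G : Type u} [Group G]
  [Finite G] {τ : G →* Module.End k V} {C T : Subgroup G} {a : G}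

omit [IsAlgClosed k] [FiniteDimensional k V] [Nontrivial V] [Finite G] in
theorem eq_one_of_opN_eq_zero (hinj : Function.Injective τ) {x : G} (h : opN τ x = 0) : x = 1 :=
  hinj (by rw [opN, sub_eq_zero] at h; rw [h, map_one])

/-- One round of differences leaves a single involution. -/
theorem unique_involution (F : Frame q τ C T a) (hq2 : q ≠ 2)
    (h : ∀ g ∈ T, ∀ v, opN τ a (τ g v - v) = 0) {t : G} (ht : t ∈ T) (ht2 : t * t = 1) : t = 1 ∨ t = a := by
  by_contra hne
  push Not at hne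
  have S : Split T a t := ⟨ht, ht2, hne.1, hne.2⟩
  set c := a * t with hc
  -- the two nilpotent parts annihilate each other
  have hAB : ∀ v, opN τ t (opN τ c v) = 0 := fun v => by
    have hta : τ a = τ c * τ t := by
      rw [← map_mul, hc, mul_assoc, ht2, mul_one]
    have h1 : opN τ c (opN τ t v) = 0 := by
      have h2 := h t ht v
      rwa [opN_apply τ a, hta, Module.End.mul_apply, ← opN_apply τ t v, mem_ker_opN.1
        (LinearMap.mem_ker.2 (opN_sq τ ht2 v)), ← opN_apply τ c] at h2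
    have hct : Commute t c := (S.commute F).mul_right (Commute.refl t)
    rw [← h1, opN_apply τ t, opN_comm τ hct, ← map_sub, ← opN_apply]
  set M : Submodule k V := ⨅ u : fix C c, (LinearMap.ker (opN τ t)).comap (τ (u : G)) with hM
  have hmem : ∀ v, v ∈ M ↔ ∀ u ∈ fix C c, opN τ t (τ u v) = 0 := fun v => by simp [hM]
  have h1 : ∀ u ∈ fix C c, ∀ v ∈ M, τ u v ∈ M := fun u hu v hv => (hmem _).2 fun u' hu' => by
    rw [← Module.End.mul_apply (τ u') (τ u) v, ← map_mul]
    exact (hmem v).1 hv _ (mul_mem hu' hu)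
  have h2 : ∀ u ∈ fix C t, ∀ v ∈ M, τ u v ∈ M := fun u hu v hv => (hmem _).2 fun u' hu' => by
    rw [← Module.End.mul_apply (τ u') (τ u) v, ← map_mul, (commute_factors F hq2 S hu' hu).eq, map_mul, Module.End.mul_apply,
      ← opN_comm τ (mem_fix.1 hu).2, (hmem v).1 hv u' hu', map_zero]
  rcases F.irr M (fun u v hv => invariant_of_factors F hq2 S h1 h2 u u.2 v hv) with hb | ht'
  · refine S.ba ?_
    have hc1 : c = 1 := eq_one_of_opN_eq_zero F.inj (LinearMap.ext fun v => by
      have hv : opN τ c v ∈ M := (hmem _).2 fun u hu => by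
        rw [opN_comm τ (mem_fix.1 hu).2, hAB]
      rwa [hb, Submodule.mem_bot] at hv)
    calc t = a * a * t := by rw [F.a2, one_mul]
      _ = a := by rw [mul_assoc, ← hc, hc1, mul_one]
  · refine S.b1 (eq_one_of_opN_eq_zero F.inj (LinearMap.ext fun v => ?_))
    have hv : v ∈ M := ht' ▸ Submodule.mem_top
    have := (hmem v).1 hv 1 (one_mem _)
    rwa [map_one, Module.End.one_apply] at this

end

/-- No frame has short differences along a deep derived series. -/
theorem no_deep (hq2 : q ≠ 2) : ∀ (d : ℕ) (V : Type v) [AddCommGroup V] [Module k V] [FiniteDimensional k V]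
    [Nontrivial V] (G : Type u) [Group G] [Finite G] (τ : G →* Module.End k V) (C T : Subgroup G) (a : G) (n : ℕ),
    Module.finrank k V ≤ d → Frame q τ C T a → 2 ≤ n → a ∈ dser n T →
      ¬ ∀ v, Lands τ (LinearMap.ker (opN τ a)) n T v := by
  intro d
  induction d with
  | zero =>
    intro V _ _ _ _ G _ _ τ C T a n hd
    exact absurd hd (Nat.not_le.2 Module.finrank_pos)
  | succ d ih =>
  intro V _ _ _ _ G _ _ τ C T a n hd F hn han hL
  obtain ⟨b, hbT, hb2, hb1, hba, hbD, hbt⟩ :=
    exists_four F.pT F.aT F.ac F.a2 F.ne (dser_antitone hn T han)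
  have S : Split T a b := ⟨hbT, hb2, hb1, hba⟩
  set c := a * b with hc
  have hbc : b = a * c := by rw [hc, ← mul_assoc, F.a2, one_mul]
  have hfin : ∀ (T₁ : Subgroup G) (m : ℕ), T₁ ≤ T → (∀ t ∈ T₁, Commute t b) → 2 ≤ m → a ∈ dser m T₁ →
      (∀ v ∈ LinearMap.ker (opN τ c),
        Lands τ ((LinearMap.range (opN τ c)).comap (opN τ b)) m T₁ v) → False := by
    intro T₁ m hT₁ hT₁b hm ham hl
    obtain ⟨G', _, _, τ', C', T', a', F', ha', hL', hlt, _⟩ := quotient_frame F hq2 S hT₁ hT₁b ham hl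
    exact ih (BQuot τ (a * b)) G' τ' C' T' a' m (by omega) F' hm ha' hL'
  have hT₁c : ∀ t ∈ T, Commute t b → Commute t c := fun t ht htb => (F.ac t ht).mul_right htb
  by_cases hcen : ∀ t ∈ T, Commute t b
  · -- central: the same depth on a smaller space
    refine hfin T n le_rfl hcen hn han fun v hv => ?_
    refine ((hL v).inf (K := LinearMap.ker (opN τ c)) (fun g hg x hx => map_ker_opN τ (hT₁c g hg (hcen g hg)) hx)
      hv).mono le_rfl ?_
    rintro x ⟨hx1, hx2⟩
    rw [Submodule.mem_comap, show opN τ b x = 0 by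
      rw [opN_apply, hbc, map_mul, Module.End.mul_apply, mem_ker_opN.1 hx2, mem_ker_opN.1 hx1, sub_self]]
    exact zero_mem _
  push Not at hcen
  obtain ⟨g₀, hg₀, hg₀b⟩ := hcen
  rcases Nat.eq_or_lt_of_le hn with rfl | hn3
  · exact base_false F hq2 S hbt hbD hg₀ hg₀b han hL
  -- swapped: one step down on a smaller space
  obtain ⟨m, rfl⟩ : ∃ m, n = m + 1 := ⟨n - 1, by omega⟩
  have hle := commutator_le_of_self T
  refine hfin _ m hle hbD (by omega) han fun v hv => ?_
  have h1 : g₀ * b * g₀⁻¹ = c := (hbt g₀ hg₀).resolve_left fun h => hg₀b (mul_inv_eq_iff_eq_mul.1 h)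
  have h2 : g₀ * c * g₀⁻¹ = b := by
    rw [hc, show g₀ * (a * b) * g₀⁻¹ = g₀ * a * g₀⁻¹ * (g₀ * b * g₀⁻¹) by group, h1, (F.ac g₀ hg₀).eq,
      mul_inv_cancel_right, hc, ← mul_assoc, F.a2, one_mul]
  have hgv : τ g₀ v ∈ LinearMap.ker (opN τ b) := mem_ker_opN.2 (by
    conv_rhs => rw [← mem_ker_opN.1 hv]
    rw [← Module.End.mul_apply, ← map_mul, ← Module.End.mul_apply, ← map_mul, mul_inv_eq_iff_eq_mul.1 h2])
  have h3 : Lands τ (LinearMap.ker (opN τ a) ⊔ LinearMap.ker (opN τ b)) m ⁅T, T⁆ v := by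
    have hA : Lands τ (LinearMap.ker (opN τ b)) m ⁅T, T⁆ (τ g₀ v) :=
      lands_of_invariant (fun g hg x hx => map_ker_opN τ (hbD g hg) hx) hgv
    have hB := (hL v g₀ hg₀).mono le_rfl (le_sup_left (b := LinearMap.ker (opN τ b)))
    have h := (hA.mono le_rfl (le_sup_right (a := LinearMap.ker (opN τ a)))).sub hB
    rwa [sub_sub_cancel] at h
  refine (h3.inf (K := LinearMap.ker (opN τ c)) (fun g hg x hx => map_ker_opN τ (hT₁c g (hle hg) (hbD g hg)) hx)
    hv).mono le_rfl ?_
  rintro x ⟨hx1, hx2⟩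
  obtain ⟨s, hs, y, hy, rfl⟩ := Submodule.mem_sup.1 hx1
  refine ⟨s, ?_⟩
  rw [map_add, LinearMap.mem_ker.1 hy, add_zero, opN_apply, opN_apply, hc, (S.commute F).symm.eq, map_mul,
    Module.End.mul_apply, mem_ker_opN.1 hs]

end Cfsg.Agent.TwoLength
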